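import Cfsg.Agent.Lib.SelfThree.Quot
import Mathlib.Algebra.Group.End
import Mathlib.Algebra.BigOperators.Intervals

/-!
A group of exponent two acted on regularly by a group with a fixed-point-free element of order 3.
-/

set_option autoImplicit false
set_option linter.style.haveILetI false
set_option linter.unusedSectionVars false

open Finset
open Cfsg.Agent.SelfThree

namespace Cfsg.Agent.SixCent

variable {X : Type*} [Group X] {W : Type*} [CommGroup W]

/-- If `v·v^u·v^{u²} = 1` and `u` conjugates `m` of order 7 to `m²` or `m⁴`, then `m` acts trivially. -/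
theorem seven_fixed (φ : X →* MulAut W) (hexp : ∀ w : W, w * w = 1) {u m : X}
    (hu3 : φ u ^ 3 = 1) (hm7 : φ m ^ 7 = 1) (hr : φ (u * m * u⁻¹) = φ m ^ 2 ∨ φ (u * m * u⁻¹) = φ m ^ 4)
    (hv : ∀ w : W, w * φ u w * φ u (φ u w) = 1) (w : W) : φ m w = w := by
  set μ := φ m with hμ
  set ν := φ u with hν
  set P : W → W := fun w => ∏ j ∈ range 7, (μ ^ j) w with hP
  have hfix : μ (P w) = P w := by
    have e : μ (P w) = ∏ j ∈ range (6 + 1), (μ ^ (j + 1)) w := by
      rw [hP, map_prod]
      exact Finset.prod_congr rfl fun j _ => by rw [pow_succ']; rfl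
    rw [e, hP]
    show _ = ∏ j ∈ range (6 + 1), (μ ^ j) w
    conv_lhs => rw [Finset.prod_range_succ, show 6 + 1 = 7 from rfl, hm7]
    conv_rhs => rw [Finset.prod_range_succ', pow_zero]
  have hsum : P w * P (ν w) * P (ν (ν w)) = 1 := by
    simp only [hP, ← Finset.prod_mul_distrib, ← map_mul, hv, map_one, Finset.prod_const_one]
  have hred : ∀ a : ℕ, μ ^ a = μ ^ (a % 7) := fun a => pow_eq_pow_mod a hm7
  obtain ⟨r, hr2, hνμ⟩ : ∃ r, (r = 2 ∨ r = 4) ∧ ν * μ = μ ^ r * ν := by
    have h1 : ν * μ * ν⁻¹ = φ (u * m * u⁻¹) := by rw [hμ, hν, map_mul, map_mul, map_inv]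
    rcases hr with e | e
    · exact ⟨2, Or.inl rfl, mul_inv_eq_iff_eq_mul.1 (h1.trans e)⟩
    · exact ⟨4, Or.inr rfl, mul_inv_eq_iff_eq_mul.1 (h1.trans e)⟩
  have hcomm : ∀ j : ℕ, ν * μ ^ j = μ ^ (r * j) * ν := fun j => by
    induction j with
    | zero => simp
    | succ j ih => rw [pow_succ, ← mul_assoc, ih, mul_assoc, hνμ, ← mul_assoc, ← pow_add, mul_add, mul_one]
  have hconj : ∀ j < 7, w * (μ ^ ((j + r * (7 - j)) % 7)) (ν w) *
      (μ ^ ((j + r * r * (7 - j)) % 7)) (ν (ν w)) = 1 := by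
    intro j hj
    have h0 := congrArg (μ ^ j) (hv ((μ ^ (7 - j)) w))
    simp only [map_mul, map_one] at h0
    have e0 : (μ ^ j) ((μ ^ (7 - j)) w) = w := by
      show (μ ^ j * μ ^ (7 - j)) w = w
      rw [← pow_add, show j + (7 - j) = 7 by omega, hm7]; rfl
    have e1 : (μ ^ j) (ν ((μ ^ (7 - j)) w)) = (μ ^ ((j + r * (7 - j)) % 7)) (ν w) := by
      show (μ ^ j * (ν * μ ^ (7 - j))) w = (μ ^ ((j + r * (7 - j)) % 7) * ν) w
      rw [hcomm, ← mul_assoc, ← pow_add, ← hred]
    have e2 : (μ ^ j) (ν (ν ((μ ^ (7 - j)) w))) = (μ ^ ((j + r * r * (7 - j)) % 7)) (ν (ν w)) := by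
      show (μ ^ j * (ν * (ν * μ ^ (7 - j)))) w = (μ ^ ((j + r * r * (7 - j)) % 7) * (ν * ν)) w
      rw [hcomm, ← mul_assoc ν, hcomm, ← mul_assoc, ← mul_assoc, ← mul_assoc, ← pow_add, ← hred,
        mul_assoc r r, mul_assoc]
    rwa [e0, e1, e2] at h0
  have h7 : ∏ j ∈ range 7, (w * (μ ^ ((j + r * (7 - j)) % 7)) (ν w) *
      (μ ^ ((j + r * r * (7 - j)) % 7)) (ν (ν w))) = 1 :=
    Finset.prod_eq_one fun j hj => hconj j (Finset.mem_range.1 hj)
  have hkey : w * P (ν w) * P (ν (ν w)) = 1 := by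
    rw [← h7, Finset.prod_mul_distrib, Finset.prod_mul_distrib, Finset.prod_const, Finset.card_range]
    have hw7 : w ^ 7 = w := by
      rw [show 7 = 2 * 3 + 1 from rfl, pow_succ, pow_mul, pow_two, hexp, one_pow, one_mul]
    rw [hw7]
    rcases hr2 with rfl | rfl <;>
      simp only [hP, Finset.prod_range_succ, Finset.prod_range_zero] <;> norm_num <;> ac_rfl
  have : P w = w := mul_right_cancel (mul_right_cancel (hsum.trans hkey.symm))
  rwa [this] at hfix

variable [Finite X] [Finite W]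

/-- The regular group has order 7. -/
theorem regular_seven (φ : X →* MulAut W) (hexp : ∀ w : W, w * w = 1) {u : X} {t : W} (ht : t ≠ 1)
    (htu : φ u t = t) (hfix : ∀ w, φ u w = w → w = 1 ∨ w = t) (M : Subgroup X) (hodd : ¬ 2 ∣ Nat.card M)
    (h3 : ¬ 3 ∣ Nat.card M) (hF : Fpf u M)
    (hex : ∀ w : W, w ≠ 1 → ∃ m ∈ M, φ m t = w) (huniq : ∀ m ∈ M, φ m t = t → m = 1)
    (hW : ∃ w : W, w ≠ 1 ∧ w ≠ t) : Nat.card M = 7 := by
  classical
  haveI : Fact (Nat.Prime 7) := ⟨by norm_num⟩
  have hexp7 : ∀ y ∈ M, y ^ 7 = 1 := by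
    intro y hy
    set y' := u * y * u⁻¹ with hy'
    set y'' := u⁻¹ * y * u with hy''
    have hyy : Commute y y' := hF.commute_conj hy
    have hyy' : Commute y y'' := hF.commute_invariant hy hy (Commute.refl y)
    have hyy'' : Commute y' y'' := hF.commute_invariant (hF.conj y hy) hy hyy.symm
    have hprod : y * y' * y'' = 1 := hF.prod_eq hy
    have e5 : u * u = u⁻¹ := eq_inv_of_mul_eq_one_right (by simpa [pow_three, mul_assoc] using hF.cube)
    have c1 : u * y = y' * u := by rw [hy']; group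
    have c2 : u * y' = y'' * u := by
      rw [hy', hy'', show u * (u * y * u⁻¹) = (u * u) * y * u⁻¹ by group, e5]
      rw [mul_assoc _ u u, e5]
    have c3 : u * y'' = y * u := by rw [hy'']; group
    have hu1 : ∀ a b : X, u * a = b * u → φ u (φ a t) = φ b t := fun a b e => by
      calc φ u (φ a t) = φ (u * a) t := by rw [map_mul]; rfl
        _ = φ b (φ u t) := by rw [e, map_mul]; rfl
        _ = φ b t := by rw [htu]
    set A := φ (y * y * y) t with hA
    set B := φ (y * y) t with hB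
    set C := φ y t with hC
    set e1 := φ y t * φ y' t * φ y'' t with he1
    set e2 := φ (y * y') t * φ (y * y'') t * φ (y' * y'') t with he2
    have f1 : e1 = 1 ∨ e1 = t := hfix _ (by
      rw [he1, map_mul, map_mul, hu1 _ _ c1, hu1 _ _ c2, hu1 _ _ c3]
      ac_rfl)
    have f2 : e2 = 1 ∨ e2 = t := hfix _ (by
      have m : ∀ a b a' b' : X, u * a = a' * u → u * b = b' * u → u * (a * b) = a' * b' * u :=
        fun a b a' b' ea eb => by rw [← mul_assoc, ea, mul_assoc, eb, ← mul_assoc]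
      rw [he2, map_mul, map_mul, hu1 _ _ (m _ _ _ _ c1 c2), hu1 _ _ (m _ _ _ _ c1 c3),
        hu1 _ _ (m _ _ _ _ c2 c3), hyy.symm.eq, hyy'.symm.eq]
      ac_rfl)
    have key : A * φ (y * y) e1 * φ y e2 * t = 1 := by
      have a1 : φ (y * y) e1 = A * φ (y * y * y') t * φ (y * y * y'') t := by
        rw [he1, map_mul, map_mul, hA]; simp only [map_mul, MulAut.mul_apply]
      have a2 : φ y e2 = φ (y * y * y') t * φ (y * y * y'') t * t := by
        have : φ y (φ (y' * y'') t) = t := by
          rw [← MulAut.mul_apply, ← map_mul, ← mul_assoc, hprod, map_one]; rfl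
        rw [he2, map_mul, map_mul, this]; simp only [map_mul, MulAut.mul_apply]
      rw [a1, a2]
      generalize φ (y * y * y') t = p
      generalize φ (y * y * y'') t = q
      calc A * (A * p * q) * (p * q * t) * t = (A * A) * (p * p) * (q * q) * (t * t) := by ac_rfl
        _ = 1 := by simp [hexp]
    have step : ∀ a : X, ∀ w : W, φ (y * a) w = φ y (φ a w) := fun a w => by rw [map_mul]; rfl
    have sC : φ y C = B := (step y t).symm
    have sB : φ y B = A := by rw [hA, hB, ← step, mul_assoc]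
    have hinv : ∀ a b : W, a * b = 1 → a = b := fun a b h =>
      mul_right_cancel (h.trans (hexp b).symm)
    have h7of : φ (y ^ 7) t = t → y ^ 7 = 1 := huniq _ (pow_mem hy 7)
    have s7 : φ (y ^ 7) t = φ y (φ y (φ y (φ y A))) := by
      rw [hA]
      simp only [← MulAut.mul_apply, ← map_mul]
      congr 2
      simp only [pow_succ, pow_zero, one_mul, mul_assoc]
    have eB : φ (y * y) t = B := rfl
    have hexp2 : ∀ a b : W, a * (a * b) = b := fun a b => by rw [← mul_assoc, hexp, one_mul]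
    rcases f1 with g1 | g1 <;> rcases f2 with g2 | g2 <;> rw [g1, g2] at key <;>
      (try simp only [map_one, mul_one] at key)
    · have h3' : φ (y * y * y) t = t := hinv _ _ key
      have h31 : y * y * y = 1 := huniq _ (mul_mem (mul_mem hy hy) hy) h3'
      have : orderOf y ∣ 3 := orderOf_dvd_of_pow_eq_one (by rw [pow_three, ← mul_assoc, h31])
      rcases (Nat.dvd_prime Nat.prime_three).1 this with e | e
      · rw [orderOf_eq_one_iff.1 e, one_pow]
      · exact absurd (e ▸ M.orderOf_dvd_natCard hy) h3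
    · rw [← hC] at key
      have hAe : A = C * t := hinv _ _ (by rw [← key]; ac_rfl)
      refine h7of ?_
      rw [s7, hAe, map_mul, ← hC, sC, map_mul, sB, sC, hAe, map_mul, map_mul, map_mul, sB, sC, hAe,
        ← hC]
      try simp only [map_mul, sC, sB, hAe, ← hC]
      simp only [mul_assoc, mul_comm, mul_left_comm, hexp, hexp2, mul_one]
    · rw [eB] at key
      have hAe : A = B * t := hinv _ _ (by rw [← key]; ac_rfl)
      refine h7of ?_
      rw [s7, hAe]
      try simp only [map_mul, sC, sB, hAe, ← hC]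
      simp only [mul_assoc, mul_comm, mul_left_comm, hexp, hexp2, mul_one]
    · rw [eB, ← hC] at key
      have hAe : A = B * C * t := hinv _ _ (by rw [← key]; ac_rfl)
      have h4 : φ (y ^ 4) t = t := by
        rw [show y ^ 4 = y * (y * y * y) by simp only [pow_succ, pow_zero, one_mul, mul_assoc], step, ← hA,
          hAe]
        simp only [map_mul, sC, sB, hAe, ← hC]
        calc _ = t * (B * B) * (C * C) := by ac_rfl
          _ = t := by simp [hexp]
      have h41 := huniq _ (pow_mem hy 4) h4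
      have : orderOf y ∣ 2 ^ 2 := orderOf_dvd_of_pow_eq_one h41
      obtain ⟨i, -, hi⟩ := (Nat.dvd_prime_pow Nat.prime_two).1 this
      rcases Nat.eq_zero_or_pos i with rfl | hi0
      · rw [orderOf_eq_one_iff.1 (by simpa using hi : orderOf y = 1), one_pow]
      · exact absurd (((dvd_pow_self 2 hi0.ne').trans (hi ▸ M.orderOf_dvd_natCard hy))) hodd
  -- semiregularity
  have hsemi : ∀ m ∈ M, ∀ w, w ≠ 1 → φ m w = w → m = 1 := by
    intro m hm w hw hmw
    obtain ⟨m0, hm0, rfl⟩ := hex w hw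
    have h1 : φ (m0⁻¹ * (m * m0)) t = t := by
      rw [map_mul, map_mul, MulAut.mul_apply, MulAut.mul_apply, hmw, ← MulAut.mul_apply, ← map_mul,
        inv_mul_cancel, map_one]
      rfl
    have h2 := huniq _ (mul_mem (inv_mem hm0) (mul_mem hm hm0)) h1
    rw [inv_mul_eq_one] at h2
    exact (mul_eq_right.1 h2.symm)
  have hnt : Nontrivial M := by
    obtain ⟨w, hw1, hwt⟩ := hW
    obtain ⟨m, hm, e⟩ := hex w hw1
    refine ⟨⟨⟨m, hm⟩, 1, fun h => hwt ?_⟩⟩
    rw [← e, show m = 1 from congrArg Subtype.val h, map_one]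
    rfl
  haveI := hF.nilpotent
  haveI : Nontrivial (Subgroup.center M) := FixedPointFreeThompson.center_nontrivial_of_nilpotent
  obtain ⟨⟨⟨m, hm⟩, hmc⟩, hm1⟩ := exists_ne (1 : Subgroup.center M)
  have hm1' : m ≠ 1 := fun h => hm1 (Subtype.ext (Subtype.ext h))
  have hord : orderOf m = 7 := orderOf_eq_prime (hexp7 m hm) hm1'
  suffices hall : ∀ z ∈ M, z ∈ Subgroup.zpowers m by
    rw [show M = Subgroup.zpowers m from le_antisymm (fun z hz => hall z hz)
      (Subgroup.zpowers_le.2 hm), Nat.card_zpowers, hord]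
  intro z hz
  by_contra hzm
  have hc : Commute z m := congrArg Subtype.val (Subgroup.mem_center_iff.1 hmc ⟨z, hz⟩)
  obtain ⟨w, hw1, -⟩ := hW
  have horbit : ∀ g ∈ M, g ≠ 1 → ∏ i ∈ range 7, φ (g ^ i) w = 1 := by
    intro g hg hg1
    by_contra hne
    refine hg1 (hsemi g hg _ hne ?_)
    rw [map_prod, Finset.prod_range_succ, Finset.prod_range_succ' (fun i => φ (g ^ i) w)]
    congr 1
    · exact Finset.prod_congr rfl fun i _ => by rw [pow_succ' g i, map_mul]; rfl
    · rw [← MulAut.mul_apply, ← map_mul, ← pow_succ', hexp7 g hg, pow_zero]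
  have h1 : ∏ k ∈ range 7, ∏ i ∈ range 7, φ ((z * m ^ k) ^ i) w = 1 :=
    Finset.prod_eq_one fun k _ => horbit _ (mul_mem hz (pow_mem hm k)) fun h => hzm (by
      rw [mul_eq_one_iff_eq_inv.1 h]
      exact inv_mem (pow_mem (Subgroup.mem_zpowers m) k))
  rw [Finset.prod_comm, Finset.prod_range_succ' _ 6] at h1
  have h2 : ∀ i ∈ range 6, ∏ k ∈ range 7, φ ((z * m ^ k) ^ (i + 1)) w = 1 := by
    intro i hi
    have hmi : m ^ (i + 1) ≠ 1 := fun h => by
      have := orderOf_dvd_of_pow_eq_one h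
      rw [hord] at this
      have := Nat.le_of_dvd (by omega) this
      have := Finset.mem_range.1 hi
      omega
    calc ∏ k ∈ range 7, φ ((z * m ^ k) ^ (i + 1)) w
        = φ (z ^ (i + 1)) (∏ k ∈ range 7, φ ((m ^ (i + 1)) ^ k) w) := by
          rw [map_prod]
          refine Finset.prod_congr rfl fun k _ => ?_
          rw [(hc.pow_right k).mul_pow, map_mul, ← pow_mul, mul_comm k, pow_mul]
          rfl
      _ = 1 := by rw [horbit _ (pow_mem hm _) hmi, map_one]
  rw [Finset.prod_eq_one h2, one_mul] at h1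
  simp only [pow_zero, map_one, MulAut.one_apply, Finset.prod_const, Finset.card_range] at h1
  refine hw1 ?_
  rw [← h1, show 7 = 2 * 3 + 1 from rfl, pow_succ, pow_mul, pow_two, hexp, one_pow, one_mul]

end Cfsg.Agent.SixCent
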