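import Cfsg.Agent.Lib.SixCent.Core
import Cfsg.Agent.Lib.SixCent.Regular
import Cfsg.Agent.Lib.SmallCent.Main
import Cfsg.Agent.S3189

/-!
The only central involution of `S0` is `t`.
-/

set_option autoImplicit false
set_option linter.style.haveILetI false
set_option linter.unusedSectionVars false

open scoped commutatorElement
open Subgroup Cfsg.Agent.SelfThree

namespace Cfsg.Agent.SixCent

universe v

variable {G : Type v} [Group G]

/-- The central elements of order at most two. -/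
def omega1 (P : Subgroup G) : Subgroup G where
  carrier := {z | z ∈ P ∧ z * z = 1 ∧ ∀ q ∈ P, Commute q z}
  one_mem' := ⟨one_mem _, one_mul 1, fun q _ => Commute.one_right q⟩
  mul_mem' := fun {a b} ⟨ha, ha2, hac⟩ ⟨hb, hb2, hbc⟩ => ⟨mul_mem ha hb, by
    rw [mul_assoc, ← mul_assoc b a, (hac b hb).eq, mul_assoc a b, hb2, mul_one, ha2],
    fun q hq => (hac q hq).mul_right (hbc q hq)⟩
  inv_mem' := fun {a} ⟨ha, ha2, hac⟩ => ⟨inv_mem ha, by rw [← mul_inv_rev, ha2, inv_one],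
    fun q hq => (hac q hq).inv_right⟩

theorem omega1_le (P : Subgroup G) : omega1 P ≤ P := fun _ h => h.1

theorem omega1_conj {P : Subgroup G} [Finite G] {g : G} (hg : ∀ q ∈ P, g * q * g⁻¹ ∈ P) {z : G}
    (hz : z ∈ omega1 P) : g * z * g⁻¹ ∈ omega1 P := by
  refine ⟨hg z hz.1, by rw [conj_mul, hz.2.1]; group, fun q hq => ?_⟩
  have heq : P.map (MulAut.conj g).toMonoidHom = P := by
    refine eq_of_le_of_card_ge ?_ (card_map_of_injective (MulAut.conj g).injective).ge
    rintro _ ⟨x, hx, rfl⟩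
    exact hg x hx
  obtain ⟨q', hq', rfl⟩ := heq.symm ▸ hq
  exact (hz.2.2 q' hq').map (MulAut.conj g).toMonoidHom

instance omega1_comm (P : Subgroup G) : IsMulCommutative (omega1 P) :=
  ⟨⟨fun a b => Subtype.ext (b.2.2.2 a a.2.1).eq⟩⟩

theorem omega1_ne_bot [Finite G] {P : Subgroup G} (hP : IsPGroup 2 P) (hne : P ≠ ⊥) : omega1 P ≠ ⊥ := by
  haveI : Fact (Nat.Prime 2) := ⟨Nat.prime_two⟩
  haveI := (Subgroup.nontrivial_iff_ne_bot P).2 hne
  haveI := hP.center_nontrivial
  obtain ⟨k, hk⟩ := (hP.to_subgroup (center P)).exists_card_eq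
  have h1 := Finite.one_lt_card (α := center P)
  have h2 : 2 ∣ Nat.card (center P) := by
    rw [hk] at h1 ⊢
    refine dvd_pow_self 2 ?_
    rintro rfl
    simp at h1
  obtain ⟨⟨z, hz⟩, hz2⟩ := exists_prime_orderOf_dvd_card' 2 h2
  rw [Subgroup.orderOf_mk, ← orderOf_coe] at hz2
  intro hbot
  have : (z : G) ∈ omega1 P := ⟨z.2, sq_eq_one_of_invol hz2, fun q hq =>
    congrArg Subtype.val (mem_center_iff.1 hz ⟨q, hq⟩)⟩
  exact ne_one_of_invol hz2 ((eq_bot_iff_forall _).1 hbot _ this)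

/-- The action of the induced group. -/
noncomputable def toAut (A : Subgroup G) : Aut' A →* MulAut A :=
  QuotientGroup.lift _ (normalizerMonoidHom A) (normalizerMonoidHom_ker (H := A)).ge

theorem toAut_act (A : Subgroup G) (g : normalizer (A : Set G)) (a : A) :
    ((toAut A (act A g) a : A) : G) = (g : G) * a * (g : G)⁻¹ := rfl

theorem toAut_injective (A : Subgroup G) : Function.Injective (toAut A) := by
  rw [← MonoidHom.ker_eq_bot_iff, toAut, QuotientGroup.ker_lift, normalizerMonoidHom_ker,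
    QuotientGroup.map_mk'_self]

variable [Finite G]

/-- The image of a Sylow subgroup in the induced group. -/
noncomputable def sylowImage (A : Subgroup G) (S : Sylow 2 G) (hS : (S : Subgroup G) ≤ normalizer (A : Set G)) :
    Sylow 2 (Aut' A) :=
  haveI : Fact (Nat.Prime 2) := ⟨Nat.prime_two⟩
  (S.subtype hS).mapSurjective (QuotientGroup.mk'_surjective _)

theorem mem_sylowImage {A : Subgroup G} {S : Sylow 2 G} {hS : (S : Subgroup G) ≤ normalizer (A : Set G)}
    {x : Aut' A} : x ∈ (sylowImage A S hS : Subgroup (Aut' A)) ↔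
      ∃ g : normalizer (A : Set G), (g : G) ∈ (S : Subgroup G) ∧ act A g = x :=
  Iff.rfl

theorem card_psl7 : Nat.card (Matrix.ProjectiveSpecialLinearGroup (Fin 2) (ZMod 7)) = 168 := by
  haveI : Fact (Nat.Prime 7) := ⟨by norm_num⟩
  have h := SmallCent.card_psl (ZMod 7)
  rw [ZMod.card] at h
  norm_num at h
  rw [Nat.card_eq_fintype_card]
  omega

/-- The alternatives when four does not divide the order. -/
theorem tri_small {X : Type v} [Group X] [Finite X] {x : X} (hx : orderOf x = 3)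
    (hC : centralizer ({x} : Set X) = zpowers x) (h4 : ¬ 4 ∣ Nat.card X) :
    ∃ N : Subgroup X, N.Normal ∧ Group.IsNilpotent N ∧ ¬ 3 ∣ Nat.card N ∧
      (N.index = 3 ∨ N.index = 6) := by
  rcases SelfThree.main _ X rfl x hx hC with ⟨N, hN, hnil, hco, hq⟩ | ⟨N, hN, -, -, ⟨e⟩⟩ | e
  · refine ⟨N, hN, hnil, (Nat.Prime.coprime_iff_not_dvd Nat.prime_three).1 hco.symm, ?_⟩
    rcases hq with h | ⟨⟨e⟩⟩
    · exact Or.inl h
    · refine Or.inr ?_
      show Nat.card (X ⧸ N) = 6
      rw [Nat.card_congr e.toEquiv, Nat.card_perm, Nat.card_fin]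
      rfl
  · exfalso
    refine h4 ?_
    have h := N.index_mul_card
    have h60 : N.index = 60 := by
      show Nat.card (X ⧸ N) = 60
      rw [Nat.card_congr e.toEquiv, nat_card_alternatingGroup, Nat.card_fin]
      rfl
    rw [h60] at h
    exact h ▸ dvd_mul_of_dvd_left (by norm_num) _
  · exfalso
    refine h4 ?_
    obtain ⟨e⟩ := e
    rw [Nat.card_congr e.toEquiv, card_psl7]
    norm_num

/-- A self-centralising element of order 3 is fixed-point-free on a normal subgroup of order prime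
to 3. -/
theorem fpf_normal {X : Type v} [Group X] [Finite X] {x : X} (hx : orderOf x = 3)
    (hC : centralizer ({x} : Set X) = zpowers x) {N : Subgroup X} (hN : N.Normal)
    (h3 : ¬ 3 ∣ Nat.card N) : Fpf x N where
  cube := by rw [← hx]; exact pow_orderOf_eq_one x
  conj := fun m hm => hN.conj_mem m hm x
  fixed m hm hc := by
    have h1 : m ∈ zpowers x := hC ▸ mem_centralizer_singleton_iff.2 hc.symm.eq
    have h2 : orderOf m ∣ 3 := hx ▸ orderOf_dvd_of_mem_zpowers h1
    rcases (Nat.dvd_prime Nat.prime_three).1 h2 with e | e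
    · exact orderOf_eq_one_iff.1 e
    · exact absurd (e ▸ N.orderOf_dvd_natCard hm) h3

namespace Sol

variable {t : G} (d : Sol t) (ht : orderOf t = 2)

theorem omega1_normal {g : G} (hg : g ∈ CC t) {z : G} (hz : z ∈ omega1 d.S0) :
    g * z * g⁻¹ ∈ omega1 d.S0 := omega1_conj (d.normS g hg) hz

include ht in
theorem t_omega : t ∈ omega1 d.S0 :=
  ⟨d.t_mem, sq_eq_one_of_invol ht, fun _ hq => mem_CC.1 (d.S0_le hq)⟩

include ht in
theorem T_le_omega : zpowers t ≤ omega1 d.S0 := zpowers_le.2 (d.t_omega ht)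

theorem omega1_cent : ∀ q ∈ d.S0, ∀ a ∈ omega1 d.S0, Commute q a := fun q hq _ ha => ha.2.2 q hq

variable (h : Hyp G) [IsSimpleGroup G] (hne : ¬ omega1 d.S0 ≤ zpowers t) (S : Sylow 2 G)
  (hS : (S : Subgroup G) ≤ CC t)

include d in
theorem sylow_norm : (S : Subgroup G) ≤ CC t → (S : Subgroup G) ≤ normalizer (omega1 d.S0 : Set G) :=
  fun hS => hS.trans (cc_le_norm fun _ hg _ ha => d.omega1_normal hg ha)

include ht hne hS in
/-- The involutions in the centre of a Sylow subgroup. -/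
theorem center_mem {z : G} (hz : z ∈ (S : Subgroup G)) (hz2 : z * z = 1)
    (hc : ∀ s ∈ (S : Subgroup G), Commute s z) : z ∈ omega1 d.S0 := by
  by_cases hz0 : z ∈ d.S0
  · exact ⟨hz0, hz2, fun q hq => hc q (d.S0_le_sylow S hS hq)⟩
  · exfalso
    obtain ⟨k, hk⟩ := IsPGroup.iff_orderOf.1 S.isPGroup' ⟨z, hz⟩
    rw [Subgroup.orderOf_mk] at hk
    exact d.outside_moves ht (omega1_le _) (fun g hg a ha => d.omega1_normal hg ha) d.omega1_cent hne
      (hS hz) ⟨k, hk⟩ hz0 fun a ha => (hc a (d.S0_le_sylow S hS ha.1)).symm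

include ht hne hS in
theorem moved_mem {n : G} (hn : n ∈ normalizer ((S : Subgroup G) : Set G)) :
    n * t * n⁻¹ ∈ omega1 d.S0 := by
  refine d.center_mem ht hne S hS ((mem_normalizer_iff.1 hn t).1 (d.S0_le_sylow S hS d.t_mem))
    (by rw [conj_mul, sq_eq_one_of_invol ht]; group) fun s hs => ?_
  have hs' : n⁻¹ * s * n ∈ (S : Subgroup G) := by
    have := (mem_normalizer_iff.1 (inv_mem hn) s).1 hs
    rwa [inv_inv] at this
  have h2 := (mem_CC.1 (hS hs')).map (MulAut.conj n).toMonoidHom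
  simpa [mul_assoc] using h2

include ht h hne hS in
/-- The Sylow subgroup is not in `S0`. -/
theorem omega_contra_normal (hSS : (S : Subgroup G) ≤ d.S0) : False := by
  classical
  haveI : Fact (Nat.Prime 2) := ⟨Nat.prime_two⟩
  set W := omega1 d.S0 with hW
  have hWle : W ≤ d.S0 := omega1_le _
  have hnW : ∀ g ∈ CC t, ∀ a ∈ W, g * a * g⁻¹ ∈ W := fun g hg a ha => d.omega1_normal hg ha
  have htW := d.t_omega ht
  have hSeq : (S : Subgroup G) = d.S0 := le_antisymm hSS (d.S0_le_sylow S hS)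
  have hSN := d.sylow_norm S hS
  have hNS : normalizer ((S : Subgroup G) : Set G) ≤ normalizer (W : Set G) :=
    norm_of_conj fun n hn a ha => omega1_conj (fun q hq => hSeq ▸ (mem_normalizer_iff.1 hn q).1
      (hSeq.symm ▸ hq)) ha
  have hu := d.ub_ord ht hWle hnW hne
  have hC := d.ub_self ht hWle hnW htW hne
  -- the induced group has odd order
  have himg : ∀ x ∈ (sylowImage W S hSN : Subgroup (Aut' W)), x = 1 := by
    rintro x ⟨g, hg, rfl⟩
    exact act_eq_one.2 fun a ha => ha.2.2 _ (hSS hg)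
  have hodd : ¬ 2 ∣ Nat.card (Aut' W) := by
    intro h2
    have h3 := (sylowImage W S hSN).dvd_card_of_dvd_card h2
    rw [(eq_bot_iff_forall _).2 himg, card_bot] at h3
    omega
  obtain ⟨M, hMn, hMnil, hM3, hMi⟩ := tri_small hu hC fun h4 => hodd ((by norm_num : 2 ∣ 4).trans h4)
  have hM2 : ¬ 2 ∣ Nat.card M := fun h2 => hodd (h2.trans (card_subgroup_dvd_card M))
  have hMi3 : M.index = 3 := hMi.resolve_right fun h6 => hodd ⟨3 * Nat.card M, by
    rw [← M.index_mul_card, h6]; ring⟩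
  have hF : Fpf (d.ub hnW) M := fpf_normal hu hC hMn hM3
  have hcover : ∀ x : Aut' W, ∃ m ∈ M, ∃ j : ℤ, x = m * d.ub hnW ^ j := by
    intro x
    have hcard : Nat.card (Aut' W ⧸ M) = 3 := hMi3
    haveI : Fact (Nat.Prime 3) := ⟨Nat.prime_three⟩
    have hub : (QuotientGroup.mk' M (d.ub hnW)) ≠ 1 := fun e => by
      have := orderOf_dvd_natCard M ((QuotientGroup.eq_one_iff _).1 e)
      rw [hu] at this
      exact hM3 this
    obtain ⟨j, hj⟩ := mem_zpowers_iff.1 (mem_zpowers_of_prime_card hcard hub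
      (g' := QuotientGroup.mk' M x))
    rw [← map_zpow] at hj
    refine ⟨x * (d.ub hnW ^ j)⁻¹, ?_, j, (inv_mul_cancel_right _ _).symm⟩
    rw [← QuotientGroup.eq_one_iff, ← QuotientGroup.mk'_apply, map_mul, map_inv, hj, mul_inv_cancel]
  let φ : Aut' W →* MulAut W := toAut W
  let tW : W := ⟨t, htW⟩
  have hut : φ (d.ub hnW) tW = tW := Subtype.ext (by
    rw [show φ = toAut W from rfl, ub, toAut_act]
    show d.u * t * d.u⁻¹ = t
    rw [(mem_CC.1 d.u_mem).eq, mul_inv_cancel_right])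
  letI : CommGroup W := IsMulCommutative.instCommGroup
  have hutj : ∀ j : ℤ, φ (d.ub hnW ^ j) tW = tW := fun j => by
    rw [map_zpow]
    exact MulAction.mem_stabilizer_iff.1
      (zpow_mem (show φ (d.ub hnW) ∈ MulAction.stabilizer (MulAut W) tW from hut) j)
  have hlift : ∀ w : W, w ≠ 1 → ∃ n : normalizer (W : Set G),
      (n : G) ∈ normalizer ((S : Subgroup G) : Set G) ∧ φ (act W n) tW = w := by
    intro w hw
    have hw2 : orderOf (w : G) = 2 := orderOf_eq_two w.2.2.1 fun e => hw (Subtype.ext e)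
    obtain ⟨n, hn, e⟩ := fusion_center S (fun s hs => mem_CC.1 (hS hs))
      (fun s hs => w.2.2.2 s (hSS hs)) (h.one t _ ht hw2)
    exact ⟨⟨n, hNS hn⟩, hn, Subtype.ext e⟩
  have hex : ∀ w : W, w ≠ 1 → ∃ m ∈ M, φ m tW = w := by
    intro w hw
    obtain ⟨n, -, hn⟩ := hlift w hw
    obtain ⟨m, hm, j, e⟩ := hcover (act W n)
    refine ⟨m, hm, ?_⟩
    rw [← hn, e, map_mul, MulAut.mul_apply, hutj]
  have huniq : ∀ m ∈ M, φ m tW = tW → m = 1 := by
    intro m hm hmt
    obtain ⟨g, rfl⟩ := QuotientGroup.mk'_surjective _ m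
    have hg : (g : G) ∈ CC t := by
      have := congrArg Subtype.val hmt
      rw [show φ = toAut W from rfl, toAut_act] at this
      exact mem_CC.2 (mul_inv_eq_iff_eq_mul.1 this)
    obtain ⟨y, hy, j, e⟩ := d.stab_eq ht hWle hnW htW hne S hS hg
    rw [himg (act W y) ⟨y, hy, rfl⟩, one_mul] at e
    rw [e] at hm ⊢
    have h3 : orderOf (d.ub hnW ^ j) ∣ 3 := hu ▸ orderOf_dvd_of_mem_zpowers (zpow_mem (mem_zpowers _) j)
    rcases (Nat.dvd_prime Nat.prime_three).1 h3 with e' | e'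
    · exact orderOf_eq_one_iff.1 e'
    · exact absurd (e' ▸ M.orderOf_dvd_natCard hm) hM3
  obtain ⟨w₀, hw₀, hw₀t⟩ : ∃ w : W, w ≠ 1 ∧ w ≠ tW := by
    obtain ⟨w, hw, hwt⟩ := SetLike.not_le_iff_exists.1 hne
    refine ⟨⟨w, hw⟩, fun e => hwt ?_, fun e => hwt ?_⟩
    · rw [show w = 1 from congrArg Subtype.val e]; exact one_mem _
    · rw [show w = t from congrArg Subtype.val e]; exact mem_zpowers _
  have htW1 : tW ≠ 1 := fun e => ne_one_of_invol ht (congrArg Subtype.val e)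
  have h7 : Nat.card M = 7 := regular_seven φ (fun w => Subtype.ext w.2.2.1) htW1 hut
    (fun w hw => by
      have h' := congrArg Subtype.val hw
      rw [show φ = toAut W from rfl, ub, toAut_act] at h'
      rcases mem_zpowers_two ht (d.fix_eq ht w.2.1 (mul_inv_eq_iff_eq_mul.1 h')) with e | e
      · exact Or.inl (Subtype.ext e)
      · exact Or.inr (Subtype.ext e)) M hM2 hM3 hF hex huniq ⟨w₀, hw₀, hw₀t⟩
  haveI : Fact (Nat.Prime 7) := ⟨by norm_num⟩
  have hW8 : Nat.card W = 8 := by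
    have : Nat.card {w : W // w ≠ 1} = Nat.card M := by
      refine (Nat.card_eq_of_bijective (fun m : M => (⟨φ m tW, fun e => htW1 (by
        simpa using congrArg (φ (m : Aut' W))⁻¹ e)⟩ : {w : W // w ≠ 1})) ⟨fun a b e => ?_, fun w => ?_⟩).symm
      · have e' : φ a tW = φ b tW := congrArg Subtype.val e
        refine Subtype.ext (inv_mul_eq_one.1 (huniq _ (mul_mem (inv_mem a.2) b.2) ?_))
        rw [map_mul, MulAut.mul_apply, ← e', ← MulAut.mul_apply, ← map_mul, inv_mul_cancel, map_one]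
        rfl
      · obtain ⟨m, hm, e⟩ := hex w.1 w.2
        exact ⟨⟨m, hm⟩, Subtype.ext e⟩
    haveI i1 := Fintype.ofFinite W
    haveI i2 := Fintype.ofFinite {w : W // w ≠ 1}
    rw [h7, Nat.card_eq_fintype_card, Fintype.card_subtype_compl, Fintype.card_subtype_eq,
      ← Nat.card_eq_fintype_card] at this
    omega
  -- an element of `N(S)` inducing an element of order 7
  obtain ⟨g₀, hg₀S, hm, hm1⟩ : ∃ g : normalizer (W : Set G),
      (g : G) ∈ normalizer ((S : Subgroup G) : Set G) ∧ act W g ∈ M ∧ act W g ≠ 1 := by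
    obtain ⟨n, hn, e⟩ := hlift w₀ hw₀
    obtain ⟨m, hm, j, ej⟩ := hcover (act W n)
    have huS : d.u ∈ normalizer ((S : Subgroup G) : Set G) := by
      rw [hSeq]
      exact norm_of_conj (H := CC t) (fun g hg q hq => d.normS g hg q hq) d.u_mem
    refine ⟨n * (⟨d.u, cc_le_norm hnW d.u_mem⟩ : normalizer (W : Set G)) ^ (-j),
      mul_mem hn (by push_cast; exact zpow_mem huS _), ?_⟩
    have e2 : act W (n * (⟨d.u, cc_le_norm hnW d.u_mem⟩ : normalizer (W : Set G)) ^ (-j)) = m := by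
      rw [map_mul, map_zpow, ej, zpow_neg, show act W ⟨d.u, cc_le_norm hnW d.u_mem⟩ = d.ub hnW from rfl,
        mul_inv_cancel_right]
    rw [e2]
    refine ⟨hm, fun e1 => hw₀t ?_⟩
    rw [← e, ej, e1, one_mul, hutj]
  have hmord : orderOf (act W g₀) = 7 := by
    refine orderOf_eq_prime ?_ hm1
    rw [← h7]
    exact congrArg Subtype.val (pow_card_eq_one' (x := (⟨_, hm⟩ : M)))
  have hMz : M = zpowers (act W g₀) := (eq_of_le_of_card_ge (zpowers_le.2 hm)
    (by rw [h7, Nat.card_zpowers, hmord])).symm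
  have hsemi : ∀ a ∈ W, (g₀ : G) * a * (g₀ : G)⁻¹ = a → a = 1 := by
    intro a ha hfa
    by_contra hne1
    obtain ⟨m, hmM, e⟩ := hex ⟨a, ha⟩ fun e => hne1 (congrArg Subtype.val e)
    have hc : Commute m (act W g₀) := by
      obtain ⟨i, rfl⟩ := mem_zpowers_iff.1 (hMz ▸ hmM)
      exact (Commute.refl _).zpow_left i
    refine hm1 (huniq _ hm ?_)
    have h1 : φ (act W g₀) (φ m tW) = φ m tW := by
      rw [e]; exact Subtype.ext hfa
    rw [← MulAut.mul_apply, ← map_mul, ← hc.eq, map_mul, MulAut.mul_apply] at h1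
    exact (φ m).injective h1
  -- `S = W`
  have hSW : d.S0 = W := by
    by_contra hne0
    have hlt : ¬ d.S0 ≤ W := fun hle => hne0 (le_antisymm hle hWle)
    let H : Subgroup G := normalizer ((S : Subgroup G) : Set G)
    haveI : (W.subgroupOf H).Normal := normal_subgroupOf_of_le_normalizer hNS
    let π := QuotientGroup.mk' (W.subgroupOf H)
    have hS0H : d.S0 ≤ H := hSeq ▸ le_normalizer
    let P := (d.S0.subgroupOf H).map π
    have hP2 : IsPGroup 2 P := (d.two.comap_subtype).map π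
    have hPne : P ≠ ⊥ := fun e => hlt fun q hq => by
      have := (eq_bot_iff_forall _).1 e _ (mem_map_of_mem π (show ⟨q, hS0H hq⟩ ∈ d.S0.subgroupOf H from hq))
      exact mem_subgroupOf.1 ((QuotientGroup.eq_one_iff _).1 this)
    let V := omega1 P
    letI : CommGroup V := IsMulCommutative.instCommGroup
    have hconjP : ∀ x : H ⧸ W.subgroupOf H, ∀ q ∈ P, x * q * x⁻¹ ∈ P := by
      intro x
      obtain ⟨a, rfl⟩ := QuotientGroup.mk'_surjective _ x
      rintro _ ⟨q, hq, rfl⟩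
      refine ⟨a * q * a⁻¹, ?_, by simp only [map_mul, map_inv, π]⟩
      have h1 : (q : G) ∈ (S : Subgroup G) := hSeq.symm ▸ hq
      have := (mem_normalizer_iff.1 a.2 (q : G)).1 h1
      exact hSeq ▸ this
    have hVn : ∀ x : H ⧸ W.subgroupOf H, x ∈ normalizer (V : Set (H ⧸ W.subgroupOf H)) := fun x =>
      norm_of_conj (H := (⊤ : Subgroup (H ⧸ W.subgroupOf H)))
        (fun y _ a ha => omega1_conj (hconjP y) ha) (mem_top x)
    let ψ : H →* MulAut V :=
      (normalizerMonoidHom V).comp (π.codRestrict _ fun a => hVn (π a))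
    have hψ : ∀ (a : H) (v : V), ((ψ a v : V) : H ⧸ W.subgroupOf H) = π a * v * (π a)⁻¹ :=
      fun _ _ => rfl
    have htriv : ∀ a : H, (a : G) ∈ d.M → ψ a = 1 := by
      intro a ha
      obtain ⟨q, hq, o, ho, e⟩ := d.mem_M ha
      have hoH : o ∈ H := by
        rw [show o = q⁻¹ * (a : G) by rw [e]; group]
        exact mul_mem (inv_mem (hS0H hq)) a.2
      refine MulEquiv.ext fun v => Subtype.ext ?_
      rw [hψ, show a = (⟨q, hS0H hq⟩ : H) * ⟨o, hoH⟩ from Subtype.ext e, map_mul]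
      obtain ⟨v', hv', ev⟩ := v.2.1
      have hov : Commute (π ⟨o, hoH⟩) (v : H ⧸ W.subgroupOf H) := by
        rw [← ev]
        exact (show Commute (⟨o, hoH⟩ : H) v' from Subtype.ext (d.comm _ hv' o ho).symm.eq).map π
      have hqv : Commute (π ⟨q, hS0H hq⟩) (v : H ⧸ W.subgroupOf H) :=
        v.2.2.2 _ (mem_map_of_mem π (show ⟨q, hS0H hq⟩ ∈ d.S0.subgroupOf H from hq))
      show π ⟨q, hS0H hq⟩ * π ⟨o, hoH⟩ * v * (π ⟨q, hS0H hq⟩ * π ⟨o, hoH⟩)⁻¹ = v
      rw [(hqv.mul_left hov).eq, mul_inv_cancel_right]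
    have huH : d.u ∈ H := by
      show d.u ∈ normalizer _
      rw [hSeq]
      exact norm_of_conj (H := CC t) (fun g hg q hq => d.normS g hg q hq) d.u_mem
    let U : H := ⟨d.u, huH⟩
    let K : H := ⟨g₀, hg₀S⟩
    have htriv' : ∀ a : H, ∀ ha : (a : G) ∈ normalizer (W : Set G), act W ⟨a, ha⟩ = 1 → ψ a = 1 := by
      intro a ha h1
      have h2 := act_eq_one.1 h1
      exact htriv a (d.cent_A_mem ht hWle hnW d.omega1_cent hne (mem_CC.2 (h2 t htW)) h2)
    have hrpow : ∃ r : ℕ, (r = 2 ∨ r = 4) ∧ d.ub hnW * act W g₀ * (d.ub hnW)⁻¹ = act W g₀ ^ r := by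
      obtain ⟨r, hr7, hr⟩ : ∃ r < 7, d.ub hnW * act W g₀ * (d.ub hnW)⁻¹ = act W g₀ ^ r := by
        obtain ⟨r, hr⟩ := (mem_zpowers_iff_mem_range_orderOf).1 (hMz ▸ hF.conj _ hm) |> Finset.mem_image.1
        exact ⟨r, hmord ▸ Finset.mem_range.1 hr.1, hr.2.symm⟩
      set m := act W g₀
      have hstep : ∀ i : ℕ, d.ub hnW * m ^ i * (d.ub hnW)⁻¹ = m ^ (r * i) := fun i => by
        rw [← conj_pow, hr, ← pow_mul]
      have h3 : m ^ (r * r * r) = m := by
        have e3 : d.ub hnW ^ 3 = 1 := by rw [← hu]; exact pow_orderOf_eq_one _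
        calc m ^ (r * r * r) = d.ub hnW * (d.ub hnW * (d.ub hnW * m * (d.ub hnW)⁻¹) * (d.ub hnW)⁻¹) * (d.ub hnW)⁻¹ := by
              rw [hr, hstep, hstep, mul_assoc]
          _ = d.ub hnW ^ 3 * m * (d.ub hnW ^ 3)⁻¹ := by rw [pow_three]; group
          _ = m := by rw [e3]; group
      have hr1 : r ≠ 1 := fun e => hm1 (hF.fixed m hm (mul_inv_eq_iff_eq_mul.1 (by rw [hr, e, pow_one])))
      have h3' : (r * r * r) % 7 = 1 := by
        have e1 : m ^ (r * r * r) = m ^ 1 := by rw [h3, pow_one]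
        have := pow_eq_pow_iff_modEq.1 e1
        rw [hmord] at this
        exact this
      refine ⟨r, ?_, hr⟩
      clear * - hr7 hr1 h3'
      interval_cases r <;> omega
    obtain ⟨r, hr24, hr⟩ := hrpow
    obtain ⟨v, hv1⟩ : ∃ v : V, v ≠ 1 := by
      obtain ⟨x, hx, hx1⟩ : ∃ x ∈ V, x ≠ 1 := by
        by_contra hh
        push Not at hh
        exact omega1_ne_bot hP2 hPne ((eq_bot_iff_forall _).2 hh)
      exact ⟨⟨x, hx⟩, fun e => hx1 (congrArg Subtype.val e)⟩
    have hK7 : ψ K ^ 7 = 1 := by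
      rw [← map_pow]
      refine htriv' _ (pow_mem g₀.2 7 : ((K ^ 7 : H) : G) ∈ normalizer (W : Set G)) ?_
      refine (congrArg (act W) (Subtype.ext rfl : _ = g₀ ^ 7)).trans ?_
      rw [map_pow, ← hmord, pow_orderOf_eq_one]
    have hU3 : ψ U ^ 3 = 1 := by
      rw [← map_pow, show U ^ 3 = 1 from Subtype.ext d.u_cube, map_one]
    have hUK : ψ (U * K * U⁻¹) = ψ K ^ r := by
      rw [← map_pow, ← mul_inv_eq_one, ← map_inv, ← map_mul]
      refine htriv' _ (mul_mem (mul_mem (mul_mem (cc_le_norm hnW d.u_mem) g₀.2)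
        (inv_mem (cc_le_norm hnW d.u_mem))) (inv_mem (pow_mem g₀.2 r))) ?_
      refine (congrArg (act W) (Subtype.ext rfl : _ = (⟨d.u, cc_le_norm hnW d.u_mem⟩ *
        g₀ * (⟨d.u, cc_le_norm hnW d.u_mem⟩ : normalizer (W : Set G))⁻¹ * (g₀ ^ r)⁻¹ :
          normalizer (W : Set G)))).trans ?_
      rw [map_mul, map_mul, map_mul, map_inv, map_inv, map_pow,
        show act W ⟨d.u, cc_le_norm hnW d.u_mem⟩ = d.ub hnW from rfl, hr, mul_inv_cancel]
    have hFW : FpfMod d.u W d.S0 := (d.fpfS ht).up (d.T_le_omega ht) hWle (hnW _ d.u_mem)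
      (norm_of_conj fun g hg => hnW g (d.S0_le hg))
    have hv3 : ∀ x : V, x * ψ U x * ψ U (ψ U x) = 1 := by
      intro x
      obtain ⟨q, hq, eq⟩ := x.2.1
      refine Subtype.ext ?_
      have hp := hFW.prod_mem (q := (q : G)) hq
      have e2 : ψ U (ψ U x) = (ψ U ^ 2) x := by rw [pow_two]; rfl
      have e3 : (ψ U ^ 2) = ψ U⁻¹ := by
        rw [map_inv, eq_inv_iff_mul_eq_one, ← pow_succ, hU3]
      rw [e2, e3]
      push_cast [hψ]
      rw [← eq]
      have key : π (q * (U * q * U⁻¹) * (U⁻¹ * q * (U⁻¹)⁻¹)) = 1 :=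
        (QuotientGroup.eq_one_iff _).2 (mem_subgroupOf.2 (by push_cast; rw [inv_inv]; exact hp))
      simpa only [map_mul, map_inv, mul_assoc] using key
    have hfix := seven_fixed ψ (fun x => Subtype.ext x.2.2.1) hU3 hK7
      (by rcases hr24 with rfl | rfl; exacts [Or.inl hUK, Or.inr hUK]) hv3 v
    obtain ⟨q, hq, eqv⟩ := v.2.1
    have hq' : (q : G) ∈ d.S0 := hq
    have hw0 : (g₀ : G) * q * (g₀ : G)⁻¹ * (q : G)⁻¹ ∈ W := by
      have h1 := congrArg Subtype.val hfix
      rw [hψ, ← eqv, ← map_inv, ← map_mul, ← map_mul] at h1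
      have h2 : π (K * q * K⁻¹ * q⁻¹) = 1 := by rw [map_mul, h1, map_inv, mul_inv_cancel]
      exact mem_subgroupOf.1 ((QuotientGroup.eq_one_iff _).1 h2)
    set w1 := (g₀ : G) * q * (g₀ : G)⁻¹ * (q : G)⁻¹ with hw1
    let f : W → W := fun w => w⁻¹ * ⟨(g₀ : G) * w * (g₀ : G)⁻¹, (mem_normalizer_iff.1 g₀.2 _).1 w.2⟩
    have hf : Function.Injective f := by
      intro a b e
      have e' : (a : G)⁻¹ * ((g₀ : G) * a * (g₀ : G)⁻¹) = (b : G)⁻¹ * ((g₀ : G) * b * (g₀ : G)⁻¹) :=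
        congrArg Subtype.val e
      have h1 := hsemi ((b : G) * (a : G)⁻¹) (mul_mem b.2 (inv_mem a.2)) (by
        calc (g₀ : G) * ((b : G) * (a : G)⁻¹) * (g₀ : G)⁻¹
            = (b : G) * ((b : G)⁻¹ * ((g₀ : G) * b * (g₀ : G)⁻¹)) * ((g₀ : G) * a * (g₀ : G)⁻¹)⁻¹ := by group
          _ = (b : G) * (a : G)⁻¹ := by rw [← e']; group)
      exact (Subtype.ext (mul_inv_eq_one.1 h1)).symm
    obtain ⟨w, hw⟩ := (Finite.injective_iff_surjective.1 hf) ⟨w1, hw0⟩
    have hw' : (g₀ : G) * w * (g₀ : G)⁻¹ = w * w1 := by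
      rw [← show (w : G)⁻¹ * ((g₀ : G) * w * (g₀ : G)⁻¹) = w1 from congrArg Subtype.val hw, mul_inv_cancel_left]
    set v0 := (w : G) * (q : G) with hv0
    have hv0g : (g₀ : G) * v0 * (g₀ : G)⁻¹ = v0 := by
      calc (g₀ : G) * v0 * (g₀ : G)⁻¹
          = ((g₀ : G) * w * (g₀ : G)⁻¹) * (w1 * q) := by rw [hv0, hw1]; group
        _ = w * (w1 * w1) * q := by rw [hw']; group
        _ = v0 := by rw [hw0.2.1, mul_one]
    have hv0S : v0 ∈ d.S0 := mul_mem (hWle w.2) hq'
    have hv0W : v0 ∉ W := by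
      intro h1
      refine hv1 (Subtype.ext ?_)
      rw [← eqv]
      refine (QuotientGroup.eq_one_iff _).2 (mem_subgroupOf.2 ?_)
      simpa [hv0] using mul_mem (inv_mem w.2) h1
    have hv02 : v0 * v0 = 1 := by
      refine hsemi _ ?_ ?_
      · have h1 : π (q * q) = 1 := by rw [map_mul, eqv]; exact v.2.2.1
        have h2 : (q : G) * (q : G) ∈ W := mem_subgroupOf.1 ((QuotientGroup.eq_one_iff _).1 h1)
        rw [hv0, show (w : G) * q * ((w : G) * q) = w * (q * w) * q by group,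
          (w.2.2.2 _ hq').eq, ← mul_assoc, w.2.2.1, one_mul]
        exact h2
      · calc (g₀ : G) * (v0 * v0) * (g₀ : G)⁻¹
            = ((g₀ : G) * v0 * (g₀ : G)⁻¹) * ((g₀ : G) * v0 * (g₀ : G)⁻¹) := by group
          _ = v0 * v0 := by rw [hv0g]
    have hv0o : orderOf v0 = 2 := orderOf_eq_two hv02 fun e => hv0W (e ▸ one_mem _)
    obtain ⟨c, hc⟩ := isConj_iff.1 (h.one t v0 ht hv0o)
    obtain ⟨d'⟩ : Nonempty (Sol v0) := hc ▸ d.conj_exists c
    -- an element of 7-power order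
    obtain ⟨e7, l, hl, hl'⟩ : ∃ e l, ¬ 7 ∣ l ∧ orderOf (g₀ : G) = 7 ^ e * l :=
      ⟨_, _, Nat.not_dvd_ordCompl (by norm_num) (orderOf_pos _).ne', (Nat.ordProj_mul_ordCompl_eq_self _ 7).symm⟩
    have hgord : orderOf ((g₀ : G) ^ l) ∣ 7 ^ e7 := by
      refine orderOf_dvd_of_pow_eq_one ?_
      rw [← pow_mul, mul_comm, ← hl', pow_orderOf_eq_one]
    have hgv : (g₀ : G) ^ l ∈ CC v0 := pow_mem (mem_CC.2 (mul_inv_eq_iff_eq_mul.1 hv0g)) l
    have hgO : (g₀ : G) ^ l ∈ d'.O := d'.mem_O_of_coprime hv0o hgv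
      (Nat.Coprime.coprime_dvd_left hgord (Nat.Coprime.pow_left _ (by norm_num)))
    have hcentW : ∀ a ∈ W, Commute ((g₀ : G) ^ l) a := by
      intro a ha
      have haC : a ∈ CC v0 := mem_CC.2 ((ha.2.2 v0 hv0S).symm)
      have h1 : ⁅(g₀ : G) ^ l, a⁆ ∈ W := by
        rw [commutatorElement_def]
        exact mul_mem ((mem_normalizer_iff.1 (pow_mem g₀.2 l) a).1 ha) (inv_mem ha)
      have h2 : ⁅(g₀ : G) ^ l, a⁆ ∈ d'.O := by
        rw [commutatorElement_def, mul_assoc, mul_assoc]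
        exact mul_mem hgO (by rw [← mul_assoc]; exact d'.normO a haC _ (inv_mem hgO))
      refine commutatorElement_eq_one_iff_commute.1 (d'.eq_one_of_mem_O h2 ?_)
      obtain ⟨k, hk⟩ := IsPGroup.iff_orderOf.1 d.two ⟨_, hWle h1⟩
      exact ⟨k, by rw [← hk, Subgroup.orderOf_mk]⟩
    have : act W g₀ ^ l = 1 := by rw [← map_pow]; exact act_eq_one.2 (by push_cast; exact hcentW)
    have h7l : 7 ∣ l := hmord ▸ orderOf_dvd_of_pow_eq_one this
    exact hl h7l
  -- contradiction with the automizer of an elementary abelian Sylow subgroup of order 8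
  have hS8 : (S : Subgroup G) = W := hSeq.trans hSW
  have hel : Cfsg.IsElementaryAbelian 2 (S : Subgroup G) := by
    rw [hS8]
    exact ⟨omega1_comm _, fun a ha => by rw [pow_two]; exact ha.2.1⟩
  have hsol : ∀ z : G, orderOf z = 2 → Group.IsSolvable ↥(centralizer ({z} : Set G)) := by
    intro z hz
    obtain ⟨c, hc⟩ := isConj_iff.1 (h.one t z ht hz)
    obtain ⟨dz⟩ : Nonempty (Sol z) := hc ▸ d.conj_exists c
    exact dz.solvable hz
  have hnc : ¬ IsMulCommutative G := fun hc => h.ncyc (by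
    letI : CommGroup G := IsMulCommutative.instCommGroup
    exact IsSimpleGroup.isCyclic)
  have h7' := S3189.result hnc S hel (by rw [hS8, hW8]) hsol
  have hidx : (centralizer ((S : Subgroup G) : Set G)).relIndex (normalizer ((S : Subgroup G) : Set G))
      = Nat.card (Aut' W) := by
    rw [hS8]; rfl
  rw [hidx, ← M.index_mul_card, hMi3, h7] at h7'
  omega

end Sol

end Cfsg.Agent.SixCent
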