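import Cfsg.Agent.Lib.SelfThree.Quot

/-!
Involutions of `PSL(2,7)` and the centraliser of one of them.
-/

set_option autoImplicit false
set_option maxRecDepth 100000

namespace Cfsg.Agent.SixCent.PSLSeven

abbrev SL7 := Matrix.SpecialLinearGroup (Fin 2) (ZMod 7)

abbrev Q7 := Matrix.ProjectiveSpecialLinearGroup (Fin 2) (ZMod 7)

/-- The projection. -/
abbrev pr : SL7 →* Q7 := QuotientGroup.mk' (Subgroup.center SL7)

def mJ : SL7 := ⟨!![0, 1; 6, 0], by decide⟩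
def mM : SL7 := ⟨!![2, 2; 5, 2], by decide⟩
def mF : SL7 := ⟨!![3, 2; 2, 4], by decide⟩

theorem mat_center : ∀ p q r s : ZMod 7, p * s - q * r = 1 →
    (!![p, q; r, s] * mJ.1 = mJ.1 * !![p, q; r, s] ∨
      !![p, q; r, s] * mJ.1 = -(mJ.1 * !![p, q; r, s])) →
    ∃ k : Fin 8, ∃ b : Fin 2, !![p, q; r, s] = mM.1 ^ (k : ℕ) * mF.1 ^ (b : ℕ) := by
  decide +kernel

theorem mat_invol : ∀ p q r s : ZMod 7, p * s - q * r = 1 →
    (!![p, q; r, s] * !![p, q; r, s] = 1 ∨ !![p, q; r, s] * !![p, q; r, s] = -1) →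
    (q = 0 ∧ r = 0 ∧ p = s) ∨ ∃ x y : ZMod 7,
      (x * -(r * x + s * y) - -(p * x + q * y) * y = 1 ∧
        !![x, -(p * x + q * y); y, -(r * x + s * y)] * mJ.1 =
          !![p, q; r, s] * !![x, -(p * x + q * y); y, -(r * x + s * y)]) ∨
      (x * (r * x + s * y) - (p * x + q * y) * y = 1 ∧
        !![x, p * x + q * y; y, r * x + s * y] * mJ.1 =
          -(!![p, q; r, s] * !![x, p * x + q * y; y, r * x + s * y])) := by
  decide +kernel

theorem eq_or_neg {X Y : SL7} (h : pr X = pr Y) : X.1 = Y.1 ∨ X.1 = -Y.1 := by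
  haveI : Fact (Nat.Prime 7) := ⟨by norm_num⟩
  have h1 : pr (Y⁻¹ * X) = 1 := by rw [map_mul, map_inv, h, inv_mul_cancel]
  obtain ⟨r, hr, hs⟩ := Matrix.SpecialLinearGroup.mem_center_iff.1 ((QuotientGroup.eq_one_iff _).1 h1)
  rw [Fintype.card_fin] at hr
  have e : X.1 = Y.1 * (Y⁻¹ * X).1 := by rw [← Matrix.SpecialLinearGroup.coe_mul, mul_inv_cancel_left]
  rw [← hs] at e
  rcases sq_eq_one_iff.1 hr with rfl | rfl
  · exact Or.inl (by rwa [map_one, mul_one] at e)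
  · exact Or.inr (by rwa [map_neg, map_one, mul_neg, mul_one] at e)

theorem pr_eq {X Y : SL7} (h : X.1 = Y.1 ∨ X.1 = -Y.1) : pr X = pr Y := by
  rcases h with h | h
  · rw [show X = Y from Subtype.ext h]
  · refine (QuotientGroup.eq).2 (Matrix.SpecialLinearGroup.mem_center_iff.2
      ⟨-1, by rw [Fintype.card_fin]; norm_num, ?_⟩)
    have e : X = -Y := Subtype.ext (by rw [h]; rfl)
    rw [e]
    simp only [inv_neg, neg_mul, inv_mul_cancel, map_neg, map_one]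
    rfl

theorem cover {A : SL7} : A.1 = !![A.1 0 0, A.1 0 1; A.1 1 0, A.1 1 1] ∧
    A.1 0 0 * A.1 1 1 - A.1 0 1 * A.1 1 0 = 1 :=
  ⟨Matrix.eta_fin_two A.1, by rw [← Matrix.det_fin_two]; exact A.2⟩

/-- The facts needed about `PSL(2,7)`. -/
theorem facts : ∃ z g f : Q7, z ≠ 1 ∧ g * g = z ∧ g ^ 4 = 1 ∧ f * f = 1 ∧ f * g * f⁻¹ = g⁻¹ ∧
    (∀ a : Q7, a * a = 1 → a ≠ 1 → ∃ x, x * z * x⁻¹ = a) ∧
    ∀ h : Q7, h * z = z * h → ∃ k : ℕ, ∃ b : ℕ, b < 2 ∧ h = g ^ k * f ^ b := by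
  refine ⟨pr mJ, pr mM, pr mF, ?_, ?_, ?_, ?_, ?_, fun a ha ha1 => ?_, fun h hh => ?_⟩
  · rw [Ne, SelfThree.psl_one_iff]; decide +kernel
  · rw [← map_mul]; exact pr_eq (Or.inl (by decide +kernel))
  · rw [← map_pow, ← map_one pr]; exact pr_eq (Or.inr (by decide +kernel))
  · rw [← map_mul, ← map_one pr]; exact pr_eq (Or.inr (by decide +kernel))
  · rw [mul_inv_eq_iff_eq_mul, eq_inv_mul_iff_mul_eq, ← map_mul, ← map_mul]
    exact pr_eq (by decide +kernel)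
  · obtain ⟨A, rfl⟩ := QuotientGroup.mk'_surjective _ a
    obtain ⟨hA, hd⟩ := cover (A := A)
    rw [← map_mul, ← map_one pr] at ha
    have h2 := eq_or_neg ha
    rw [Matrix.SpecialLinearGroup.coe_mul, Matrix.SpecialLinearGroup.coe_one, hA] at h2
    rcases mat_invol _ _ _ _ hd h2 with h0 | ⟨x, y, ⟨hdet, hx⟩ | ⟨hdet, hx⟩⟩
    · exact absurd ((SelfThree.psl_one_iff A).2 h0) ha1
    all_goals rw [← hA] at hx
    · refine ⟨pr (⟨_, by rw [Matrix.det_fin_two_of]; exact hdet⟩ : SL7), ?_⟩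
      rw [mul_inv_eq_iff_eq_mul]
      change pr _ * pr mJ = pr A * pr _
      refine ((map_mul pr _ _).symm.trans ?_).trans (map_mul pr _ _)
      exact pr_eq (Or.inl hx)
    · refine ⟨pr (⟨_, by rw [Matrix.det_fin_two_of]; exact hdet⟩ : SL7), ?_⟩
      rw [mul_inv_eq_iff_eq_mul]
      change pr _ * pr mJ = pr A * pr _
      refine ((map_mul pr _ _).symm.trans ?_).trans (map_mul pr _ _)
      exact pr_eq (Or.inr hx)
  · obtain ⟨A, rfl⟩ := QuotientGroup.mk'_surjective _ h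
    obtain ⟨hA, hd⟩ := cover (A := A)
    rw [← map_mul, ← map_mul] at hh
    have h2 := eq_or_neg hh
    rw [Matrix.SpecialLinearGroup.coe_mul, Matrix.SpecialLinearGroup.coe_mul, hA] at h2
    obtain ⟨k, b, e⟩ := mat_center _ _ _ _ hd h2
    refine ⟨k, b, b.2, ?_⟩
    rw [← map_pow, ← map_pow, ← map_mul]
    refine congrArg pr (Subtype.ext ?_)
    rw [Matrix.SpecialLinearGroup.coe_mul, Matrix.SpecialLinearGroup.coe_pow,
      Matrix.SpecialLinearGroup.coe_pow, hA]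
    exact e

end Cfsg.Agent.SixCent.PSLSeven
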