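import Cfsg.Agent.Lib.SixCent.Sylow

/-!
The group induced by the normaliser of a normal subgroup of a solvable centraliser of an involution.
-/

set_option autoImplicit false
set_option linter.style.haveILetI false
set_option linter.unusedSectionVars false

open scoped commutatorElement
open Subgroup Cfsg.Agent.SelfThree

namespace Cfsg.Agent.SixCent

universe v

variable {G : Type v} [Group G]

theorem centralizer_normal (A : Subgroup G) :
    ((centralizer (A : Set G)).subgroupOf (normalizer (A : Set G))).Normal := by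
  refine ⟨fun c hc g => ?_⟩
  rw [mem_subgroupOf] at hc ⊢
  refine mem_centralizer_iff.2 fun a ha => ?_
  have h1 : (g : G)⁻¹ * a * g ∈ A := by
    have := (mem_normalizer_iff.1 (inv_mem g.2) a).1 ha
    rwa [inv_inv] at this
  have h2 := mem_centralizer_iff.1 hc _ h1
  push_cast
  calc a * ((g : G) * c * (g : G)⁻¹) = (g : G) * ((g : G)⁻¹ * a * g * c) * (g : G)⁻¹ := by group
    _ = (g : G) * (c * ((g : G)⁻¹ * a * g)) * (g : G)⁻¹ := by rw [h2]
    _ = (g : G) * c * (g : G)⁻¹ * a := by group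

/-- The induced group. -/
abbrev Aut' (A : Subgroup G) :=
  (normalizer (A : Set G)) ⧸ (centralizer (A : Set G)).subgroupOf (normalizer (A : Set G))

instance (A : Subgroup G) :
    ((centralizer (A : Set G)).subgroupOf (normalizer (A : Set G))).Normal := centralizer_normal A

/-- The projection. -/
abbrev act (A : Subgroup G) : normalizer (A : Set G) →* Aut' A := QuotientGroup.mk' _

theorem act_eq_one {A : Subgroup G} {g : normalizer (A : Set G)} :
    act A g = 1 ↔ ∀ a ∈ A, Commute (g : G) a := by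
  rw [QuotientGroup.mk'_apply, QuotientGroup.eq_one_iff, mem_subgroupOf, mem_centralizer_iff]
  exact ⟨fun h a ha => (h a ha).symm, fun h a ha => (h a ha).symm⟩

namespace Sol

variable [Finite G] {t : G} (d : Sol t) (ht : orderOf t = 2) {A : Subgroup G}
  (hA : A ≤ d.S0) (hnA : ∀ g ∈ CC t, ∀ a ∈ A, g * a * g⁻¹ ∈ A) (htA : t ∈ A)
  (hAt : ¬ A ≤ zpowers t) (S : Sylow 2 G) (hS : (S : Subgroup G) ≤ CC t)

include hnA in
theorem cc_le_norm : CC t ≤ normalizer (A : Set G) := norm_of_conj hnA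

include hnA htA in
theorem act_moves {g : normalizer (A : Set G)} {h : normalizer (A : Set G)} (hh : (h : G) ∈ CC t)
    (e : act A g = act A h) : (g : G) ∈ CC t := by
  have h1 : act A (h⁻¹ * g) = 1 := by rw [map_mul, map_inv, e, inv_mul_cancel]
  have h2 := act_eq_one.1 h1 t htA
  push_cast at h2
  have h3 : (h : G)⁻¹ * g ∈ CC t := mem_CC.2 h2
  simpa using mul_mem hh h3

include hnA in
/-- The element of order 3 in the induced group. -/
def ub : Aut' A := act A ⟨d.u, cc_le_norm hnA d.u_mem⟩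

include hA in
theorem O_cent {o : G} (ho : o ∈ d.O) {a : G} (ha : a ∈ A) : Commute o a :=
  (d.comm a (hA ha) o ho).symm

include ht hA hAt in
theorem ub_ne : d.ub hnA ≠ 1 := fun h =>
  hAt fun a ha => d.fix_eq ht (hA ha) (act_eq_one.1 h a ha)

include ht hA hAt in
theorem ub_ord : orderOf (d.ub hnA) = 3 := by
  haveI : Fact (Nat.Prime 3) := ⟨Nat.prime_three⟩
  refine orderOf_eq_prime ?_ (d.ub_ne ht hA hnA hAt)
  rw [ub, ← map_pow]
  exact (congrArg (act A) (Subtype.ext (by push_cast; exact d.u_cube) :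
    (⟨d.u, cc_le_norm hnA d.u_mem⟩ : normalizer (A : Set G)) ^ 3 = 1)).trans (map_one _)

theorem mem_zpowers_u {b : G} (hb : b ∈ zpowers d.u) : b = 1 ∨ b = d.u ∨ b = d.u⁻¹ := by
  obtain ⟨k, rfl⟩ := mem_zpowers_iff.1 hb
  rw [← zpow_mod_orderOf, d.u_ord]
  rcases (show k % ((3 : ℕ) : ℤ) = 0 ∨ k % ((3 : ℕ) : ℤ) = 1 ∨ k % ((3 : ℕ) : ℤ) = 2 by omega)
    with e | e | e <;> rw [e]
  · exact Or.inl (zpow_zero _)
  · exact Or.inr (Or.inl (zpow_one _))
  · refine Or.inr (Or.inr (eq_inv_of_mul_eq_one_left ?_))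
    rw [show (2 : ℤ) = ((2 : ℕ) : ℤ) from rfl, zpow_natCast, ← pow_succ, d.u_cube]

include ht hA hAt in
/-- A member of `S0 × O` does not act as `u` does. -/
theorem act_ne_ub {q o : G} (hq : q ∈ d.S0) (ho : o ∈ d.O) (hqo : q * o ∈ normalizer (A : Set G)) :
    act A ⟨q * o, hqo⟩ ≠ d.ub hnA := by
  intro h
  have hqn : q ∈ normalizer (A : Set G) := cc_le_norm hnA (d.S0_le hq)
  have e1 : act A ⟨q * o, hqo⟩ = act A ⟨q, hqn⟩ := by
    have e : (⟨q * o, hqo⟩ : normalizer (A : Set G)) =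
        ⟨q, hqn⟩ * ⟨o, cc_le_norm hnA (d.O_le ho)⟩ := Subtype.ext rfl
    rw [e, map_mul, act_eq_one.2 (show ∀ a ∈ A, Commute
      ((⟨o, cc_le_norm hnA (d.O_le ho)⟩ : normalizer (A : Set G)) : G) a from
      fun a ha => d.O_cent hA ho ha), mul_one]
  obtain ⟨k, hk⟩ := IsPGroup.iff_orderOf.1 d.two ⟨q, hq⟩
  rw [Subgroup.orderOf_mk] at hk
  have h3 : 3 ∣ 2 ^ k := by
    rw [← d.ub_ord ht hA hnA hAt, ← h, e1, ← hk, ← Subgroup.orderOf_mk q hqn]
    exact orderOf_map_dvd _ _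
  exact absurd (Nat.prime_three.dvd_of_dvd_pow h3) (by norm_num)

include ht hA hAt in
/-- The image of an element inverting `u`. -/
theorem act_inverter {w : G} (hw : w ∈ CC t) (hwu : w * d.u * w⁻¹ = d.u⁻¹) :
    act A ⟨w, cc_le_norm hnA hw⟩ * d.ub hnA * (act A ⟨w, cc_le_norm hnA hw⟩)⁻¹ = (d.ub hnA)⁻¹ := by
  rw [ub, ← map_inv, ← map_inv, ← map_mul, ← map_mul]
  exact congrArg _ (Subtype.ext hwu)

include ht hA hnA hAt in
/-- An element of the centraliser commuting with `u` on `A` is `u^j` times an element of `S0 × O`. -/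
theorem cent_ub {g : normalizer (A : Set G)} (hg : (g : G) ∈ CC t)
    (hc : Commute (act A g) (d.ub hnA)) :
    ∃ q ∈ d.S0, ∃ o ∈ d.O, ∃ b ∈ zpowers d.u, (g : G) = q * o * b := by
  obtain ⟨q, hq, o, ho, w, hw, e, h | h⟩ := d.dec g hg
  · obtain ⟨a, ha, b, hb, rfl⟩ := d.u_self w hw (mul_inv_eq_iff_eq_mul.1 h)
    refine ⟨q * a, mul_mem hq (d.T_le ha), o, ho, b, hb, ?_⟩
    rw [e, mul_assoc q a o, (d.comm a (d.T_le ha) o ho).eq]
    simp only [mul_assoc]
  · exfalso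
    have hqo : q * o ∈ normalizer (A : Set G) :=
      mul_mem (cc_le_norm hnA (d.S0_le hq)) (cc_le_norm hnA (d.O_le ho))
    set X : Aut' A := act A ⟨q * o, hqo⟩ with hX
    have hgX : act A g = X * act A ⟨w, cc_le_norm hnA hw⟩ := by
      rw [hX, ← map_mul]; exact congrArg _ (Subtype.ext e)
    have k1 := d.act_inverter ht hA hnA hAt hw h
    rw [hgX] at hc
    have k2 : X * (d.ub hnA)⁻¹ * X⁻¹ = d.ub hnA := by
      rw [← k1]
      calc X * (act A ⟨w, _⟩ * d.ub hnA * (act A ⟨w, _⟩)⁻¹) * X⁻¹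
          = X * act A ⟨w, _⟩ * d.ub hnA * (X * act A ⟨w, cc_le_norm hnA hw⟩)⁻¹ := by group
        _ = d.ub hnA := by rw [hc.eq, mul_inv_cancel_right]
    -- `[q, u]` would act as `u` does
    obtain ⟨hu, hqn⟩ : d.u ∈ normalizer (A : Set G) ∧ q ∈ normalizer (A : Set G) :=
      ⟨cc_le_norm hnA d.u_mem, cc_le_norm hnA (d.S0_le hq)⟩
    let P : G := d.u * (q * o) * d.u⁻¹ * (q * o)⁻¹
    have hP : P = (d.u * q * d.u⁻¹ * q⁻¹) * ((q * (d.u * o * d.u⁻¹) * q⁻¹) * (q * o⁻¹ * q⁻¹)) := by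
      simp only [P]; group
    have hoC : ∀ p ∈ d.O, q * p * q⁻¹ = p := fun p hp => by
      rw [(d.comm q hq p hp).eq, mul_inv_cancel_right]
    rw [hoC _ (d.normO _ d.u_mem o ho), hoC _ (inv_mem ho)] at hP
    have hPm : P ∈ normalizer (A : Set G) :=
      mul_mem (mul_mem (mul_mem hu hqo) (inv_mem hu)) (inv_mem hqo)
    have k3 : act A ⟨P, hPm⟩ = d.ub hnA * X * (d.ub hnA)⁻¹ * X⁻¹ := by
      rw [ub, hX, ← map_inv, ← map_inv, ← map_mul, ← map_mul, ← map_mul]
      rfl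
    have k4 : act A ⟨P, hPm⟩ = (d.ub hnA)⁻¹ := by
      rw [k3]
      have hcube : d.ub hnA ^ 3 = 1 := by rw [← d.ub_ord ht hA hnA hAt]; exact pow_orderOf_eq_one _
      have k2' : X * (d.ub hnA)⁻¹ = d.ub hnA * X := mul_inv_eq_iff_eq_mul.1 k2
      calc d.ub hnA * X * (d.ub hnA)⁻¹ * X⁻¹
          = d.ub hnA * (X * (d.ub hnA)⁻¹) * X⁻¹ := by group
        _ = d.ub hnA * d.ub hnA := by rw [k2']; group
        _ = (d.ub hnA)⁻¹ := eq_inv_of_mul_eq_one_left (by rw [← hcube, pow_three, mul_assoc])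
    have hPinv : P⁻¹ = (d.u * q * d.u⁻¹ * q⁻¹)⁻¹ * ((d.u * o * d.u⁻¹) * o⁻¹)⁻¹ := by
      have hc' := d.comm _ (mul_mem (d.normS _ d.u_mem q hq) (inv_mem hq)) _
        (mul_mem (d.normO _ d.u_mem o ho) (inv_mem ho))
      rw [hP, mul_inv_rev, ← (hc'.inv_inv).eq]
    refine d.act_ne_ub ht hA hnA hAt (inv_mem (mul_mem (d.normS _ d.u_mem q hq) (inv_mem hq)))
      (inv_mem (mul_mem (d.normO _ d.u_mem o ho) (inv_mem ho))) (hPinv ▸ inv_mem hPm) ?_
    have : (⟨P, hPm⟩⁻¹ : normalizer (A : Set G)) = ⟨_, hPinv ▸ inv_mem hPm⟩ := Subtype.ext hPinv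
    rw [← this, map_inv, k4, inv_inv]

include ht hA hnA htA hAt in
/-- The element of order 3 is self-centralising in the induced group. -/
theorem ub_self : centralizer ({d.ub hnA} : Set (Aut' A)) = zpowers (d.ub hnA) := by
  refine le_antisymm (fun x hx => ?_) (zpowers_le.2 (mem_centralizer_singleton_iff.2 rfl))
  obtain ⟨g, rfl⟩ := QuotientGroup.mk'_surjective _ x
  have hc : Commute (act A g) (d.ub hnA) := mem_centralizer_singleton_iff.1 hx
  -- the image of `t` is fixed by `u`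
  have hu : d.u ∈ normalizer (A : Set G) := cc_le_norm hnA d.u_mem
  have hgt : (g : G) * t * (g : G)⁻¹ ∈ A := (mem_normalizer_iff.1 g.2 t).1 htA
  have h1 : act A (g⁻¹ * ⟨d.u, hu⟩ * g * ⟨d.u, hu⟩⁻¹) = 1 := by
    have e : act A ⟨d.u, hu⟩ = d.ub hnA := rfl
    rw [map_mul, map_mul, map_mul, map_inv, map_inv, e, mul_assoc ((act A g)⁻¹), ← hc.eq,
      ← mul_assoc, inv_mul_cancel, one_mul, mul_inv_cancel]
  have h2 := act_eq_one.1 h1 t htA
  push_cast at h2
  have h3 : Commute ((g : G)⁻¹ * d.u * g) t := by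
    have := h2.mul_left (mem_CC.1 d.u_mem)
    rwa [inv_mul_cancel_right] at this
  have h4 := h3.map (MulAut.conj (g : G)).toMonoidHom
  have h5 : Commute d.u ((g : G) * t * (g : G)⁻¹) := by simpa [mul_assoc] using h4
  have h6 : (g : G) ∈ CC t := by
    rcases mem_zpowers_two ht (d.fix_eq ht (hA hgt) h5) with e | e
    · exact absurd (conj_eq_one_iff.1 e) (ne_one_of_invol ht)
    · exact mem_CC.2 (mul_inv_eq_iff_eq_mul.1 e)
  obtain ⟨q, hq, o, ho, b, hb, e⟩ := d.cent_ub ht hA hnA hAt h6 hc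
  have hqn : q ∈ normalizer (A : Set G) := cc_le_norm hnA (d.S0_le hq)
  have hon : o ∈ normalizer (A : Set G) := cc_le_norm hnA (d.O_le ho)
  obtain ⟨j, rfl⟩ := mem_zpowers_iff.1 hb
  have hg : act A g = act A ⟨q, hqn⟩ * d.ub hnA ^ j := by
    rw [show g = ⟨q, hqn⟩ * ⟨o, hon⟩ * (⟨d.u, hu⟩ : normalizer (A : Set G)) ^ j from
      Subtype.ext (by push_cast; exact e), map_mul, map_mul, map_zpow,
      act_eq_one.2 (show ∀ a ∈ A, Commute ((⟨o, hon⟩ : normalizer (A : Set G)) : G) a from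
        fun a ha => d.O_cent hA ho ha), mul_one]
    rfl
  -- `u` centralises `q` modulo the centraliser of `A`
  let K : Subgroup G := d.S0 ⊓ centralizer (A : Set G)
  have hTK : zpowers t ≤ K := le_inf d.T_le (zpowers_le.2 (mem_centralizer_iff.2 fun a ha =>
    (mem_CC.1 (d.S0_le (hA ha))).eq))
  have hKn : ∀ g ∈ CC t, ∀ k ∈ K, g * k * g⁻¹ ∈ K := fun g hg k hk => ⟨d.normS g hg k hk.1, by
    have h := (centralizer_normal A).conj_mem ⟨k, cc_le_norm hnA (d.S0_le hk.1)⟩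
      (mem_subgroupOf.2 hk.2) ⟨g, cc_le_norm hnA hg⟩
    exact mem_subgroupOf.1 h⟩
  have hF := (d.fpfS ht).up hTK inf_le_left (hKn _ d.u_mem)
    (norm_of_conj fun g hg => hKn g (d.S0_le hg))
  have hcq : Commute (d.ub hnA) (act A ⟨q, hqn⟩) := by
    have h := hc.symm
    rw [hg] at h
    simpa using h.mul_right ((Commute.refl (d.ub hnA)).zpow_right (-j))
  have hqK : q ∈ K := by
    refine hF.fixed q hq ⟨?_, ?_⟩
    · show ⁅d.u, q⁆ ∈ d.S0
      rw [commutatorElement_def]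
      exact mul_mem (d.normS _ d.u_mem q hq) (inv_mem hq)
    · rw [← commutatorElement_eq_one_iff_commute, ub, ← map_commutatorElement] at hcq
      exact mem_centralizer_iff.2 fun a ha => ((act_eq_one.1 hcq a ha).symm).eq
  rw [hg, show act A ⟨q, hqn⟩ = 1 from
    act_eq_one.2 fun a ha => (mem_centralizer_iff.1 hqK.2 a ha).symm, one_mul]
  exact zpow_mem (mem_zpowers _) j

include hS ht hA hnA htA hAt in
/-- The stabiliser of `t` in the induced group. -/
theorem stab_eq {g : normalizer (A : Set G)} (hg : (g : G) ∈ CC t) :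
    ∃ y : normalizer (A : Set G), (y : G) ∈ (S : Subgroup G) ∧ ∃ j : ℤ,
      act A g = act A y * d.ub hnA ^ j := by
  obtain ⟨q, hq, o, ho, w, hw, e, h⟩ := d.dec g hg
  have hqn : q ∈ normalizer (A : Set G) := cc_le_norm hnA (d.S0_le hq)
  have hon : o ∈ normalizer (A : Set G) := cc_le_norm hnA (d.O_le ho)
  have hgq : act A g = act A ⟨q, hqn⟩ * act A ⟨w, cc_le_norm hnA hw⟩ := by
    rw [show g = ⟨q, hqn⟩ * ⟨o, hon⟩ * ⟨w, cc_le_norm hnA hw⟩ from Subtype.ext e, map_mul, map_mul,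
      act_eq_one.2 (show ∀ a ∈ A, Commute ((⟨o, hon⟩ : normalizer (A : Set G)) : G) a from
        fun a ha => d.O_cent hA ho ha), mul_one]
  have hcase : ∀ w' : G, ∀ hw' : w' ∈ CC t, w' * d.u * w'⁻¹ = d.u →
      ∃ y : normalizer (A : Set G), (y : G) ∈ (S : Subgroup G) ∧ ∃ j : ℤ,
        act A ⟨w', cc_le_norm hnA hw'⟩ = act A y * d.ub hnA ^ j := by
    intro w' hw' h'
    obtain ⟨a, ha, b, hb, e'⟩ := d.u_self w' hw' (mul_inv_eq_iff_eq_mul.1 h')
    obtain ⟨j, rfl⟩ := mem_zpowers_iff.1 hb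
    refine ⟨⟨a, cc_le_norm hnA (d.S0_le (d.T_le ha))⟩, d.S0_le_sylow S hS (d.T_le ha), j, ?_⟩
    rw [ub, ← map_zpow, ← map_mul]
    exact congrArg _ (Subtype.ext (by push_cast; exact e'))
  rcases h with h | h
  · obtain ⟨y, hy, j, ey⟩ := hcase w hw h
    exact ⟨⟨q, hqn⟩ * y, mul_mem (d.S0_le_sylow S hS hq) hy, j, by rw [hgq, ey, map_mul, mul_assoc]⟩
  · -- a Sylow subgroup containing an inverting element is conjugate to `S` in the centraliser
    by_cases hSS : ∀ y ∈ (S : Subgroup G), y ∈ d.S0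
    · exfalso
      have h2 : Commute (w * w) d.u := by
        refine mul_inv_eq_iff_eq_mul.1 ?_
        calc w * w * d.u * (w * w)⁻¹ = w * (w * d.u * w⁻¹) * w⁻¹ := by group
          _ = w * d.u⁻¹ * w⁻¹ := by rw [h]
          _ = (w * d.u * w⁻¹)⁻¹ := by group
          _ = d.u := by rw [h, inv_inv]
      obtain ⟨a, ha, b, hb, ew⟩ := d.u_self _ (mul_mem hw hw) h2
      have hs4 : (w * w * w) ^ 2 ^ 2 = 1 := by
        obtain ⟨i, rfl⟩ := mem_zpowers_iff.1 ha
        obtain ⟨k, rfl⟩ := mem_zpowers_iff.1 hb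
        rw [show (w * w * w) ^ 2 ^ 2 = (w * w) ^ 6 by
            simp only [show (2 : ℕ) ^ 2 = 4 from rfl, pow_succ, pow_zero, one_mul, mul_assoc],
          ew, ((mem_CC.1 d.u_mem).symm.zpow_zpow i k).mul_pow, ← zpow_natCast, ← zpow_natCast,
          ← zpow_mul, ← zpow_mul, mul_comm i, mul_comm k, zpow_mul, zpow_mul, zpow_natCast,
          zpow_natCast, show t ^ 6 = 1 by
            rw [show 6 = 2 * 3 from rfl, pow_mul, pow_two, sq_eq_one_of_invol ht, one_pow],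
          show d.u ^ 6 = 1 by rw [show 6 = 3 * 2 by rfl, pow_mul, d.u_cube, one_pow]]
        simp
      haveI : Fact (Nat.Prime 2) := ⟨Nat.prime_two⟩
      obtain ⟨i, -, hi⟩ := (Nat.dvd_prime_pow Nat.prime_two).1 (orderOf_dvd_of_pow_eq_one hs4)
      set s := w * w * w
      -- `S0` is the only Sylow subgroup of the centraliser
      let P : Sylow 2 (CC t) := S.subtype hS
      haveI hn : (P : Subgroup (CC t)).Normal := ⟨fun x hx g => by
        have hx' : (x : G) ∈ d.S0 := hSS _ hx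
        exact d.S0_le_sylow S hS (d.normS g g.2 _ hx')⟩
      obtain ⟨Q, hQ⟩ := (IsPGroup.of_card (p := 2) (n := i) (by rw [Nat.card_zpowers, ← orderOf_coe]; exact hi) :
        IsPGroup 2 (zpowers (⟨s, mul_mem (mul_mem hw hw) hw⟩ : CC t))).exists_le_sylow
      haveI := Sylow.unique_of_normal P hn
      have hQs := hQ (mem_zpowers _)
      rw [Subsingleton.elim Q P] at hQs
      have hs : s ∈ d.S0 := hSS _ hQs
      have hsu : s * d.u * s⁻¹ = d.u⁻¹ := by
        calc s * d.u * s⁻¹ = w * w * (w * d.u * w⁻¹) * (w * w)⁻¹ := by simp only [s]; group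
          _ = d.u⁻¹ := by rw [h, h2.inv_right.eq, mul_inv_cancel_right]
      have hbad := d.normS _ d.u_mem s hs
      have e2 : d.u * s * d.u⁻¹ * s⁻¹ = d.u⁻¹ := by
        calc d.u * s * d.u⁻¹ * s⁻¹ = d.u * (s * d.u * s⁻¹)⁻¹ := by group
          _ = d.u * d.u := by rw [hsu, inv_inv]
          _ = d.u⁻¹ := eq_inv_of_mul_eq_one_left (by rw [← d.u_cube, pow_three, mul_assoc])
      have : d.u⁻¹ ∈ d.S0 := e2 ▸ mul_mem hbad (inv_mem hs)
      have h3 := orderOf_dvd_natCard _ (inv_mem this)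
      rw [inv_inv, d.u_ord] at h3
      exact d.S3 h3
    · push Not at hSS
      obtain ⟨y, hyS, hy0⟩ := hSS
      obtain ⟨k, hk⟩ := IsPGroup.iff_orderOf.1 S.isPGroup' ⟨y, hyS⟩
      rw [Subgroup.orderOf_mk] at hk
      obtain ⟨q', hq', o', ho', v, hv, ev, hvu⟩ :=
        (d.two_element ht (hS hyS) ⟨k, hk⟩).resolve_left hy0
      have hvw : v⁻¹ * w ∈ CC t := mul_mem (inv_mem hv) hw
      have e1 : v⁻¹ * w * d.u * (v⁻¹ * w)⁻¹ = d.u := by
        calc v⁻¹ * w * d.u * (v⁻¹ * w)⁻¹ = v⁻¹ * (w * d.u * w⁻¹) * v := by group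
          _ = v⁻¹ * (v * d.u * v⁻¹) * v := by rw [h, hvu]
          _ = d.u := by group
      obtain ⟨y', hy', j, ey⟩ := hcase _ hvw e1
      have hvn := cc_le_norm hnA hv
      have hyn : y ∈ normalizer (A : Set G) := cc_le_norm hnA (hS hyS)
      have hq'n : q' ∈ normalizer (A : Set G) := cc_le_norm hnA (d.S0_le hq')
      have ev' : act A ⟨v, hvn⟩ = act A ((⟨q', hq'n⟩ : normalizer (A : Set G))⁻¹ * ⟨y, hyn⟩) := by
        have ey : (⟨y, hyn⟩ : normalizer (A : Set G)) =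
            ⟨q', hq'n⟩ * (⟨o', cc_le_norm hnA (d.O_le ho')⟩ * ⟨v, hvn⟩) :=
          Subtype.ext (by push_cast; rw [ev, mul_assoc])
        rw [ey, inv_mul_cancel_left, map_mul, act_eq_one.2 (show ∀ a ∈ A, Commute
          ((⟨o', cc_le_norm hnA (d.O_le ho')⟩ : normalizer (A : Set G)) : G) a from
          fun a ha => d.O_cent hA ho' ha), one_mul]
      refine ⟨⟨q, hqn⟩ * ((⟨q', hq'n⟩ : normalizer (A : Set G))⁻¹ * ⟨y, hyn⟩) * y',
        mul_mem (mul_mem (d.S0_le_sylow S hS hq) (mul_mem (inv_mem (d.S0_le_sylow S hS hq')) hyS)) hy',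
        j, ?_⟩
      rw [hgq, show (⟨w, cc_le_norm hnA hw⟩ : normalizer (A : Set G)) =
        ⟨v, hvn⟩ * ⟨v⁻¹ * w, cc_le_norm hnA hvw⟩ from Subtype.ext (mul_inv_cancel_left v w).symm,
        map_mul, ev', ey]
      simp only [map_mul, map_inv, mul_assoc]

end Sol

end Cfsg.Agent.SixCent
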