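import Cfsg.Agent.Lib.SixCent.Setting

/-!
The first consequences of the shape of a solvable centraliser of an involution.
-/

set_option autoImplicit false
set_option linter.style.haveILetI false
set_option linter.unusedSectionVars false

open scoped commutatorElement
open Subgroup Cfsg.Agent.SelfThree

namespace Cfsg.Agent.SixCent

universe v

variable {G : Type v} [Group G]

namespace Sol

variable {t : G}

/-- Transport along an automorphism of the group. -/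
noncomputable def map (d : Sol t) (e : G ≃* G) : Sol (e t) where
  u := e d.u
  S0 := d.S0.map e.toMonoidHom
  O := d.O.map e.toMonoidHom
  u_ord := by rw [e.orderOf_eq, d.u_ord]
  u_mem := mem_CC.2 ((mem_CC.1 d.u_mem).map e.toMonoidHom)
  u_self g hg hgu := by
    obtain ⟨g', rfl⟩ := e.surjective g
    have h1 : Commute g' t := (mem_CC.1 hg).of_map e.injective
    obtain ⟨a, ha, b, hb, rfl⟩ := d.u_self g' (mem_CC.2 h1) (hgu.of_map e.injective)
    obtain ⟨i, rfl⟩ := mem_zpowers_iff.1 ha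
    obtain ⟨j, rfl⟩ := mem_zpowers_iff.1 hb
    exact ⟨e t ^ i, zpow_mem (mem_zpowers _) i, e d.u ^ j, zpow_mem (mem_zpowers _) j,
      by rw [map_mul, map_zpow, map_zpow]⟩
  two := d.two.map _
  odd := by rw [card_map_of_injective e.injective]; exact d.odd
  O3 := by rw [card_map_of_injective e.injective]; exact d.O3
  S3 := by rw [card_map_of_injective e.injective]; exact d.S3
  t_mem := mem_map_of_mem _ d.t_mem
  S0_le := by
    rintro _ ⟨q, hq, rfl⟩
    exact mem_CC.2 ((mem_CC.1 (d.S0_le hq)).map e.toMonoidHom)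
  O_le := by
    rintro _ ⟨q, hq, rfl⟩
    exact mem_CC.2 ((mem_CC.1 (d.O_le hq)).map e.toMonoidHom)
  comm := by
    rintro _ ⟨q, hq, rfl⟩ _ ⟨o, ho, rfl⟩
    exact (d.comm q hq o ho).map e.toMonoidHom
  normS := by
    rintro g hg _ ⟨q, hq, rfl⟩
    obtain ⟨g', rfl⟩ := e.surjective g
    exact ⟨g' * q * g'⁻¹, d.normS g' (mem_CC.2 ((mem_CC.1 hg).of_map e.injective)) q hq, by simp⟩
  normO := by
    rintro g hg _ ⟨q, hq, rfl⟩
    obtain ⟨g', rfl⟩ := e.surjective g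
    exact ⟨g' * q * g'⁻¹, d.normO g' (mem_CC.2 ((mem_CC.1 hg).of_map e.injective)) q hq, by simp⟩
  dec g hg := by
    obtain ⟨g', rfl⟩ := e.surjective g
    obtain ⟨q, hq, o, ho, w, hw, rfl, h⟩ := d.dec g' (mem_CC.2 ((mem_CC.1 hg).of_map e.injective))
    refine ⟨e q, mem_map_of_mem _ hq, e o, mem_map_of_mem _ ho, e w,
      mem_CC.2 ((mem_CC.1 hw).map e.toMonoidHom), by rw [map_mul, map_mul], ?_⟩
    exact h.imp (fun h => by rw [← map_inv, ← map_mul, ← map_mul, h])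
      (fun h => by rw [← map_inv e d.u, ← map_inv, ← map_mul, ← map_mul, h])

theorem conj_exists (d : Sol t) (g : G) : Nonempty (Sol (g * t * g⁻¹)) :=
  ⟨d.map (MulAut.conj g)⟩

variable (d : Sol t) (ht : orderOf t = 2)

theorem t_comm {g : G} (hg : g ∈ CC t) : Commute g t := mem_CC.1 hg

theorem T_le : zpowers t ≤ d.S0 := zpowers_le.2 d.t_mem

theorem T_cent {a g : G} (ha : a ∈ zpowers t) (hg : g ∈ CC t) : Commute g a := by
  obtain ⟨k, rfl⟩ := mem_zpowers_iff.1 ha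
  exact (mem_CC.1 hg).zpow_right k

theorem u_cube : d.u ^ 3 = 1 := by rw [← d.u_ord]; exact pow_orderOf_eq_one _

theorem conj_mem_zt {g q : G} (hg : g ∈ CC t) (hq : q ∈ zpowers t) : g * q * g⁻¹ ∈ zpowers t := by
  rw [(T_cent hq hg).eq, mul_inv_cancel_right]
  exact hq

theorem norm_of_conj {H M : Subgroup G} [Finite G] (h : ∀ g ∈ H, ∀ q ∈ M, g * q * g⁻¹ ∈ M) :
    H ≤ normalizer (M : Set G) := fun g hg => mem_normalizer_iff.2 fun q =>
  ⟨h g hg q, fun hq => by simpa [mul_assoc] using h g⁻¹ (inv_mem hg) _ hq⟩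

/-- Conjugation preserving two subgroups preserves their join. -/
theorem conj_sup {A B : Subgroup G} {g r : G} (hA : ∀ q ∈ A, g * q * g⁻¹ ∈ A)
    (hB : ∀ q ∈ B, g * q * g⁻¹ ∈ B) (hr : r ∈ A ⊔ B) : g * r * g⁻¹ ∈ A ⊔ B := by
  have : A ⊔ B ≤ (A ⊔ B).comap (MulAut.conj g).toMonoidHom :=
    sup_le (fun q hq => mem_sup_left (hA q hq)) (fun q hq => mem_sup_right (hB q hq))
  exact this hr

variable [Finite G]

include ht in
theorem fix_eq {q : G} (hq : q ∈ d.S0) (h : Commute d.u q) : q ∈ zpowers t := by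
  obtain ⟨a, ha, b, hb, rfl⟩ := d.u_self q (d.S0_le hq) h.symm
  have hb1 : b = 1 := by
    have hbS : b ∈ d.S0 := by simpa using mul_mem (inv_mem (d.T_le ha)) hq
    refine orderOf_eq_one_iff.1 (Nat.dvd_one.1 ?_)
    have h3 : orderOf b ∣ 3 := d.u_ord ▸ orderOf_dvd_of_mem_zpowers hb
    rcases (Nat.dvd_prime Nat.prime_three).1 h3 with e | e
    · rw [e]
    · exact absurd (e ▸ orderOf_dvd_natCard _ hbS) d.S3
  rw [hb1, mul_one]
  exact ha

include ht in
/-- `u` acts without fixed points on `S0` modulo `t`. -/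
theorem fpfS : FpfMod d.u (zpowers t) d.S0 where
  cube := d.u_cube
  le := d.T_le
  conj := d.normS _ d.u_mem
  conjM := fun _ hq => conj_mem_zt d.u_mem hq
  norm := norm_of_conj fun g hg q hq => conj_mem_zt (d.S0_le hg) hq
  fixed q hq h := by
    refine d.fix_eq ht hq ?_
    rcases mem_zpowers_two ht h with e | e
    · exact commutatorElement_eq_one_iff_commute.1 e
    · exfalso
      have e' : q * d.u * q⁻¹ = t * d.u := by
        calc q * d.u * q⁻¹ = ⁅d.u, q⁆⁻¹ * d.u := by rw [commutatorElement_def]; group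
          _ = t * d.u := by rw [e, inv_eq_self_of_invol ht]
      have e3 : (t * d.u) ^ 3 = 1 := by rw [← e', conj_pow, d.u_cube]; group
      rw [(mem_CC.1 d.u_mem).symm.mul_pow, d.u_cube, mul_one, pow_three, sq_eq_one_of_invol ht,
        mul_one] at e3
      exact ne_one_of_invol ht e3

include ht in
/-- `u` acts without fixed points on the core. -/
theorem fpfO : Fpf d.u d.O where
  cube := d.u_cube
  conj := d.normO _ d.u_mem
  fixed q hq h := by
    obtain ⟨a, ha, b, hb, e⟩ := d.u_self q (d.O_le hq) h.symm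
    have h6 : q ^ 6 = 1 := by
      rw [e]
      obtain ⟨i, rfl⟩ := mem_zpowers_iff.1 ha
      obtain ⟨j, rfl⟩ := mem_zpowers_iff.1 hb
      rw [((mem_CC.1 d.u_mem).symm.zpow_zpow i j).mul_pow, ← zpow_natCast, ← zpow_natCast,
        ← zpow_mul, ← zpow_mul, mul_comm i, mul_comm j, zpow_mul, zpow_mul, zpow_natCast, zpow_natCast,
        show t ^ 6 = 1 by rw [show 6 = orderOf t * 3 by rw [ht], pow_mul, pow_orderOf_eq_one, one_pow],
        show d.u ^ 6 = 1 by rw [show 6 = 3 * 2 by rfl, pow_mul, d.u_cube, one_pow]]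
      simp
    refine orderOf_eq_one_iff.1 (Nat.dvd_one.1 ?_)
    have h1 : orderOf q ∣ 6 := orderOf_dvd_of_pow_eq_one h6
    have h2 : Nat.Coprime 6 (Nat.card d.O) := by
      rw [show 6 = 2 * 3 from rfl]
      exact ((Nat.Prime.coprime_iff_not_dvd Nat.prime_two).2 d.odd).mul_left
        ((Nat.Prime.coprime_iff_not_dvd Nat.prime_three).2 d.O3)
    exact h2 ▸ Nat.dvd_gcd h1 (orderOf_dvd_natCard _ hq)

theorem eq_one_of_mem_O {a : G} (ha : a ∈ d.O) (h : ∃ k : ℕ, orderOf a = 2 ^ k) : a = 1 := by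
  obtain ⟨k, hk⟩ := h
  have h1 : 2 ^ k ∣ Nat.card d.O := hk ▸ orderOf_dvd_natCard _ ha
  rcases Nat.eq_zero_or_pos k with rfl | hk0
  · exact orderOf_eq_one_iff.1 (by simpa using hk)
  · exact absurd ((dvd_pow_self 2 hk0.ne').trans h1) d.odd

include ht in
/-- A 2-element of the centraliser is in `S0` or inverts `u` modulo `S0 × O`. -/
theorem two_element {y : G} (hy : y ∈ CC t) (h2 : ∃ k : ℕ, orderOf y = 2 ^ k) :
    y ∈ d.S0 ∨ ∃ q ∈ d.S0, ∃ o ∈ d.O, ∃ w ∈ CC t, y = q * o * w ∧ w * d.u * w⁻¹ = d.u⁻¹ := by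
  obtain ⟨q, hq, o, ho, w, hw, rfl, h | h⟩ := d.dec y hy
  swap
  · exact Or.inr ⟨q, hq, o, ho, w, hw, rfl, h⟩
  left
  obtain ⟨a, ha, b, hb, rfl⟩ := d.u_self w hw (mul_inv_eq_iff_eq_mul.1 h)
  set M : Subgroup G := d.S0 ⊔ d.O with hM
  have hCM : CC t ≤ normalizer (M : Set G) := by
    exact norm_of_conj fun g hg r hr => conj_sup (d.normS g hg) (d.normO g hg) hr
  let H := normalizer (M : Set G)
  let π := QuotientGroup.mk' (M.subgroupOf H)
  let y' : H := ⟨q * o * (a * b), hCM hy⟩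
  obtain ⟨j, rfl⟩ := mem_zpowers_iff.1 hb
  let U : H := ⟨d.u, hCM d.u_mem⟩
  have e1 : π y' = π U ^ j := by
    rw [← map_zpow]
    refine QuotientGroup.eq.2 ?_
    show (q * o * (a * d.u ^ j))⁻¹ * ((U ^ j : H) : G) ∈ M
    push_cast
    rw [show (q * o * (a * d.u ^ j))⁻¹ * d.u ^ j = d.u ^ (-j) * (q * o * a)⁻¹ * (d.u ^ (-j))⁻¹ by group]
    refine (mem_normalizer_iff.1 (hCM (zpow_mem d.u_mem (-j))) _).1 (inv_mem ?_)
    exact mul_mem (mul_mem (mem_sup_left hq) (mem_sup_right ho)) (mem_sup_left (d.T_le ha))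
  have e2 : π y' = 1 := by
    refine orderOf_eq_one_iff.1 (Nat.dvd_one.1 ?_)
    obtain ⟨k, hk⟩ := h2
    have h3 : orderOf (π y') ∣ 3 := by
      refine orderOf_dvd_of_pow_eq_one ?_
      rw [e1, ← zpow_natCast, ← zpow_mul, mul_comm, zpow_mul, zpow_natCast, ← map_pow,
        show U ^ 3 = 1 from Subtype.ext d.u_cube, map_one, one_zpow]
    have h4 : orderOf (π y') ∣ 2 ^ k := by
      rw [← hk, ← Subgroup.orderOf_mk _ (hCM hy)]
      exact orderOf_map_dvd π y'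
    exact (Nat.Coprime.pow_right k (by norm_num : Nat.Coprime 3 2)) ▸ Nat.dvd_gcd h3 h4
  have hyM : q * o * (a * d.u ^ j) ∈ M := (QuotientGroup.eq_one_iff y').1 e2
  obtain ⟨r, hr, p, hp, e⟩ : ∃ r ∈ d.S0, ∃ p ∈ d.O, q * o * (a * d.u ^ j) = r * p := by
    have hn : d.O ≤ normalizer (d.S0 : Set G) := fun g hg =>
      norm_of_conj (H := CC t) (fun g hg r hr => d.normS g hg r hr) (d.O_le hg)
    rw [← SetLike.mem_coe, hM, coe_mul_of_right_le_normalizer_left _ _ hn] at hyM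
    obtain ⟨r, hr, p, hp, e⟩ := hyM
    exact ⟨r, hr, p, hp, e.symm⟩
  obtain ⟨i, hi⟩ := IsPGroup.iff_orderOf.1 d.two ⟨r, hr⟩
  rw [Subgroup.orderOf_mk] at hi
  obtain ⟨k, hk⟩ := h2
  have hp1 : p = 1 := by
    have hco : Nat.Coprime (orderOf r) (orderOf p) := by
      rw [hi]
      exact ((Nat.Prime.coprime_iff_not_dvd Nat.prime_two).2 fun h =>
        d.odd (h.trans (orderOf_dvd_natCard _ hp))).pow_left i
    have hm := (d.comm r hr p hp).orderOf_mul_eq_mul_orderOf_of_coprime hco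
    rw [← e, hk] at hm
    obtain ⟨l, -, hl⟩ := (Nat.dvd_prime_pow Nat.prime_two).1 (Dvd.intro_left _ hm.symm : orderOf p ∣ 2 ^ k)
    exact d.eq_one_of_mem_O hp ⟨l, hl⟩
  rw [e, hp1, mul_one]
  exact hr

include ht in
/-- A 2-subgroup meets `S0` in a subgroup of index at most two. -/
theorem two_group_mul {P : Subgroup G} (hP : IsPGroup 2 P) (hPC : P ≤ CC t) {y z : G}
    (hy : y ∈ P) (hz : z ∈ P) (hy0 : y ∉ d.S0) (hz0 : z ∉ d.S0) : y⁻¹ * z ∈ d.S0 := by
  have h2 : ∀ x ∈ P, ∃ k : ℕ, orderOf x = 2 ^ k := fun x hx => by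
    obtain ⟨k, hk⟩ := IsPGroup.iff_orderOf.1 hP ⟨x, hx⟩
    exact ⟨k, by rw [← hk, Subgroup.orderOf_mk]⟩
  obtain ⟨q, hq, o, ho, w, hw, e, hwu⟩ := (d.two_element ht (hPC hy) (h2 y hy)).resolve_left hy0
  obtain ⟨q', hq', o', ho', w', hw', e', hwu'⟩ := (d.two_element ht (hPC hz) (h2 z hz)).resolve_left hz0
  rcases d.two_element ht (hPC (mul_mem (inv_mem hy) hz)) (h2 _ (mul_mem (inv_mem hy) hz)) with h | h
  · exact h
  exfalso
  obtain ⟨q'', hq'', o'', ho'', w'', hw'', e'', hwu''⟩ := h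
  set M : Subgroup G := d.S0 ⊔ d.O with hM
  have hCM : CC t ≤ normalizer (M : Set G) := by
    exact norm_of_conj fun g hg r hr => conj_sup (d.normS g hg) (d.normO g hg) hr
  let H := normalizer (M : Set G)
  let π := QuotientGroup.mk' (M.subgroupOf H)
  let U : H := ⟨d.u, hCM d.u_mem⟩
  -- conjugation by the images
  have key : ∀ (x q o w : G) (hx : x ∈ CC t) (_ : q ∈ d.S0) (_ : o ∈ d.O) (hw : w ∈ CC t),
      x = q * o * w → w * d.u * w⁻¹ = d.u⁻¹ →
      π ⟨x, hCM hx⟩ * π U * (π ⟨x, hCM hx⟩)⁻¹ = (π U)⁻¹ := by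
    intro x q o w hx hq ho hw e hwu
    have e1 : π ⟨x, hCM hx⟩ = π ⟨w, hCM hw⟩ := by
      refine QuotientGroup.eq.2 ?_
      show x⁻¹ * w ∈ M
      rw [e, show (q * o * w)⁻¹ * w = w⁻¹ * (q * o)⁻¹ * (w⁻¹)⁻¹ by group]
      exact (mem_normalizer_iff.1 (hCM (inv_mem hw)) _).1
        (inv_mem (mul_mem (mem_sup_left hq) (mem_sup_right ho)))
    rw [e1, ← map_inv, ← map_inv, ← map_mul, ← map_mul]
    exact congrArg _ (Subtype.ext hwu)
  have k1 := key y q o w (hPC hy) hq ho hw e hwu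
  have k2 := key z q' o' w' (hPC hz) hq' ho' hw' e' hwu'
  have k3 := key _ q'' o'' w'' (hPC (mul_mem (inv_mem hy) hz)) hq'' ho'' hw'' e'' hwu''
  have e3 : π ⟨y⁻¹ * z, hCM (hPC (mul_mem (inv_mem hy) hz))⟩ = (π ⟨y, hCM (hPC hy)⟩)⁻¹ * π ⟨z, hCM (hPC hz)⟩ := by
    rw [← map_inv, ← map_mul]; rfl
  have k4 : (π ⟨y, hCM (hPC hy)⟩)⁻¹ * (π U)⁻¹ * π ⟨y, hCM (hPC hy)⟩ = π U := by
    rw [← k1]; group
  rw [e3, mul_inv_rev, inv_inv] at k3
  have k5 : (π ⟨y, hCM (hPC hy)⟩)⁻¹ * π ⟨z, hCM (hPC hz)⟩ * π U * ((π ⟨z, hCM (hPC hz)⟩)⁻¹ * π ⟨y, hCM (hPC hy)⟩) = π U := by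
    calc _ = (π ⟨y, hCM (hPC hy)⟩)⁻¹ * (π ⟨z, hCM (hPC hz)⟩ * π U * (π ⟨z, hCM (hPC hz)⟩)⁻¹) *
          π ⟨y, hCM (hPC hy)⟩ := by group
      _ = π U := by rw [k2, k4]
  have k6 : π U = (π U)⁻¹ := k5.symm.trans k3
  have hM3 : d.u ∈ M := by
    have h2 : π (U * U) = 1 := by
      rw [map_mul]
      exact mul_eq_one_iff_eq_inv.2 k6
    have h4 : d.u * d.u ∈ M := (QuotientGroup.eq_one_iff (U * U)).1 h2
    have h5 : d.u = (d.u * d.u)⁻¹ := eq_inv_of_mul_eq_one_left (by rw [← d.u_cube, pow_three])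
    rw [h5]
    exact inv_mem h4
  have hn : d.O ≤ normalizer (d.S0 : Set G) := fun g hg =>
    norm_of_conj (H := CC t) (fun g hg r hr => d.normS g hg r hr) (d.O_le hg)
  rw [← SetLike.mem_coe, hM, coe_mul_of_right_le_normalizer_left _ _ hn] at hM3
  obtain ⟨r, hr, p, hp, e0⟩ := hM3
  dsimp only at e0
  have hu3 := d.u_ord
  rw [← e0, (d.comm r hr p hp).orderOf_mul_eq_mul_orderOf_of_coprime ?_] at hu3
  · rcases (Nat.prime_mul_iff.1 (hu3.symm ▸ Nat.prime_three)) with ⟨h, h'⟩ | ⟨h, h'⟩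
    · rw [h', mul_one] at hu3
      exact d.S3 (hu3 ▸ orderOf_dvd_natCard _ hr)
    · rw [h', one_mul] at hu3
      exact d.O3 (hu3 ▸ orderOf_dvd_natCard _ hp)
  · obtain ⟨i, hi⟩ := IsPGroup.iff_orderOf.1 d.two ⟨r, hr⟩
    rw [Subgroup.orderOf_mk] at hi
    rw [hi]
    exact ((Nat.Prime.coprime_iff_not_dvd Nat.prime_two).2 fun h =>
      d.odd (h.trans (orderOf_dvd_natCard _ hp))).pow_left i

include ht in
theorem card_le_two_mul {P : Subgroup G} (hP : IsPGroup 2 P) (hPC : P ≤ CC t) :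
    Nat.card P ≤ 2 * Nat.card ↥(P ⊓ d.S0) := by
  have h1 : (d.S0.subgroupOf P).index ≤ 2 := by
    by_cases hall : P ≤ d.S0
    · rw [show d.S0.subgroupOf P = ⊤ from subgroupOf_eq_top.2 hall, index_top]; omega
    · obtain ⟨y, hy, hy0⟩ := SetLike.not_le_iff_exists.1 hall
      refine (le_of_eq (index_eq_two_iff.2 ⟨⟨y⁻¹, inv_mem hy⟩, fun b => ?_⟩))
      by_cases hb : (b : G) ∈ d.S0
      · refine Or.inr ⟨hb, fun h => hy0 ?_⟩
        have := mul_mem (inv_mem hb) (mem_subgroupOf.1 h)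
        simpa using this
      · refine Or.inl ⟨?_, hb⟩
        have h2 := d.two_group_mul ht hP hPC (inv_mem b.2) (inv_mem hy)
          (fun h => hb (by simpa using inv_mem h)) (fun h => hy0 (by simpa using inv_mem h))
        exact mem_subgroupOf.2 (by simpa using h2)
  have h2 := (d.S0.subgroupOf P).card_mul_index
  rw [show Nat.card (d.S0.subgroupOf P) = Nat.card ↥(P ⊓ d.S0) by
    rw [← inf_subgroupOf_left, Nat.card_congr (subgroupOfEquivOfLe inf_le_left).toEquiv]] at h2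
  nlinarith

end Sol

end Cfsg.Agent.SixCent
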