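import Cfsg.Agent.Lib.SelfThree.FPF

/-!
A group of order prime to 3 with a fixed-point-free element of order 3 has class at most two.
-/

set_option autoImplicit false

open scoped commutatorElement

namespace Cfsg.Agent.SixCent

open SelfThree

variable {G : Type*} [Group G] [Finite G] {x : G} {Q : Subgroup G}

/-- The centralisers of the elements are normal. -/
theorem commute_conj_of_fpf (h : Fpf x Q) {b r a : G} (hb : b ∈ Q) (hr : r ∈ Q) (ha : a ∈ Q)
    (hbr : Commute b r) : Commute b (a * r * a⁻¹) := by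
  obtain ⟨v, hv, rfl⟩ := h.exists_eq ha
  have hv' := h.conj v hv
  have h1 : Commute b (x⁻¹ * r * x) := h.commute_invariant hb hr hbr
  set b1 : G := v * b * v⁻¹ with hb1
  set r1 : G := v * r * v⁻¹ with hr1
  have e1 : Commute b1 r1 := hbr.map (MulAut.conj v).toMonoidHom
  have e2 : Commute b1 (v * (x⁻¹ * r * x) * v⁻¹) := h1.map (MulAut.conj v).toMonoidHom
  have hb1Q : b1 ∈ Q := mul_mem (mul_mem hv hb) (inv_mem hv)
  have e3 := h.commute_invariant' hb1Q
    (mul_mem (mul_mem hv (h.conj_inv hr)) (inv_mem hv)) e2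
  have e4 := e3.map (MulAut.conj v⁻¹).toMonoidHom
  simp only [MulEquiv.coe_toMonoidHom, MulAut.conj_apply, hb1, inv_inv] at e4
  convert e4 using 1 <;> group

/-- Two elements generate a group in which their commutator is central. -/
theorem engel_of_fpf (h : Fpf x Q) {a b : G} (ha : a ∈ Q) (hb : b ∈ Q) :
    Commute a ⁅a, b⁆ := by
  have h1 := commute_conj_of_fpf h ha ha hb (Commute.refl a)
  have e : ⁅a, b⁆ = a * (b * a * b⁻¹)⁻¹ := by rw [commutatorElement_def]; group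
  rw [e]
  exact (Commute.refl a).mul_right h1.inv_right

theorem engel_of_fpf' (h : Fpf x Q) {a b : G} (ha : a ∈ Q) (hb : b ∈ Q) :
    Commute b ⁅a, b⁆ := by
  rw [← commutatorElement_inv b a]
  exact (engel_of_fpf h hb ha).inv_right

/-- The triple commutators commute with their arguments. -/
theorem triple_commute (h : Fpf x Q) {a b c : G} (ha : a ∈ Q) (hb : b ∈ Q) (hc : c ∈ Q) :
    Commute a ⁅⁅a, b⁆, c⁆ ∧ Commute b ⁅⁅a, b⁆, c⁆ ∧ Commute c ⁅⁅a, b⁆, c⁆ := by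
  have hd : ⁅a, b⁆ ∈ Q := by rw [commutatorElement_def]; exact mul_mem (mul_mem (mul_mem ha hb) (inv_mem ha)) (inv_mem hb)
  have key : ∀ r ∈ Q, Commute r ⁅a, b⁆ → Commute r ⁅⁅a, b⁆, c⁆ := fun r hr hrc => by
    have h1 := commute_conj_of_fpf h hr hd hc hrc
    rw [show ⁅⁅a, b⁆, c⁆ = ⁅a, b⁆ * (c * ⁅a, b⁆ * c⁻¹)⁻¹ by simp only [commutatorElement_def]; group]
    exact hrc.mul_right h1.inv_right
  exact ⟨key a ha (engel_of_fpf h ha hb), key b hb (engel_of_fpf' h ha hb), engel_of_fpf' h hd hc⟩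

/-- The triple commutator changes to its inverse if the last two arguments are exchanged. -/
theorem triple_swap (h : Fpf x Q) {a b c : G} (ha : a ∈ Q) (hb : b ∈ Q) (hc : c ∈ Q) :
    ⁅⁅a, b⁆, c⁆ = ⁅⁅a, c⁆, b⁆⁻¹ := by
  obtain ⟨a1, b1, c1⟩ := triple_commute h ha hb hc
  obtain ⟨a2, c2, b2⟩ := triple_commute h ha hc hb
  have hE := engel_of_fpf' h ha (mul_mem hb hc)
  set d := ⁅a, b⁆ with hd
  set d' := ⁅a, c⁆ with hd'
  set T := ⁅d, c⁆ with hT
  set e := ⁅d', b⁆ with he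
  have hdb : Commute b d := engel_of_fpf' h ha hb
  have hd'c : Commute c d' := engel_of_fpf' h ha hc
  have f1 : ⁅a, b * c⁆ = d * (e⁻¹ * d') := by
    rw [he, hd', hd]; simp only [commutatorElement_def]; group
  have hcd : c * d * c⁻¹ = T⁻¹ * d := by rw [hT, commutatorElement_def]; group
  have hbd' : b * d' * b⁻¹ = e⁻¹ * d' := by rw [he, commutatorElement_def]; group
  have hTd : Commute T d := by
    rw [hd, commutatorElement_def]
    exact ((((a1.symm.mul_right b1.symm)).mul_right a1.symm.inv_right).mul_right b1.symm.inv_right)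
  have hed : Commute e d := by
    rw [hd, commutatorElement_def]
    exact ((((a2.symm.mul_right b2.symm)).mul_right a2.symm.inv_right).mul_right b2.symm.inv_right)
  have hTb : Commute T b := b1.symm
  have hec : Commute e c := c2.symm
  have hbe : Commute b e := b2
  have lhs : (b * c) * (d * (e⁻¹ * d')) * (b * c)⁻¹ = T⁻¹ * d * (e⁻¹ * (e⁻¹ * d')) := by
    calc (b * c) * (d * (e⁻¹ * d')) * (b * c)⁻¹
        = b * ((c * d * c⁻¹) * ((c * e⁻¹ * c⁻¹) * (c * d' * c⁻¹))) * b⁻¹ := by group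
      _ = b * ((T⁻¹ * d) * (e⁻¹ * d')) * b⁻¹ := by
          rw [hcd, mul_inv_eq_iff_eq_mul.2 hec.inv_left.eq.symm, mul_inv_eq_iff_eq_mul.2 hd'c.eq]
      _ = (b * T⁻¹ * b⁻¹) * (b * d * b⁻¹) * ((b * e⁻¹ * b⁻¹) * (b * d' * b⁻¹)) := by group
      _ = _ := by
          rw [mul_inv_eq_iff_eq_mul.2 hTb.inv_left.eq.symm, mul_inv_eq_iff_eq_mul.2 hdb.eq,
            mul_inv_eq_iff_eq_mul.2 hbe.inv_right.eq, hbd']
  have hfix : (b * c) * (d * (e⁻¹ * d')) * (b * c)⁻¹ = d * (e⁻¹ * d') := by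
    rw [← f1]
    exact mul_inv_eq_iff_eq_mul.2 hE.eq
  rw [lhs] at hfix
  have e3 : T⁻¹ * d * e⁻¹ = d := mul_right_cancel
    (show T⁻¹ * d * e⁻¹ * (e⁻¹ * d') = d * (e⁻¹ * d') by rw [← hfix]; group)
  rw [mul_assoc, ← hed.inv_left.eq, ← mul_assoc, mul_eq_right] at e3
  exact (inv_mul_eq_one.1 e3)

theorem triple_swap' (h : Fpf x Q) {a b c : G} (ha : a ∈ Q) (hb : b ∈ Q) (hc : c ∈ Q) :
    ⁅⁅a, b⁆, c⁆ = ⁅⁅b, a⁆, c⁆⁻¹ := by
  have hd : ⁅b, a⁆ ∈ Q := by rw [commutatorElement_def]; exact mul_mem (mul_mem (mul_mem hb ha) (inv_mem hb)) (inv_mem ha)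
  rw [← commutatorElement_inv b a]
  have h2 : Commute ⁅b, a⁆ ⁅⁅b, a⁆, c⁆ := engel_of_fpf h hd hc
  generalize ⁅b, a⁆ = d at h2 ⊢
  calc ⁅d⁻¹, c⁆ = d⁻¹ * ⁅c, d⁆ * d := by simp only [commutatorElement_def]; group
    _ = ⁅d, c⁆⁻¹ := by
        rw [commutatorElement_inv, mul_assoc, inv_mul_eq_iff_eq_mul]
        rw [← commutatorElement_inv d c]
        exact h2.inv_right.symm.eq

/-- The class is at most two. -/
theorem class_two (h : Fpf x Q) (h3 : ¬ 3 ∣ Nat.card Q) {a b c : G}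
    (ha : a ∈ Q) (hb : b ∈ Q) (hc : c ∈ Q) : ⁅⁅a, b⁆, c⁆ = 1 := by
  obtain ⟨a1, b1, c1⟩ := triple_commute h ha hb hc
  set T := ⁅⁅a, b⁆, c⁆ with hT
  -- the cyclic rotations coincide
  have r1 : ⁅⁅b, c⁆, a⁆ = T := by
    rw [triple_swap h hb hc ha, triple_swap' h hb ha hc, inv_inv]
  have r2 : ⁅⁅c, a⁆, b⁆ = T := by
    rw [triple_swap' h hc ha hb, triple_swap h ha hc hb, inv_inv]
  have key : T⁻¹ * (T⁻¹ * T⁻¹) = 1 := by
    have step : ∀ p q r : G, p ∈ Q → q ∈ Q → r ∈ Q → ⁅⁅p, q⁆, r⁆ = T →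
        p * ⁅⁅p⁻¹, q⁆, r⁆ * p⁻¹ = T⁻¹ := by
      intro p q r hp hq hr hpq
      obtain ⟨p1, q1, r1'⟩ := triple_commute h hp hq hr
      have h1 : ⁅⁅p⁻¹, q⁆, r⁆ = T⁻¹ := by
        rw [show ⁅p⁻¹, q⁆ = p⁻¹ * ⁅q, p⁆ * p by simp only [commutatorElement_def]; group,
          mul_assoc, ← (engel_of_fpf' h hq hp).eq, inv_mul_cancel_left, triple_swap' h hq hp hr, hpq]
      rw [h1, mul_inv_eq_iff_eq_mul, ← hpq]
      exact p1.inv_right.eq
    have HW := conj_commutatorElement_left_commutatorElement_mul a b c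
    rw [mul_assoc (_ * a⁻¹) c, mul_assoc (_ * a⁻¹) (c * _), step a b c ha hb hc rfl,
      step c a b hc ha hb r2] at HW
    simp only [mul_assoc] at HW ⊢
    rw [show b * (⁅⁅b⁻¹, c⁆, a⁆ * b⁻¹) = T⁻¹ by
      rw [← mul_assoc]; exact step b c a hb hc ha r1] at HW
    exact HW
  have h3T : orderOf T ∣ 3 := by
    refine orderOf_dvd_of_pow_eq_one ?_
    rw [← inv_eq_one, ← inv_pow, pow_three, key]
  rcases (Nat.dvd_prime Nat.prime_three).1 h3T with e | e
  · exact orderOf_eq_one_iff.1 e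
  · exfalso
    have hTQ : T ∈ Q := by
      simp only [hT, commutatorElement_def]
      repeat first | apply mul_mem | apply inv_mem | assumption
    exact h3 (e ▸ Subgroup.orderOf_dvd_natCard Q hTQ)

end Cfsg.Agent.SixCent
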