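import Cfsg.Agent.Lib.SixCent.Act
import Mathlib.GroupTheory.SpecificGroups.Cyclic

/-!
The subgroup `S0 × O` of a solvable centraliser of an involution.
-/

set_option autoImplicit false
set_option linter.style.haveILetI false
set_option linter.unusedSectionVars false

open scoped commutatorElement
open Subgroup Cfsg.Agent.SelfThree

namespace Cfsg.Agent.SixCent

universe v

variable {G : Type v} [Group G]

theorem FpfMod.restrict {u : G} {M Q R : Subgroup G} (h : FpfMod u M Q) (hM : M ≤ R) (hR : R ≤ Q)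
    (hc : ∀ q ∈ R, u * q * u⁻¹ ∈ R) : FpfMod u M R where
  cube := h.cube
  le := hM
  conj := hc
  conjM := h.conjM
  norm := hR.trans h.norm
  fixed q hq := h.fixed q (hR hq)

namespace Sol

variable [Finite G] {t : G} (d : Sol t) (ht : orderOf t = 2)

/-- The subgroup `S0 × O`. -/
def M : Subgroup G := d.S0 ⊔ d.O

theorem cc_le_norm_M : CC t ≤ normalizer (d.M : Set G) :=
  norm_of_conj fun g hg _ hr => conj_sup (d.normS g hg) (d.normO g hg) hr

theorem mem_M {g : G} (hg : g ∈ d.M) : ∃ q ∈ d.S0, ∃ o ∈ d.O, g = q * o := by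
  have hn : d.O ≤ normalizer (d.S0 : Set G) := fun g hg =>
    norm_of_conj (H := CC t) (fun g hg r hr => d.normS g hg r hr) (d.O_le hg)
  rw [← SetLike.mem_coe, M, coe_mul_of_right_le_normalizer_left _ _ hn] at hg
  obtain ⟨q, hq, o, ho, e⟩ := hg
  exact ⟨q, hq, o, ho, e.symm⟩

include ht in
/-- The square of an element normalising `⟨u⟩` lies in `⟨t, u⟩`. -/
theorem sq_w {w : G} (hw : w ∈ CC t) (h : w * d.u * w⁻¹ = d.u ∨ w * d.u * w⁻¹ = d.u⁻¹) :
    ∃ a ∈ zpowers t, ∃ b ∈ zpowers d.u, w * w = a * b := by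
  refine d.u_self _ (mul_mem hw hw) (mul_inv_eq_iff_eq_mul.1 ?_)
  rcases h with h | h
  · calc w * w * d.u * (w * w)⁻¹ = w * (w * d.u * w⁻¹) * w⁻¹ := by group
      _ = d.u := by rw [h, h]
  · calc w * w * d.u * (w * w)⁻¹ = w * (w * d.u * w⁻¹) * w⁻¹ := by group
      _ = w * d.u⁻¹ * w⁻¹ := by rw [h]
      _ = (w * d.u * w⁻¹)⁻¹ := by group
      _ = d.u := by rw [h, inv_inv]

include ht in
theorem pow_six_mem {g : G} (hg : g ∈ CC t) : g ^ 6 ∈ d.M := by
  obtain ⟨q, hq, o, ho, w, hw, e, h⟩ := d.dec g hg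
  obtain ⟨a, ha, b, hb, hab⟩ := d.sq_w ht hw h
  let π := QuotientGroup.mk' (d.M.subgroupOf (normalizer (d.M : Set G)))
  let gg : normalizer (d.M : Set G) := ⟨g, d.cc_le_norm_M hg⟩
  let ww : normalizer (d.M : Set G) := ⟨w, d.cc_le_norm_M hw⟩
  have e1 : π gg = π ww := by
    refine QuotientGroup.eq.2 (mem_subgroupOf.2 ?_)
    show g⁻¹ * w ∈ d.M
    rw [e, show (q * o * w)⁻¹ * w = w⁻¹ * (q * o)⁻¹ * (w⁻¹)⁻¹ by group]
    exact (mem_normalizer_iff.1 (d.cc_le_norm_M (inv_mem hw)) _).1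
      (inv_mem (mul_mem (mem_sup_left hq) (mem_sup_right ho)))
  have e2 : π (ww ^ 6) = 1 := by
    refine (QuotientGroup.eq_one_iff _).2 (mem_subgroupOf.2 ?_)
    show ((ww ^ 6 : normalizer (d.M : Set G)) : G) ∈ d.M
    rw [SubmonoidClass.coe_pow, show w ^ 6 = (w * w) ^ 3 by simp only [pow_succ, pow_zero, one_mul, mul_assoc],
      hab]
    obtain ⟨j, rfl⟩ := mem_zpowers_iff.1 hb
    obtain ⟨i, rfl⟩ := mem_zpowers_iff.1 ha
    rw [((mem_CC.1 d.u_mem).symm.zpow_zpow i j).mul_pow, ← zpow_natCast (d.u ^ j), ← zpow_mul,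
      mul_comm j, zpow_mul, zpow_natCast, d.u_cube, one_zpow, mul_one]
    exact pow_mem (mem_sup_left (d.T_le (zpow_mem (mem_zpowers t) i))) 3
  have e3 : π (gg ^ 6) = 1 := by rw [map_pow, e1, ← map_pow, e2]
  exact mem_subgroupOf.1 ((QuotientGroup.eq_one_iff _).1 e3)

include ht in
/-- Elements of order prime to 6 lie in the core. -/
theorem mem_O_of_coprime {g : G} (hg : g ∈ CC t) (h6 : Nat.Coprime (orderOf g) 6) : g ∈ d.O := by
  obtain ⟨k, hk⟩ := exists_pow_eq_self_of_coprime h6.symm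
  obtain ⟨q, hq, o, ho, e⟩ := d.mem_M (hk ▸ pow_mem (d.pow_six_mem ht hg) k : g ∈ d.M)
  obtain ⟨i, hi⟩ := IsPGroup.iff_orderOf.1 d.two ⟨q, hq⟩
  rw [Subgroup.orderOf_mk] at hi
  have hco : Nat.Coprime (orderOf q) (orderOf o) := by
    rw [hi]
    exact ((Nat.Prime.coprime_iff_not_dvd Nat.prime_two).2 fun h =>
      d.odd (h.trans (orderOf_dvd_natCard _ ho))).pow_left i
  have hm := (d.comm q hq o ho).orderOf_mul_eq_mul_orderOf_of_coprime hco
  rw [← e] at hm
  have hq1 : q = 1 := by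
    refine orderOf_eq_one_iff.1 (Nat.eq_one_of_dvd_coprimes
      (Nat.Coprime.coprime_dvd_right (by norm_num : 2 ∣ 6) h6 |>.pow_right i) ?_ (hi ▸ dvd_rfl))
    exact hm ▸ dvd_mul_right _ _
  rw [e, hq1, one_mul]
  exact ho

include ht in
/-- The core meets the 2-elements trivially. -/
theorem eq_one_of_both {a : G} (ha : a ∈ d.O) (ha' : a ∈ d.S0) : a = 1 := by
  obtain ⟨k, hk⟩ := IsPGroup.iff_orderOf.1 d.two ⟨a, ha'⟩
  rw [Subgroup.orderOf_mk] at hk
  exact d.eq_one_of_mem_O ha ⟨k, hk⟩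

variable {A : Subgroup G} (hA : A ≤ d.S0) (hnA : ∀ g ∈ CC t, ∀ a ∈ A, g * a * g⁻¹ ∈ A)
  (hAc : ∀ q ∈ d.S0, ∀ a ∈ A, Commute q a) (hAt : ¬ A ≤ zpowers t)

include ht hA hnA hAc hAt in
/-- An element inverting `u` does not centralise `A`. -/
theorem inverter_moves {w : G} (hw : w ∈ CC t) (h : w * d.u * w⁻¹ = d.u⁻¹) :
    act A ⟨w, cc_le_norm hnA hw⟩ ≠ 1 := by
  intro h1
  have h2 := d.act_inverter ht hA hnA hAt hw h
  rw [h1, one_mul, inv_one, mul_one] at h2
  have h3 : d.ub hnA ^ 2 = 1 := by rw [pow_two, ← mul_eq_one_iff_eq_inv.2 h2]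
  have h4 := orderOf_dvd_of_pow_eq_one h3
  rw [d.ub_ord ht hA hnA hAt] at h4
  norm_num at h4

include ht hA hnA hAc hAt in
/-- The centraliser of `A` in the centraliser of `t` is `S0 × O`. -/
theorem cent_A_mem {g : G} (hg : g ∈ CC t) (h : ∀ a ∈ A, Commute g a) : g ∈ d.M := by
  obtain ⟨q, hq, o, ho, w, hw, e, hwu⟩ := d.dec g hg
  have hwA : ∀ a ∈ A, Commute w a := fun a ha => by
    have h1 : Commute (q * o) a := (hAc q hq a ha).mul_left (d.comm a (hA ha) o ho).symm
    have h2 : w = (q * o)⁻¹ * g := by rw [e]; group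
    rw [h2]
    exact h1.inv_left.mul_left (h a ha)
  rcases hwu with hwu | hwu
  · obtain ⟨a, ha, b, hb, e'⟩ := d.u_self w hw (mul_inv_eq_iff_eq_mul.1 hwu)
    rcases d.mem_zpowers_u hb with hb | hb | hb <;> subst hb
    · rw [e, e', mul_one]
      exact mul_mem (mul_mem (mem_sup_left hq) (mem_sup_right ho)) (mem_sup_left (d.T_le ha))
    all_goals
      exfalso
      refine hAt fun c hc => d.fix_eq ht (hA hc) ?_
      have h3 := ((T_cent ha (d.S0_le (hA hc))).symm.inv_left).mul_left (hwA c hc)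
      rw [e', inv_mul_cancel_left] at h3
      first | exact h3 | exact Commute.inv_left_iff.1 h3
  · exact absurd (act_eq_one.2 hwA) (d.inverter_moves ht hA hnA hAc hAt hw hwu)

include ht hA hnA hAc hAt in
/-- A 2-element outside `S0` does not centralise `A`. -/
theorem outside_moves {y : G} (hy : y ∈ CC t) (h2 : ∃ k : ℕ, orderOf y = 2 ^ k) (hy0 : y ∉ d.S0) :
    ¬ ∀ a ∈ A, Commute y a := by
  intro h
  obtain ⟨q, hq, o, ho, e⟩ := d.mem_M (d.cent_A_mem ht hA hnA hAc hAt hy h)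
  obtain ⟨i, hi⟩ := IsPGroup.iff_orderOf.1 d.two ⟨q, hq⟩
  rw [Subgroup.orderOf_mk] at hi
  obtain ⟨k, hk⟩ := h2
  have hm := (d.comm q hq o ho).orderOf_mul_eq_mul_orderOf_of_coprime (by
    rw [hi]
    exact ((Nat.Prime.coprime_iff_not_dvd Nat.prime_two).2 fun h =>
      d.odd (h.trans (orderOf_dvd_natCard _ ho))).pow_left i)
  rw [← e, hk] at hm
  obtain ⟨l, -, hl⟩ := (Nat.dvd_prime_pow Nat.prime_two).1 (Dvd.intro_left _ hm.symm : orderOf o ∣ 2 ^ k)
  rw [e, d.eq_one_of_mem_O ho ⟨l, hl⟩, mul_one] at hy0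
  exact hy0 hq

include d ht in
/-- The centraliser is solvable. -/
theorem solvable : Group.IsSolvable (CC t) := by
  let L : Subgroup G := CC t ⊓ normalizer (zpowers d.u : Set G)
  haveI hOn : Group.IsNilpotent d.O := (d.fpfO ht).nilpotent
  haveI : Group.IsSolvable d.O := inferInstance
  haveI : Group.IsNilpotent d.S0 := d.two.isNilpotent
  haveI : Group.IsSolvable d.S0 := inferInstance
  haveI hL : Group.IsSolvable L := by
    let ι : L →* normalizer (zpowers d.u : Set G) := inclusion inf_le_right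
    let f : L →* MulAut (zpowers d.u) := (normalizerMonoidHom (zpowers d.u)).comp ι
    haveI : Group.IsSolvable f.ker := by
      refine Group.isSolvable_of_comm fun a b => Subtype.ext (Subtype.ext ?_)
      have key : ∀ x : f.ker, ∃ p ∈ zpowers t, ∃ r ∈ zpowers d.u, ((x : L) : G) = p * r := by
        intro x
        have hx : ι x ∈ (normalizerMonoidHom (zpowers d.u)).ker := x.2
        rw [normalizerMonoidHom_ker] at hx
        exact d.u_self _ (x : L).2.1 ((mem_centralizer_iff.1 (mem_subgroupOf.1 hx)) d.u (mem_zpowers _)).symm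
      obtain ⟨p, hp, r, hr, e⟩ := key a
      obtain ⟨p', hp', r', hr', e'⟩ := key b
      show ((a : L) : G) * ((b : L) : G) = ((b : L) : G) * ((a : L) : G)
      rw [e, e']
      obtain ⟨i, rfl⟩ := mem_zpowers_iff.1 hp
      obtain ⟨i', rfl⟩ := mem_zpowers_iff.1 hp'
      obtain ⟨j, rfl⟩ := mem_zpowers_iff.1 hr
      obtain ⟨j', rfl⟩ := mem_zpowers_iff.1 hr'
      have c := (mem_CC.1 d.u_mem).symm
      exact ((((Commute.refl t).zpow_zpow i i').mul_left (c.symm.zpow_zpow j i')).mul_right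
        ((c.zpow_zpow i j').mul_left ((Commute.refl d.u).zpow_zpow j j'))).eq
    haveI : Group.IsSolvable (MulAut (zpowers d.u)) := by
      haveI : IsCyclic (zpowers d.u) := inferInstance
      refine Group.isSolvable_of_comm fun a b => ?_
      exact (IsCyclic.mulAutMulEquiv (zpowers d.u)).injective (by rw [map_mul, map_mul, mul_comm])
    exact Group.isSolvable_of_ker_le_range f.ker.subtype f (by rw [range_subtype])
  -- the centraliser is `(S0 × O) · L`
  let MC : Subgroup (CC t) := d.M.subgroupOf (CC t)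
  haveI : MC.Normal := normal_subgroupOf_of_le_normalizer d.cc_le_norm_M
  haveI : Group.IsSolvable MC := by
    let f : d.S0 × d.O →* d.M :=
      { toFun := fun p => ⟨(p.1 : G) * (p.2 : G), mul_mem (mem_sup_left p.1.2) (mem_sup_right p.2.2)⟩
        map_one' := Subtype.ext (mul_one _)
        map_mul' := fun p q => Subtype.ext (by
          show (p.1 : G) * (q.1 : G) * ((p.2 : G) * (q.2 : G)) = (p.1 : G) * (p.2 : G) * ((q.1 : G) * (q.2 : G))
          rw [mul_assoc, ← mul_assoc (q.1 : G), (d.comm _ q.1.2 _ p.2.2).eq]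
          simp only [mul_assoc]) }
    haveI : Group.IsSolvable d.M := Group.isSolvable_of_surjective (f := f) fun m => by
      obtain ⟨q, hq, o, ho, e⟩ := d.mem_M m.2
      exact ⟨(⟨q, hq⟩, ⟨o, ho⟩), Subtype.ext e.symm⟩
    exact Group.isSolvable_of_isSolvable_injective (f := (CC t).subtype.subgroupComap d.M)
      fun a b h => by
        have := congrArg Subtype.val h
        exact Subtype.ext (Subtype.ext this)
  refine (Group.isSolvable_iff_subgroup_quotient MC).2 ⟨inferInstance, ?_⟩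
  let g : L →* CC t ⧸ MC := (QuotientGroup.mk' MC).comp (inclusion inf_le_left)
  refine Group.isSolvable_of_surjective (f := g) fun x => ?_
  obtain ⟨c, rfl⟩ := QuotientGroup.mk'_surjective MC x
  obtain ⟨q, hq, o, ho, w, hw, e, h⟩ := d.dec c c.2
  have hwn : w ∈ normalizer (zpowers d.u : Set G) := by
    refine norm_of_conj (H := zpowers w) (fun g hg r hr => ?_) (mem_zpowers w)
    obtain ⟨i, rfl⟩ := mem_zpowers_iff.1 hg
    obtain ⟨j, rfl⟩ := mem_zpowers_iff.1 hr
    rw [← conj_zpow]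
    refine zpow_mem ?_ j
    have hu1 : w * d.u * w⁻¹ ∈ zpowers d.u := by
      rcases h with h | h <;> rw [h]
      · exact mem_zpowers _
      · exact inv_mem (mem_zpowers _)
    have hn : w ∈ normalizer (zpowers d.u : Set G) := by
      have heq : (zpowers d.u).map (MulAut.conj w).toMonoidHom = zpowers d.u := by
        refine eq_of_le_of_card_ge ?_ (card_map_of_injective (MulAut.conj w).injective).ge
        rw [MonoidHom.map_zpowers]
        exact zpowers_le.2 hu1
      refine mem_normalizer_iff.2 fun r => ⟨fun hr => heq ▸ mem_map_of_mem _ hr, fun hr => ?_⟩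
      obtain ⟨r', hr', e'⟩ := heq.symm ▸ hr
      rwa [← (MulAut.conj w).injective e']
    exact (mem_normalizer_iff.1 (zpow_mem hn i) _).1 (mem_zpowers _)
  refine ⟨⟨w, hw, hwn⟩, QuotientGroup.eq.2 ?_⟩
  show w⁻¹ * (c : G) ∈ d.M
  rw [e, show w⁻¹ * (q * o * w) = w⁻¹ * (q * o) * (w⁻¹)⁻¹ by group]
  exact (mem_normalizer_iff.1 (d.cc_le_norm_M (inv_mem hw)) _).1
    (mul_mem (mem_sup_left hq) (mem_sup_right ho))

end Sol

end Cfsg.Agent.SixCent
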