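import Cfsg.Agent.Lib.Char.Orbit
import Cfsg.Agent.Lib.Char.Complete
import Cfsg.Agent.Lib.Char.Degree
import Mathlib.GroupTheory.NoncommCoprod
import Mathlib.GroupTheory.SpecificGroups.Cyclic
import Mathlib.Analysis.Complex.Basic

/-!
A character constant on a coset `t E` of an abelian group `E` centralised by a quaternion group with centre
`⟨t⟩` and moved without fixed points by an element of order three has degree at least `12` plus that value.
-/

set_option autoImplicit false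
set_option linter.style.haveILetI false
set_option linter.unusedSectionVars false

namespace Cfsg.Agent.SixCent

open Cfsg Cfsg.Agent.Char Cfsg.Agent.CharX
open scoped ComplexConjugate

universe u

variable {G : Type u} [Group G] [Fintype G]

theorem degree_bound {t w j g : G} {E : Subgroup G}
    (hEc : ∀ a ∈ E, ∀ b ∈ E, Commute a b) (hw2 : w * w = t) (hw : orderOf w = 4)
    (hwE : ∀ a ∈ E, Commute w a) (hjE : ∀ a ∈ E, Commute j a) (hj : j * w * j⁻¹ = w⁻¹)
    (hg : ∀ a ∈ E, g * a * g⁻¹ ∈ E) (hg3 : g ^ 3 = 1)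
    (hfix : ∀ a ∈ E, g * a * g⁻¹ = a → a = 1) (χ : IrrCharacter G)
    (hker : ∀ a ∈ E, (χ : G → ℂ) a = (χ : G → ℂ) 1 → a = 1) (hE : E ≠ ⊥) (T : ℤ)
    (hT : ∀ a ∈ E, (χ : G → ℂ) (t * a) = (T : ℂ)) :
    12 + T.natAbs ≤ charDegree (χ : G → ℂ) := by
  classical
  haveI : Fintype E := Fintype.ofFinite E
  haveI : Fintype (Subgroup.zpowers w) := Fintype.ofFinite _
  have hχ := IsIrrCharacter.isCharacter χ.2
  have hclass := isClassFunction_iff.mp (IsCharacter.isClassFunction hχ)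
  set N : ℂ := (Nat.card E : ℂ) with hN
  have hN0 : N ≠ 0 := Nat.cast_ne_zero.2 Nat.card_pos.ne'
  -- the characters of `E × ⟨w⟩`
  let Φ : E × Subgroup.zpowers w →* G := MonoidHom.noncommCoprod E.subtype (Subgroup.zpowers w).subtype
    fun a b => by
      obtain ⟨i, hi⟩ := Subgroup.mem_zpowers_iff.1 b.2
      show Commute (a : G) (b : G)
      rw [← hi]
      exact ((hwE a a.2).symm).zpow_right i
  have hwm : ∀ x : Subgroup.zpowers w, x ∈ Subgroup.zpowers (⟨w, Subgroup.mem_zpowers w⟩ : Subgroup.zpowers w) := by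
    rintro ⟨x, hx⟩
    obtain ⟨i, rfl⟩ := Subgroup.mem_zpowers_iff.1 hx
    exact Subgroup.mem_zpowers_iff.2 ⟨i, Subtype.ext (Subgroup.coe_zpow _ _ _)⟩
  let I' : ℂˣ := ⟨Complex.I, -Complex.I, by simp, by simp⟩
  have hI4 : orderOf I' ∣ orderOf (⟨w, Subgroup.mem_zpowers w⟩ : Subgroup.zpowers w) := by
    rw [Subgroup.orderOf_mk, hw]
    refine orderOf_dvd_of_pow_eq_one (Units.ext ?_)
    simp [I', Complex.I_pow_four]
  let μ : Subgroup.zpowers w →* ℂˣ := monoidHomOfForallMemZpowers hwm hI4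
  have hμ : (μ ⟨w, Subgroup.mem_zpowers w⟩ : ℂ) = Complex.I := by
    simp only [μ, monoidHomOfForallMemZpowers_apply_gen]
    rfl
  have hsum : ∀ F : Subgroup.zpowers w → ℂ, ∑ x, F x =
      F 1 + F ⟨w, Subgroup.mem_zpowers w⟩ + F (⟨w, Subgroup.mem_zpowers w⟩ ^ 2) +
        F (⟨w, Subgroup.mem_zpowers w⟩ ^ 3) := by
    intro F
    have e : ∑ i : Fin 4, F ((finEquivZPowers (isOfFinOrder_of_finite w))
        (Fin.cast hw.symm i)) = ∑ x, F x :=
      Fintype.sum_equiv ((finCongr hw.symm).trans (finEquivZPowers (isOfFinOrder_of_finite w))) _ _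
        fun _ => rfl
    rw [← e, Fin.sum_univ_four]
    simp [finEquivZPowers_apply, SubmonoidClass.mk_pow]
    rfl
  have hc : Nat.card (E × Subgroup.zpowers w) = 4 * Nat.card E := by
    rw [Nat.card_prod, Nat.card_zpowers, hw, mul_comm]
  -- the inner products
  set m : (E →* ℂˣ) → ℂ := fun l => N⁻¹ * ∑ a : E, (χ : G → ℂ) a * conj ((l a : ℂˣ) : ℂ) with hm
  set mt : (E →* ℂˣ) → ℂ := fun l => N⁻¹ * ∑ a : E, (χ : G → ℂ) (t * a) * conj ((l a : ℂˣ) : ℂ) with hmt
  have hswap : ∀ a : E, (χ : G → ℂ) ((a : G) * w) = (χ : G → ℂ) ((a : G) * w ^ 3) := fun a => by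
    refine hclass _ _ (isConj_iff.2 ⟨j, ?_⟩)
    have h3 : w ^ 3 = w⁻¹ := eq_inv_of_mul_eq_one_left (by
      rw [← pow_succ, show 3 + 1 = orderOf w from hw.symm, pow_orderOf_eq_one])
    rw [h3]
    calc j * ((a : G) * w) * j⁻¹ = (j * (a : G) * j⁻¹) * (j * w * j⁻¹) := by group
      _ = _ := by rw [(hjE a a.2).eq, mul_inv_cancel_right, hj]
  have key : ∀ l : E →* ℂˣ, ∃ n₁ n₂ n₃ : ℕ,
      (4 : ℂ) * n₁ = m l - mt l ∧ (2 : ℂ) * (n₂ + n₃) = m l + mt l := by
    intro l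
    set sw : ℂ := N⁻¹ * ∑ a : E, (χ : G → ℂ) ((a : G) * w) * conj ((l a : ℂˣ) : ℂ)
    have hval : ∀ ν : Subgroup.zpowers w →* ℂˣ, ∀ z : ℂ, (ν ⟨w, Subgroup.mem_zpowers w⟩ : ℂ) = z →
        ∃ n : ℕ, (n : ℂ) = 4⁻¹ * (m l + conj (z ^ 2) * mt l + (conj z + conj (z ^ 3)) * sw) := by
      intro ν z hz
      obtain ⟨n, hn⟩ := IsCharacter.exists_classInner_nat (IsCharacter.comp hχ Φ)
        (IsIrrCharacter.isCharacter (isIrrCharacter_linear
          ((l.comp (MonoidHom.fst _ _)) * (ν.comp (MonoidHom.snd _ _)))))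
      refine ⟨n, ?_⟩
      rw [← hn]
      simp only [Cfsg.classInner, hc, Fintype.sum_prod_type, Function.comp_apply, MonoidHom.mul_apply,
        MonoidHom.comp_apply, MonoidHom.coe_fst, MonoidHom.coe_snd, Units.val_mul, map_mul, hsum,
        map_one, map_pow, Units.val_pow_eq_pow_val, Units.val_one, hz, Φ,
        MonoidHom.noncommCoprod_apply, Subgroup.coe_subtype, OneMemClass.coe_one, SubmonoidClass.coe_pow,
        mul_one, Finset.sum_add_distrib]
      have e2 : ∀ a : E, (a : G) * w ^ 2 = t * (a : G) := fun a => by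
        rw [pow_two, hw2]
        have : Commute (w * w) (a : G) := (hwE a a.2).mul_left (hwE a a.2)
        rw [hw2] at this
        exact this.eq.symm
      simp only [e2, ← hswap, m, mt, sw, hN, Nat.cast_mul, Nat.cast_ofNat, mul_inv, Finset.mul_sum,
        ← Finset.sum_add_distrib]
      refine Finset.sum_congr rfl fun a _ => ?_
      ring
    obtain ⟨n₁, h₁⟩ := hval μ _ hμ
    obtain ⟨n₂, h₂⟩ := hval 1 1 rfl
    obtain ⟨n₃, h₃⟩ := hval (μ * μ) (-1) (by
      rw [MonoidHom.mul_apply, Units.val_mul, hμ, Complex.I_mul_I])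
    refine ⟨n₁, n₂, n₃, ?_, ?_⟩
    · rw [h₁]
      simp only [map_pow, Complex.conj_I]
      ring_nf
      simp [Complex.I_sq, pow_succ, Complex.I_mul_I]
      ring
    · rw [h₂, h₃]
      simp only [map_pow, map_one, map_neg]
      ring
  -- the linear characters of `E`
  have horth : ∀ l : E →* ℂˣ, l ≠ 1 → ∑ a : E, conj ((l a : ℂˣ) : ℂ) = 0 := by
    intro l hl
    obtain ⟨b, hb⟩ : ∃ b, l b ≠ 1 := by
      by_contra hh
      push Not at hh
      exact hl (MonoidHom.ext hh)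
    have h1 : (∑ a : E, ((l a : ℂˣ) : ℂ)) = 0 := by
      refine eq_zero_of_mul_eq_self_left (b := ((l b : ℂˣ) : ℂ)) (fun e => hb (Units.ext e)) ?_
      rw [Finset.mul_sum]
      exact Fintype.sum_equiv (Equiv.mulLeft b) _ _ fun a => by simp
    rw [← map_sum, h1, map_zero]
  have hmt1 : ∀ l : E →* ℂˣ, l ≠ 1 → mt l = 0 := fun l hl => by
    simp only [mt, hT _ (SetLike.coe_mem _)]
    rw [← Finset.mul_sum, horth l hl, mul_zero, mul_zero]
  have hmt0 : mt 1 = (T : ℂ) := by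
    simp only [mt, hT _ (SetLike.coe_mem _), MonoidHom.one_apply, Units.val_one, map_one, mul_one,
      Finset.sum_const, Finset.card_univ, ← Nat.card_eq_fintype_card, nsmul_eq_mul]
    rw [← hN, inv_mul_cancel_left₀ hN0]
  let f : E → ℂ := fun a => (χ : G → ℂ) a
  have hf : IsCharacter E f := IsCharacter.restrict hχ E
  have hmf : ∀ l : E →* ℂˣ, classInner f (fun a => (l a : ℂ)) = m l := fun l => rfl
  -- the degree is the sum over the irreducible characters of `E`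
  choose a ha using fun ψ : IrrCharacter E =>
    IsCharacter.exists_classInner_nat hf (IsIrrCharacter.isCharacter ψ.2)
  have hcomm : ∀ a b : E, a * b = b * a := fun a b => Subtype.ext (hEc a a.2 b b.2)
  have hlin : ∀ ψ : IrrCharacter E, ∃ l : E →* ℂˣ, (ψ : E → ℂ) = fun a => (l a : ℂ) := fun ψ =>
    exists_hom_of_degree_one (IsIrrCharacter.isCharacter ψ.2) (degree_one_of_comm hcomm ψ.2)
  have hdeg : ∀ z : E, f z = ∑ ψ : IrrCharacter E, (a ψ : ℂ) * (ψ : E → ℂ) z := fun z => by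
    conv_lhs => rw [IsCharacter.eq_sum hf]
    rw [Finset.sum_apply]
    exact Finset.sum_congr rfl fun ψ _ => by rw [Pi.smul_apply, smul_eq_mul, ha]
  have hdeg1 : charDegree (χ : G → ℂ) = ∑ ψ : IrrCharacter E, a ψ := by
    have h := hdeg 1
    rw [Finset.sum_congr rfl (g := fun ψ : IrrCharacter E => ((a ψ : ℕ) : ℂ)) fun ψ _ => by
      rw [degree_one_of_comm hcomm ψ.2, mul_one]] at h
    have h' : (χ : G → ℂ) 1 = ((∑ ψ : IrrCharacter E, a ψ : ℕ) : ℂ) := by
      rw [Nat.cast_sum, ← h]; rfl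
    exact_mod_cast (irr_deg χ).symm.trans h'
  -- a nontrivial constituent
  obtain ⟨ψ, hψ0, l, hl, hl1⟩ : ∃ ψ : IrrCharacter E, a ψ ≠ 0 ∧ ∃ l : E →* ℂˣ,
      (ψ : E → ℂ) = (fun a => (l a : ℂ)) ∧ l ≠ 1 := by
    by_contra hh
    push Not at hh
    obtain ⟨z, hz, hz1⟩ := (Subgroup.ne_bot_iff_exists_ne_one).1 hE |> fun ⟨z, hz⟩ =>
      (⟨(z : G), z.2, fun e => hz (Subtype.ext e)⟩ : ∃ z, z ∈ E ∧ z ≠ 1)
    refine hz1 (hker z hz ?_)
    have h := hdeg ⟨z, hz⟩
    have h1 := hdeg 1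
    refine h.trans (Eq.trans ?_ h1.symm)
    refine Finset.sum_congr rfl fun ψ _ => ?_
    by_cases h0 : a ψ = 0
    · simp [h0]
    obtain ⟨l, hl⟩ := hlin ψ
    rw [hl, hh ψ h0 l hl]
    simp
  -- its conjugates
  let σ : E →* E :=
    { toFun := fun a => ⟨g * a * g⁻¹, hg a a.2⟩
      map_one' := Subtype.ext (by simp)
      map_mul' := fun a b => Subtype.ext (by simp [mul_assoc]) }
  have hσinj : Function.Injective fun a : E => a⁻¹ * σ a := by
    intro x y hxy
    have hxy' : x⁻¹ * σ x = y⁻¹ * σ y := hxy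
    have e : σ (x * y⁻¹) = x * y⁻¹ := by
      rw [map_mul, map_inv, show σ x = x * (y⁻¹ * σ y) by rw [← hxy', mul_inv_cancel_left]]
      group
    have h := hfix _ (x * y⁻¹).2 (congrArg Subtype.val e)
    exact mul_inv_eq_one.1 (Subtype.ext h)
  have hfixl : ∀ k : E →* ℂˣ, k.comp σ = k → k = 1 := fun k hk => MonoidHom.ext fun z => by
    obtain ⟨x, rfl⟩ := (Finite.injective_iff_surjective.1 hσinj) z
    rw [map_mul, map_inv, ← MonoidHom.comp_apply, hk, inv_mul_cancel, MonoidHom.one_apply]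
  have hσ3 : ∀ z : E, σ (σ (σ z)) = z := fun z => Subtype.ext (by
    show g * (g * (g * (z : G) * g⁻¹) * g⁻¹) * g⁻¹ = z
    rw [show g * (g * (g * (z : G) * g⁻¹) * g⁻¹) * g⁻¹ = (g * g * g) * z * (g * g * g)⁻¹ by group,
      show g * g * g = 1 by rw [← hg3, pow_three, mul_assoc]]
    group)
  have hmσ : ∀ k : E →* ℂˣ, m (k.comp σ) = m k := by
    intro k
    simp only [m]
    refine congrArg _ (Fintype.sum_equiv (Equiv.ofBijective σ ⟨fun x y e => ?_, fun y => ⟨σ (σ y), hσ3 y⟩⟩)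
      _ _ fun z => ?_)
    · rw [← hσ3 x, ← hσ3 y, e]
    · show _ = (χ : G → ℂ) (σ z : G) * conj ((k (σ z) : ℂˣ) : ℂ)
      rw [show (χ : G → ℂ) (σ z : G) = (χ : G → ℂ) (z : G) from
        (hclass _ _ (isConj_iff.2 ⟨g, rfl⟩)).symm]
      rfl
  let l₁ := l.comp σ
  let l₂ := l₁.comp σ
  have hl1' : l₁ ≠ 1 := fun e => hl1 (MonoidHom.ext fun z => by
    have := DFunLike.congr_fun e (σ (σ z))
    simpa [l₁, hσ3] using this)
  have hl2' : l₂ ≠ 1 := fun e => hl1 (MonoidHom.ext fun z => by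
    have := DFunLike.congr_fun e (σ z)
    simpa [l₂, l₁, hσ3] using this)
  have n01 : l₁ ≠ l := fun e => hl1 (hfixl l e)
  have n12 : l₂ ≠ l₁ := fun e => hl1' (hfixl l₁ e)
  have n02 : l₂ ≠ l := fun e => n01 (MonoidHom.ext fun z => by
    have := DFunLike.congr_fun e (σ z)
    simp only [l₂, l₁, MonoidHom.comp_apply, hσ3] at this ⊢
    exact this.symm)
  let p : (E →* ℂˣ) → IrrCharacter E := fun k => ⟨fun z => (k z : ℂ), isIrrCharacter_linear k⟩
  have hp : Function.Injective p := fun k k' e => MonoidHom.ext fun z =>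
    Units.ext (congrFun (congrArg Subtype.val e) z)
  have hap : ∀ k, (a (p k) : ℂ) = m k := fun k => (ha (p k)).symm
  have hψp : ψ = p l := Subtype.ext hl
  obtain ⟨n₁, n₂, n₃, e₁, -⟩ := key l
  rw [hmt1 l hl1, sub_zero, ← hap] at e₁
  have e₁' : 4 * n₁ = a (p l) := by exact_mod_cast e₁
  have hge : 4 ≤ a (p l) := by rw [← hψp] at e₁' ⊢; omega
  have hs1 : a (p l₁) = a (p l) := by exact_mod_cast (hap l₁).trans ((hmσ l).trans (hap l).symm)
  have hs2 : a (p l₂) = a (p l) := by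
    exact_mod_cast (hap l₂).trans ((hmσ l₁).trans ((hmσ l).trans (hap l).symm))
  obtain ⟨k₁, k₂, k₃, c₁, c₂⟩ := key 1
  rw [hmt0, ← hap] at c₁ c₂
  have c₁' : 4 * (k₁ : ℤ) = a (p 1) - T := by exact_mod_cast c₁
  have c₂' : 2 * ((k₂ : ℤ) + k₃) = a (p 1) + T := by exact_mod_cast c₂
  have hT' : T.natAbs ≤ a (p 1) := by omega
  rw [hdeg1]
  refine le_trans ?_ (Finset.sum_le_sum_of_subset (Finset.subset_univ {p 1, p l, p l₁, p l₂}))
  rw [Finset.sum_insert (by simp [hp.eq_iff, Ne.symm hl1, Ne.symm hl1', Ne.symm hl2']),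
    Finset.sum_insert (by simp [hp.eq_iff, n01.symm, n02.symm]),
    Finset.sum_insert (by simp [hp.eq_iff, n12.symm]), Finset.sum_singleton]
  omega

end Cfsg.Agent.SixCent
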