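import Cfsg.Agent.Lib.SixCent.Pair

/-!
Commutators and squares of `S0` lie in `⟨t⟩`.
-/

set_option autoImplicit false
set_option linter.style.haveILetI false
set_option linter.unusedSectionVars false

open scoped commutatorElement
open Subgroup Cfsg.Agent.SelfThree

namespace Cfsg.Agent.SixCent

universe v

variable {G : Type v} [Group G] [Finite G]

namespace Sol

variable {t : G} (d : Sol t) (ht : orderOf t = 2) (h : Hyp G) [IsSimpleGroup G]

theorem map_A (e : G ≃* G) : (d.map e).A = d.A.map e.toMonoidHom := by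
  rw [A, A, Subgroup.map_sup, map_commutator, MonoidHom.map_zpowers]
  rfl

/-- A setting for a conjugate involution with the same orders. -/
theorem exists_conj {w : G} (hw : IsConj t w) :
    ∃ e : Sol w, Nat.card e.S0 = Nat.card d.S0 ∧ Nat.card e.A = Nat.card d.A := by
  obtain ⟨g, rfl⟩ := isConj_iff.1 hw
  have hcard : ∀ H : Subgroup G, Nat.card (H.map (MulAut.conj g).toMonoidHom) = Nat.card H :=
    fun H => card_map_of_injective (MulAut.conj g).injective
  refine ⟨d.map (MulAut.conj g), hcard d.S0, ?_⟩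
  rw [← hcard d.A, ← d.map_A]
  rfl

include ht h in
/-- The derived group of `S0` lies in `⟨t⟩`. -/
theorem derived_le : d.A ≤ zpowers t := by
  by_contra hA
  haveI : Fact (Nat.Prime 2) := ⟨Nat.prime_two⟩
  obtain ⟨S, hS⟩ := exists_sylow_cc h ht
  have hS0S : d.S0 ≤ (S : Subgroup G) := d.S0_le_sylow S hS
  -- an element of the derived group fixed modulo `⟨t⟩` by the Sylow subgroup
  obtain ⟨v, hvA, hvT, hvS⟩ : ∃ v ∈ d.A, v ∉ zpowers t ∧
      ∀ s ∈ (S : Subgroup G), ⁅s, v⁆ ∈ zpowers t := by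
    obtain ⟨a, haA, haT⟩ := SetLike.not_le_iff_exists.1 hA
    have hS0 : ∀ b ∈ d.A, ∀ q ∈ d.S0, ⁅q, b⁆ ∈ zpowers t := fun b hb q hq =>
      comm_flip ((d.A_le_Y0 ht hb).2 q hq)
    by_cases hc : ∀ s ∈ (S : Subgroup G), ⁅s, a⁆ ∈ zpowers t
    · exact ⟨a, haA, haT, hc⟩
    push Not at hc
    obtain ⟨s0, hs0S, hs0a⟩ := hc
    have hs0 : s0 ∉ d.S0 := fun h' => hs0a (hS0 a haA s0 h')
    have hvA : ⁅s0, a⁆ ∈ d.A := by
      rw [commutatorElement_def]
      exact mul_mem (d.A_normal (hS hs0S) haA) (inv_mem haA)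
    refine ⟨⁅s0, a⁆, hvA, hs0a, fun s hs => ?_⟩
    have hs00 : s0 * s0 ∈ d.S0 := by
      have := d.two_group_mul ht S.isPGroup' hS (inv_mem hs0S) hs0S
        (fun h' => hs0 (by simpa using inv_mem h')) hs0
      simpa using this
    have hfix : ⁅s0, ⁅s0, a⁆⁆ ∈ zpowers t := by
      have e1 : ⁅s0, ⁅s0, a⁆⁆ = ⁅s0 * s0, a⁆ * (⁅s0, a⁆⁻¹ * ⁅s0, a⁆⁻¹) := by
        simp only [commutatorElement_def]; group
      rw [e1, ← mul_inv_rev, d.A_sq ht h hvA, inv_one, mul_one]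
      exact hS0 a haA _ hs00
    by_cases hs0' : s ∈ d.S0
    · exact hS0 _ hvA s hs0'
    have hq := d.two_group_mul ht S.isPGroup' hS hs0S hs hs0 hs0'
    rw [show s = s0 * (s0⁻¹ * s) by group,
      show ∀ x : G, ⁅s0 * x, ⁅s0, a⁆⁆ = (s0 * ⁅x, ⁅s0, a⁆⁆ * s0⁻¹) * ⁅s0, ⁅s0, a⁆⁆ from
        fun x => by simp only [commutatorElement_def]; group]
    exact mul_mem (conj_mem_zt (hS hs0S) (hS0 _ hvA _ hq)) hfix
  have hvS0 : v ∈ d.S0 := d.A_le ht hvA
  have hv : orderOf v = 2 :=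
    orderOf_eq_two (d.A_sq ht h hvA) (fun e => hvT (e ▸ one_mem _))
  obtain ⟨e, hcS, hcA⟩ := d.exists_conj (h.one t v ht hv)
  set K := d.S0 ⊓ e.S0 with hK
  have hKS : K ≤ d.S0 := inf_le_left
  have htri : ∀ x ∈ K, ∀ y ∈ K, ∀ z ∈ K, ⁅⁅x, y⁆, z⁆ = 1 := fun _ hx _ hy _ hz =>
    two_sets ht hv hvT ((d.fpfS ht).class_two hx.1 hy.1 hz.1)
      ((e.fpfS hv).class_two hx.2 hy.2 hz.2)
  set Q := d.S0 ⊓ CC v with hQ
  have hQS : Q ≤ d.S0 := inf_le_left
  have hTQ : zpowers t ≤ Q := fun a ha =>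
    ⟨d.T_le ha, mem_CC.2 (T_cent ha (d.S0_le hvS0)).symm⟩
  have hQ2 : Nat.card d.S0 ≤ 2 * Nat.card Q :=
    card_le_two_cc fun x hx => mem_zpowers_two ht (hvS x (hS0S hx))
  by_cases hQe : Q ≤ e.S0
  · exact d.half_false ht h hKS htri hA (le_inf d.T_le (hTQ.trans hQe))
      (hQ2.trans (Nat.mul_le_mul_left 2 (card_le_of_le (le_inf hQS hQe))))
  have hQ2' : IsPGroup 2 Q := d.two.to_le hQS
  have hSS : ¬ (S : Subgroup G) ≤ d.S0 := fun hle => by
    have h1 : IsPGroup 2 (e.S0 ⊔ Q : Subgroup G) := e.two.to_sup_of_normal_left' hQ2'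
      (inf_le_right.trans (norm_of_conj fun g hg q hq => e.normS g hg q hq))
    obtain ⟨S', hS'⟩ := h1.exists_le_sylow
    have h2 : Nat.card (e.S0 ⊔ Q : Subgroup G) ≤ Nat.card e.S0 := by
      refine (card_le_of_le hS').trans ?_
      rw [S'.card_eq_multiplicity, ← S.card_eq_multiplicity, hcS]
      exact card_le_of_le hle
    exact hQe (eq_of_le_of_card_ge (le_sup_left : e.S0 ≤ e.S0 ⊔ Q) h2 ▸ le_sup_right)
  have hS2 : Nat.card (S : Subgroup G) = 2 * Nat.card d.S0 := by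
    have h1 := d.card_le_two_mul ht S.isPGroup' hS
    rw [inf_eq_right.2 hS0S] at h1
    exact le_antisymm h1 (two_mul_card_le hS0S fun e' => hSS e'.ge)
  have h16 := d.index_sixteen ht hA
  have hY8 := d.card_Y0 ht hA
  set P := (S : Subgroup G) ⊓ CC v with hP
  have hP2 : IsPGroup 2 P := S.isPGroup'.to_le inf_le_left
  have hSP : Nat.card (S : Subgroup G) ≤ 2 * Nat.card P :=
    card_le_two_cc fun x hx => mem_zpowers_two ht (hvS x hx)
  have hPe := e.card_le_two_mul hv hP2 inf_le_right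
  have htS : t ∈ e.S0 := by
    by_contra hte
    have htv : t ∈ CC v := mem_CC.2 (mem_CC.1 (d.S0_le hvS0)).symm
    have hb := e.outside_bound hv htv ⟨1, by rw [ht, pow_one]⟩ hte (D := e.S0 ⊓ CC t)
      (fun a ha => ⟨e.T_le ha, by
        obtain ⟨i, rfl⟩ := mem_zpowers_iff.1 ha
        exact zpow_mem (d.S0_le hvS0) i⟩)
      inf_le_left (fun r hr => by
        rw [comm_eq_one_iff.2 (mem_CC.1 hr.2).symm]; exact one_mem _)
    have hle : P ⊓ e.S0 ≤ e.S0 ⊓ CC t := fun a ha => ⟨ha.2, hS ha.1.1⟩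
    have h2 := card_le_of_le hle
    rw [hcS] at hb
    nlinarith
  have hTK : zpowers t ≤ K := le_inf d.T_le (zpowers_le.2 htS)
  have hQe' := e.card_le_two_mul hv hQ2' inf_le_right
  have hQeK : Q ⊓ e.S0 ≤ K := fun a ha => ⟨ha.1.1, ha.2⟩
  have hQe'' := hQe'.trans (Nat.mul_le_mul_left 2 (card_le_of_le hQeK))
  have hKQ : K ≤ Q := fun a ha => ⟨ha.1, e.S0_le ha.2⟩
  have hKQ2 := two_mul_card_le hKQ (fun e' => hQe fun a ha => (e' ▸ ha : a ∈ K).2)
  have hQne : Q ≠ d.S0 := fun e' => hvT (d.center_le ht h hvS0 fun q hq =>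
    mem_CC.1 (e' ▸ hq : q ∈ Q).2)
  have hQS2 := two_mul_card_le hQS hQne
  have p : Pair d e :=
    { t2 := ht
      v2 := hv
      vA := hvA
      vT := hvT
      tS := htS
      cardS := hcS
      cardA := hcA
      quarter := by rw [← hK]; omega
      out := by
        by_contra hh
        push Not at hh
        have hle : P ⊓ e.S0 ≤ K := fun a ha => ⟨hh a ha.2 (hS ha.1.1), ha.2⟩
        have := card_le_of_le hle
        have := Nat.card_pos (α := K)
        omega }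
  exact p.contra h

include ht h in
theorem comm_mem_T {x y : G} (hx : x ∈ d.S0) (hy : y ∈ d.S0) : ⁅x, y⁆ ∈ zpowers t :=
  d.derived_le ht h (d.comm_mem_A hx hy)

include ht h in
/-- Squares in `S0` lie in `⟨t⟩`. -/
theorem sq_mem_T {x : G} (hx : x ∈ d.S0) : x * x ∈ zpowers t := by
  refine d.center_le ht h (mul_mem hx hx) fun q hq => ?_
  rw [Commute.symm_iff, ← comm_eq_one_iff, d.sq_comm ht h hx hq, comm_eq_one_iff]
  exact (T_cent (d.comm_mem_T ht h hx hq) (d.S0_le hx)).symm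

end Sol

end Cfsg.Agent.SixCent
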