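import Cfsg.Agent.Lib.SubThree.SDArith

/-!
The arithmetic of the two equations, with an arbitrary odd factor.
-/

set_option autoImplicit false
set_option maxRecDepth 100000

namespace Cfsg.Agent.SixCent.GLArith

open Cfsg.Agent.SubThree

/-- The possible orders. -/
theorem order_of_equations {g K : ℕ} (ho : Odd K) (h16 : 16 ∣ g) (h32 : ¬ 32 ∣ g) {A B : ℤ}
    (hA0 : A ≠ 0) (hA1 : A + 1 ≠ 0) (hB0 : B ≠ 0) (hB1 : B + 1 ≠ 0)
    (h1 : 4608 * (K : ℤ) * (A * (A + 1)) = (g : ℤ) * (A - 2) ^ 2)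
    (h2 : 9216 * (K : ℤ) * (B * (B + 1)) = (g : ℤ) * (B - 3) ^ 2) :
    (A = 26 ∧ B = -13 ∧ g = 5616 * K) ∨ (A = 10 ∧ g = 7920 * K) := by
  have ho0 : (K : ℤ) ≠ 0 := by
    have := ho.pos
    omega
  have hc : (4608 : ℤ) * (K : ℤ) ≠ 0 := mul_ne_zero (by norm_num) ho0
  have hx : A - 2 ≠ 0 := by
    intro h
    rw [h, zero_pow two_ne_zero, mul_zero] at h1
    exact mul_ne_zero hc (mul_ne_zero hA0 hA1) h1
  have hy : B - 3 ≠ 0 := by
    intro h
    rw [h, zero_pow two_ne_zero, mul_zero] at h2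
    exact mul_ne_zero (mul_ne_zero (by norm_num) ho0) (mul_ne_zero hB0 hB1) h2
  have hid : A * (A + 1) * (B - 3) ^ 2 = 2 * (B * (B + 1)) * (A - 2) ^ 2 := by
    refine mul_left_cancel₀ hc ?_
    linear_combination (B - 3) ^ 2 * h1 - (A - 2) ^ 2 * h2
  have hfac : ((A - 2) * (B - 3) + (B - 3) + 2 * (A - 2)) *
      ((A - 2) * (B - 3) - 6 * (B - 3) + 12 * (A - 2)) = 0 := by
    linear_combination -hid
  obtain ⟨m, rfl⟩ := h16
  have hm : Odd (m : ℤ) := by
    rw [Int.odd_coe_nat, Nat.odd_iff]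
    omega
  have ho3 : Odd ((K : ℤ)) := (Int.odd_coe_nat K).2 ho
  have h1' : (m : ℤ) * (A - 2) ^ 2 = (K : ℤ) * (288 * (A * (A + 1))) := by
    push_cast at h1; linarith
  rcases mul_eq_zero.1 hfac with h | h
  · exfalso
    have hd : A - 2 + 1 ∣ 2 := ⟨B - 3 + 2, by linear_combination -h⟩
    have hle := Int.le_of_dvd (by norm_num) hd
    have hge : -(A - 2 + 1) ≤ 2 := Int.le_of_dvd (by norm_num) (neg_dvd.2 hd)
    have hA : A = 3 := by
      obtain rfl | rfl | rfl | rfl | rfl : A = -1 ∨ A = 0 ∨ A = 1 ∨ A = 2 ∨ A = 3 := by omega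
      · exact absurd rfl hA1
      · exact absurd rfl hA0
      · norm_num at hd
      · exact absurd rfl hx
      · rfl
    subst hA
    have := (two_pow_dvd_iff (j := 1) hm ho3 h1').2 ⟨1728, by norm_num⟩
    norm_num at this
  · have hd : A - 8 ∣ 72 := ⟨-(B - 3 + 12), by linear_combination h⟩
    have hle := Int.le_of_dvd (by norm_num) hd
    have hge : -(A - 8) ≤ 72 := Int.le_of_dvd (by norm_num) (neg_dvd.2 hd)
    rcases cand_check (A - 8) (Finset.mem_Icc.2 ⟨by omega, by omega⟩) hd (by omega) (by omega)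
      (by omega) with h' | h' | ⟨j, -, hj⟩
    · right
      have hA : A = 10 := by omega
      subst hA
      refine ⟨rfl, ?_⟩
      zify
      linarith
    · left
      have hA : A = 26 := by omega
      subst hA
      refine ⟨rfl, by linarith, ?_⟩
      zify
      linarith
    · refine absurd (two_pow_dvd_iff (j := j) hm ho3 h1') ?_
      rwa [show A - 8 + 6 = A - 2 by ring, show A - 8 + 8 = A by ring,
        show A - 8 + 9 = A + 1 by ring] at hj

end Cfsg.Agent.SixCent.GLArith
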