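import Cfsg.Agent.Lib.GLTwoThree.Extract

/-!
The decompositions forced by the inner products, with two constituents of known degree.
-/

set_option autoImplicit false

namespace Cfsg.Agent.SixCent.GLExtract

open Cfsg.Agent.GLTwoThree.Extract

variable {ι : Type*} [Fintype ι] [DecidableEq ι] {i₀ : ι} {d : ι → ℕ} {a : Fin 5 → ι → ℤ}

theorem extract (D : Data i₀ d a) :
    ∃ A B : ℤ, A ≠ 0 ∧ A + 1 ≠ 0 ∧ B ≠ 0 ∧ B + 1 ≠ 0 ∧
      (∃ P, a 0 P ≠ 0 ∧ (d P = A.natAbs) ∧ T a P ≠ 0) ∧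
      (∃ W, a 1 W ≠ 0 ∧ (d W = (B + 1).natAbs) ∧ T a W ≠ 0) ∧
      ∑ j, (a 0 j : ℚ) * (T a j : ℚ) ^ 2 / (d j : ℚ) = 1 + 4 / (A : ℚ) - 9 / ((A + 1 : ℤ) : ℚ) ∧
      ∑ j, (a 1 j : ℚ) * (T a j : ℚ) ^ 2 / (d j : ℚ) = 1 + 9 / (B : ℚ) - 16 / ((B + 1 : ℤ) : ℚ) := by
  have g : ∀ k, a k i₀ = _ := D.a_zero
  obtain ⟨P, Q, R, S, s, s', hs, hs', hP0, hQ0, hR0, hS0, hPQ, hPR, hPS, hQR, hQS, hRS,
    ⟨p0, q0, r0⟩, ⟨p3, r3, z3⟩, ⟨r2, z2⟩, hS2⟩ := first D
  obtain ⟨U, W, hUW, hU0, hW0, hU, hW, z1⟩ :=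
    three_support (v := a 1) (i₀ := i₀) (g 1) (D.gram 1 1)
  have hdP := D.d_pos P
  have hdQ := D.d_pos Q
  have hd0 := D.deg 0
  rw [sum_three hP0 hQ0 hPQ (fun j h1 h2 h3 => by rw [r0 j h1 h2 h3, zero_mul]),
    show a 0 i₀ = 1 from g 0, D.d_zero, p0, q0, Nat.cast_one, one_mul] at hd0
  have hd1 := D.deg 1
  rw [sum_three hU0 hW0 hUW (fun j h1 h2 h3 => by rw [z1 j h1 h2 h3, zero_mul]),
    show a 1 i₀ = 1 from g 1, D.d_zero, Nat.cast_one, one_mul] at hd1
  -- the second vector misses the first four constituents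
  have h01 : ∑ j, a 0 j * a 1 j = 1 := D.gram 0 1
  rw [sum_three hP0 hQ0 hPQ (fun j h1 h2 h3 => by rw [r0 j h1 h2 h3, zero_mul]),
    show a 0 i₀ = 1 from g 0, show a 1 i₀ = 1 from g 1, p0, q0, one_mul,
    add_eq_left] at h01
  have hP1 : a 1 P = 0 := by
    by_contra hne
    have hQne : a 1 Q ≠ 0 := by
      intro e
      rw [e, mul_zero, add_zero] at h01
      rcases mul_eq_zero.mp h01 with h | h
      · omega
      · exact hne h
    have hmem : ∀ j, j ≠ i₀ → a 1 j ≠ 0 → j = U ∨ j = W := fun j hj0 hj =>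
      or_iff_not_imp_left.mpr fun h1 => by_contra fun h2 => hj (z1 j hj0 h1 h2)
    rcases hmem P hP0 hne with rfl | rfl <;> rcases hmem Q hQ0 hQne with rfl | rfl
    · exact hPQ rfl
    · rcases hs with rfl | rfl <;> rcases hs' with rfl | rfl <;> rcases hU with e | e <;>
        rcases hW with e' | e' <;> simp only [e, e'] at h01 hd1 hd0 <;> omega
    · rcases hs with rfl | rfl <;> rcases hs' with rfl | rfl <;> rcases hU with e | e <;>
        rcases hW with e' | e' <;> simp only [e, e'] at h01 hd1 hd0 <;> omega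
    · exact hPQ rfl
  have hQ1 : a 1 Q = 0 := by
    rw [hP1, mul_zero, zero_add] at h01
    exact (mul_eq_zero.mp h01).resolve_left (by omega)
  have hR1 : a 1 R = 0 := by
    have h : ∑ j, a 3 j * a 1 j = 0 := D.gram 3 1
    rw [sum_two hPR (fun j h1 h2 => by rw [z3 j h1 h2, zero_mul]), p3, r3, hP1] at h
    simp at h
    omega
  have hS1 : a 1 S = 0 := by
    have h : ∑ j, a 2 j * a 1 j = 0 := D.gram 2 1
    rw [sum_two hRS (fun j h1 h2 => by rw [z2 j h1 h2, zero_mul]), r2, hR1] at h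
    simp at h
    omega
  have ne_of : ∀ {j k : ι}, a 1 j = 0 → (a 1 k = 1 ∨ a 1 k = -1) → k ≠ j := fun h h' e => by
    rw [e, h] at h'; omega
  have hUP := ne_of hP1 hU
  have hUQ := ne_of hQ1 hU
  have hUR := ne_of hR1 hU
  have hUS := ne_of hS1 hU
  have hWP := ne_of hP1 hW
  have hWQ := ne_of hQ1 hW
  have hWR := ne_of hR1 hW
  have hWS := ne_of hS1 hW
  -- the fifth vector
  have hn4 : ∑ j, a 4 j * a 4 j = 3 := D.gram 4 4
  have hb : ∀ j, a 4 j = -1 ∨ a 4 j = 0 ∨ a 4 j = 1 := fun j =>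
    sign_of_sq (by linarith [entry_le (v := a 4) j])
  have h04 : s * a 4 P + s' * a 4 Q = -1 := by
    have h : ∑ j, a 0 j * a 4 j = -1 := D.gram 0 4
    rw [sum_three hP0 hQ0 hPQ (fun j h1 h2 h3 => by rw [r0 j h1 h2 h3, zero_mul]), p0, q0,
      show a 4 i₀ = 0 from g 4] at h
    simpa using h
  have hPR4 : a 4 P = a 4 R := by
    have h : ∑ j, a 3 j * a 4 j = 0 := D.gram 3 4
    rw [sum_two hPR (fun j h1 h2 => by rw [z3 j h1 h2, zero_mul]), p3, r3] at h
    simp at h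
    rcases hs with rfl | rfl <;> omega
  have hRS4 : s * a 4 R + a 2 S * a 4 S = 0 := by
    have h : ∑ j, a 2 j * a 4 j = 0 := D.gram 2 4
    rw [sum_two hRS (fun j h1 h2 => by rw [z2 j h1 h2, zero_mul]), r2] at h
    simpa using h
  have h14 : a 1 U * a 4 U + a 1 W * a 4 W = 1 := by
    have h : ∑ j, a 1 j * a 4 j = 1 := D.gram 1 4
    rw [sum_three hU0 hW0 hUW (fun j h1 h2 h3 => by rw [z1 j h1 h2 h3, zero_mul]),
      show a 4 i₀ = 0 from g 4] at h
    simpa using h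
  have hP4 : a 4 P = 0 := by
    by_contra hne
    have h1 := four_le (v := a 4) hPR hPS hUP.symm hRS hUR.symm hUS.symm
    have h2 := four_le (v := a 4) hPR hPS hWP.symm hRS hWR.symm hWS.symm
    have hS4 : a 4 S ≠ 0 := by
      intro e
      rw [e, mul_zero, add_zero] at hRS4
      rcases mul_eq_zero.mp hRS4 with h | h
      · omega
      · exact hne (hPR4.trans h)
    rw [← hPR4, hn4] at h1 h2
    have e1 : a 4 P * a 4 P = 1 := by rcases hb P with e | e | e <;> simp [e] at hne ⊢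
    have e2 : a 4 S * a 4 S = 1 := by rcases hb S with e | e | e <;> simp [e] at hS4 ⊢
    have e3 : a 4 U = 0 := mul_self_eq_zero.mp (by linarith [mul_self_nonneg (a 4 U)])
    have e4 : a 4 W = 0 := mul_self_eq_zero.mp (by linarith [mul_self_nonneg (a 4 W)])
    rw [e3, e4] at h14
    simp at h14
  have hR4 : a 4 R = 0 := hPR4 ▸ hP4
  have hQ4 : a 4 Q = -s' := by
    rw [hP4, mul_zero, zero_add] at h04
    rcases hs' with rfl | rfl <;> linarith
  wlog hU4 : a 4 U = 0 generalizing U W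
  · refine this W U hUW.symm hW0 hU0 hW hU (fun j h1 h2 h3 => z1 j h1 h3 h2) (by linarith) hWP hWQ
      hWR hWS hUP hUQ hUR hUS (by linarith) ?_
    rcases hb U with e | e | e <;> rcases hb W with e' | e' | e' <;> rcases hU with h | h <;>
      rcases hW with h' | h' <;> (rw [e, e', h, h'] at h14; omega)
  rw [hU4, mul_zero, zero_add] at h14
  have hW4 : a 4 W = a 1 W := by rcases hW with h | h <;> rw [h] at h14 ⊢ <;> linarith
  -- the values at the involution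
  have T0 : T a i₀ = 1 := by
    rw [T, show a 0 i₀ = 1 from g 0, show a 1 i₀ = 1 from g 1, show a 2 i₀ = 0 from g 2,
      show a 3 i₀ = 0 from g 3, show a 4 i₀ = 0 from g 4]
    rfl
  have TP : T a P = 2 * s := by
    simp only [T, p0, hP1, z2 P hPR hPS, p3, hP4]; ring
  have TQ : T a Q = -(3 * s') := by
    simp only [T, q0, hQ1, z2 Q hQR hQS, z3 Q hPQ.symm hQR, hQ4]; ring
  have TU : T a U = 3 * a 1 U := by
    simp only [T, r0 U hU0 hUP hUQ, z2 U hUR hUS, z3 U hUP hUR, hU4]; ring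
  have TW : T a W = 4 * a 1 W := by
    simp only [T, r0 W hW0 hWP hWQ, z2 W hWR hWS, z3 W hWP hWR, hW4]; ring
  have hdU := D.d_pos U
  have hdW := D.d_pos W
  obtain ⟨c1, c2, c3⟩ := conclude (p := (d P : ℤ)) (q := (d Q : ℤ)) (by omega) (by omega) hs hs'
    (by linarith) 4 9
  obtain ⟨c4, c5, c6⟩ := conclude (p := (d U : ℤ)) (q := (d W : ℤ)) (by omega) (by omega) hU hW
    (by linarith) 9 16
  refine ⟨s * (d P : ℤ), a 1 U * (d U : ℤ), c1, c2, c4, c5, ⟨P, ?_, ?_, ?_⟩, ⟨W, ?_, ?_, ?_⟩, ?_, ?_⟩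
  · rw [p0]; omega
  · rcases hs with rfl | rfl <;> simp
  · rw [TP]; omega
  · omega
  · rw [show a 1 U * (d U : ℤ) + 1 = -(a 1 W * (d W : ℤ)) by linarith]
    rcases hW with h | h <;> rw [h] <;> simp
  · rw [TW]; omega
  · rw [sum_three hP0 hQ0 hPQ (fun j h1 h2 h3 => by rw [r0 j h1 h2 h3]; simp), T0, TP, TQ, p0, q0,
      show a 0 i₀ = 1 from g 0, D.d_zero, ← c3]
    rcases hs with rfl | rfl <;> rcases hs' with rfl | rfl <;> push_cast <;> ring
  · rw [sum_three hU0 hW0 hUW (fun j h1 h2 h3 => by rw [z1 j h1 h2 h3]; simp), T0, TU, TW,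
      show a 1 i₀ = 1 from g 1, D.d_zero, ← c6]
    rcases hU with h | h <;> rcases hW with h' | h' <;> rw [h, h'] <;> push_cast <;> ring

end Cfsg.Agent.SixCent.GLExtract
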