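import Cfsg.Agent.Lib.SubThree.SDChar
import Cfsg.Agent.Lib.SixCent.GLExtract

/-!
The order of a simple group with an involution centraliser with quotient `GL(2,3)` modulo a normal odd
subgroup, with the numbers of involutions over the reflections constant.
-/

set_option autoImplicit false
set_option linter.style.haveILetI false
set_option linter.unusedSectionVars false
set_option linter.unusedVariables false
set_option synthInstance.maxSize 4000
set_option maxRecDepth 100000
set_option maxHeartbeats 1000000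

namespace Cfsg.Agent.SixCent.GLCore

open Cfsg Cfsg.Agent.Char Cfsg.Agent.CharX Cfsg.Agent.GLTwoThree Cfsg.Agent.SubThree
open scoped ComplexConjugate

universe u

variable {G : Type u} [Group G] [Finite G] {t : G}
variable (ht : orderOf t = 2) (O : Subgroup (cen t)) [O.Normal] (hO : Odd (Nat.card O))
  (e : (cen t) ⧸ O ≃* Matrix.GeneralLinearGroup (Fin 2) (ZMod 3))

open scoped Classical in
include ht hO in
/-- Pairs of involutions with product in a special coset. -/
theorem count_pairs [Fintype G] [Fintype (cen t)] (hone : ∀ u : G, orderOf u = 2 → IsConj t u) (m : ℕ)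
    (hrefl : ∀ x ∈ U, mul x x = one → x ≠ one → x ≠ negOne →
      Nat.card {c : cen t // im O e c = x ∧ c * c = 1} = m) {v : V} (hv : v ∈ U) (hD : inD v) :
    ∑ h ∈ Finset.univ.filter (fun h : cen t => im O e h = v),
      ((classFinset t).filter fun i => IsConj t (i * (h : G))).card = m ^ 2 * nloc v := by
  have hinv : ∀ v ∈ U, ∀ w ∈ U, inD v → mul v w = one → inD w := by decide +kernel
  have hconj : ∀ {z : G}, IsConj t z → z * z = 1 ∧ z ≠ 1 := by
    intro z hz
    obtain ⟨c, rfl⟩ := isConj_iff.mp hz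
    have hord : orderOf (c * t * c⁻¹) = 2 := by
      rw [show c * t * c⁻¹ = MulAut.conj c t from rfl, MulEquiv.orderOf_eq, ht]
    exact ⟨by rw [← pow_two, ← hord, pow_orderOf_eq_one],
      fun h1 => by rw [h1, orderOf_one] at hord; omega⟩
  have hsq : ∀ c : cen t, (c : G) * c = 1 ↔ c * c = 1 := fun c =>
    ⟨fun h => Subtype.ext h, fun h => congrArg Subtype.val h⟩
  have himne : ∀ c : cen t, c * c = 1 → c ≠ 1 → im O e c ≠ one := by
    intro c h1 h2 h3
    have hd := O.orderOf_dvd_natCard ((im_eq_one O e).1 h3)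
    rw [orderOf_eq_prime (by rw [pow_two, h1]) h2] at hd
    exact (Nat.not_even_iff_odd.2 hO) (even_iff_two_dvd.2 hd)
  -- as pairs in the centraliser
  have hone' : ∀ c : cen t, c * c = 1 → c ≠ 1 → IsConj t (c : G) := fun c h1 h2 =>
    hone _ (orderOf_eq_prime (by rw [pow_two]; exact congrArg Subtype.val h1)
      fun h => h2 (Subtype.ext h))
  have step1 : ∀ h : cen t, im O e h = v →
      ((classFinset t).filter fun i => IsConj t (i * (h : G))).card =
        (Finset.univ.filter fun c : cen t => (c ≠ 1 ∧ c * c = 1) ∧ (c * h ≠ 1 ∧ c * h * (c * h) = 1)).card := by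
    intro h hh
    symm
    refine Finset.card_bij (fun c _ => (c : G)) (fun c hc => ?_)
      (fun a _ b _ hab => Subtype.ext hab) fun i hi => ?_
    · obtain ⟨-, ⟨c1, c2⟩, c3, c4⟩ := Finset.mem_filter.1 hc
      exact Finset.mem_filter.2 ⟨mem_classFinset.2 (hone' c c2 c1), hone' (c * h) c4 c3⟩
    · obtain ⟨hi1, hi2⟩ := Finset.mem_filter.1 hi
      obtain ⟨a1, a2⟩ := hconj (mem_classFinset.1 hi1)
      obtain ⟨b1, b2⟩ := hconj hi2
      have hii : i⁻¹ = i := inv_eq_of_mul_eq_one_right a1
      have h3 : i⁻¹ * (h : G) * i = ((h⁻¹ : cen t) : G) := by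
        rw [hii, Subgroup.coe_inv]
        refine eq_inv_of_mul_eq_one_left ?_
        rw [← b1]; group
      have hiC : i ∈ cen t := mem_cen_of_inD ht O hO e (h := h) (h' := h⁻¹) h3 (hh ▸ hD)
        (hinv _ (im_mem O e h) _ (im_mem O e _) (hh ▸ hD) (by rw [← im_mul, mul_inv_cancel, im_one]))
      exact ⟨⟨i, hiC⟩, Finset.mem_filter.2 ⟨Finset.mem_univ _,
        ⟨fun h1 => a2 (congrArg Subtype.val h1), (hsq _).1 a1⟩,
        fun h1 => b2 (congrArg Subtype.val h1), (hsq (⟨i, hiC⟩ * h)).1 b1⟩, rfl⟩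
  rw [Finset.sum_congr rfl fun h hh => step1 h (Finset.mem_filter.1 hh).2, ← Finset.card_sigma]
  -- as pairs of involutions over pairs of reflections
  have hfib : ∀ x ∈ U.filter (fun x => LocCond v x),
      ((Finset.univ.filter fun c : cen t => im O e c = x ∧ c * c = 1) ×ˢ
        (Finset.univ.filter fun c : cen t => im O e c = mul x v ∧ c * c = 1)).card = m ^ 2 := by
    intro x hx
    obtain ⟨hxU, z1, z2, z3, z4⟩ := Finset.mem_filter.1 hx
    obtain ⟨w1, w2⟩ := loc_check v hv hD x hxU ⟨z1, z2, z3, z4⟩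
    have hxv : mul x v ∈ U := by
      obtain ⟨a, rfl⟩ := im_surj O e hxU
      obtain ⟨b, rfl⟩ := im_surj O e hv
      rw [← im_mul]; exact im_mem O e _
    rw [Finset.card_product, ← Fintype.card_subtype, ← Fintype.card_subtype,
      ← Nat.card_eq_fintype_card, ← Nat.card_eq_fintype_card, hrefl x hxU z2 z1 w1,
      hrefl _ hxv z4 z3 w2, pow_two]
  rw [show nloc v = (U.filter fun x => LocCond v x).card from rfl, mul_comm, ← smul_eq_mul,
    ← Finset.sum_const, ← Finset.sum_congr rfl hfib, ← Finset.card_sigma]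
  refine Finset.card_bij (fun p _ => ⟨im O e p.2, p.2, p.2 * p.1⟩) (fun p hp => ?_) (fun p _ q _ hpq => ?_)
    fun q hq => ?_
  · obtain ⟨hh, hc⟩ := Finset.mem_sigma.1 hp
    obtain ⟨-, ⟨c1, c2⟩, c3, c4⟩ := Finset.mem_filter.1 hc
    have hh' := (Finset.mem_filter.1 hh).2
    refine Finset.mem_sigma.2 ⟨Finset.mem_filter.2 ⟨im_mem O e _, himne _ c2 c1, ?_, ?_, ?_⟩,
      Finset.mem_product.2 ⟨Finset.mem_filter.2 ⟨Finset.mem_univ _, rfl, c2⟩,
        Finset.mem_filter.2 ⟨Finset.mem_univ _, by rw [im_mul, hh'], c4⟩⟩⟩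
    · rw [← im_mul, c2, im_one]
    · rw [← hh', ← im_mul]; exact himne _ c4 c3
    · rw [← hh', ← im_mul, ← im_mul, c4, im_one]
  · obtain ⟨h1, h2⟩ := Prod.mk.inj (eq_of_heq (Sigma.mk.inj hpq).2)
    obtain ⟨ph, pc⟩ := p
    obtain ⟨qh, qc⟩ := q
    simp only at h1 h2
    subst h1
    rw [mul_left_cancel h2]
  · obtain ⟨x, c, c'⟩ := q
    obtain ⟨hx, hcc⟩ := Finset.mem_sigma.1 hq
    obtain ⟨hc, hc'⟩ := Finset.mem_product.1 hcc
    obtain ⟨-, e1, s1⟩ := Finset.mem_filter.1 hc
    obtain ⟨-, e2, s2⟩ := Finset.mem_filter.1 hc'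
    obtain ⟨hxU, z1, z2, z3, z4⟩ := Finset.mem_filter.1 hx
    dsimp only at e1 e2 s1 s2
    have hh : im O e (c * c') = v := by
      obtain ⟨b, hb⟩ := im_surj O e hv
      rw [im_mul, e2, ← e1, ← hb, ← im_mul, ← im_mul, ← mul_assoc, s1, one_mul]
    have e3 : c * (c * c') = c' := by rw [← mul_assoc, s1, one_mul]
    refine ⟨⟨c * c', c⟩, Finset.mem_sigma.2 ⟨Finset.mem_filter.2 ⟨Finset.mem_univ _, hh⟩,
      Finset.mem_filter.2 ⟨Finset.mem_univ _, ⟨fun (h : c = 1) => z1 (show x = one by rw [← e1, h, im_one]), s1⟩, ?_, ?_⟩⟩, ?_⟩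
    · show c * (c * c') ≠ 1
      rw [e3]; exact fun h => z3 (show mul x v = one by rw [← e2, h, im_one])

    · show c * (c * c') * (c * (c * c')) = 1
      rw [e3]; exact s2
    · show (⟨im O e c, c, c * (c * c')⟩ : (_ : V) × cen t × cen t) = ⟨x, c, c'⟩
      rw [e3, e1]

variable [Fintype G]

include ht hO e in
/-- The two equations, with two principal constituents of known degree. -/
theorem order_equations [IsSimpleGroup G] (hone : ∀ u : G, orderOf u = 2 → IsConj t u) (m : ℕ)
    (hrefl : ∀ x ∈ U, mul x x = one → x ≠ one → x ≠ negOne →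
      Nat.card {c : cen t // im O e c = x ∧ c * c = 1} = m) :
    ∃ A B : ℤ, A ≠ 0 ∧ A + 1 ≠ 0 ∧ B ≠ 0 ∧ B + 1 ≠ 0 ∧
      4608 * ((Nat.card O * m ^ 2 : ℕ) : ℤ) * (A * (A + 1)) = (Nat.card G : ℤ) * (A - 2) ^ 2 ∧
      9216 * ((Nat.card O * m ^ 2 : ℕ) : ℤ) * (B * (B + 1)) = (Nat.card G : ℤ) * (B - 3) ^ 2 ∧
      ∀ n : ℕ, n = A.natAbs ∨ n = (B + 1).natAbs →
        ∃ ψ : IrrCharacter G, charDegree (ψ : G → ℂ) = n ∧ ∃ T : ℤ, T ≠ 0 ∧
          (ψ : G → ℂ) t = (T : ℂ) ∧ ∀ c : cen t, im O e c = negOne → (ψ : G → ℂ) c = (T : ℂ) := by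
  classical
  haveI : Fintype (cen t) := Fintype.ofFinite _
  haveI : Fintype (cen t ⧸ O) := Fintype.ofFinite _
  haveI : Fact (Nat.Prime 2) := ⟨Nat.prime_two⟩
  obtain ⟨M, hM⟩ := Cfsg.Agent.GlaubermanMod.exists_isPModular 2
  haveI : M.IsPrime := hM.2.1.isPrime
  set o : ℕ := Nat.card O with ho
  have ho0 : (o : ℂ) ≠ 0 := Nat.cast_ne_zero.2 Nat.card_pos.ne'
  have hC : Nat.card (cen t) = 48 * o := card_eq_mul O e
  have hgen : ∀ k, IsGeneralizedCharacter (cen t) (theta' O e k) := fun k =>
    IsGeneralizedCharacter.comp (theta_gen e k) (QuotientGroup.mk' O)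
  choose a ha using fun (k : Fin 5) (ψ : IrrCharacter G) =>
    IsGeneralizedCharacter.exists_classInner_int
      (IsGeneralizedCharacter.indFun (cen t) (hgen k))
      (IsGeneralizedCharacter.of_isCharacter (IsIrrCharacter.isCharacter ψ.2))
  have hexp : ∀ k, indFun (cen t) (theta' O e k) = ∑ ψ, (a k ψ : ℂ) • (ψ : G → ℂ) := by
    intro k
    conv_lhs => rw [classFunction_eq_sum (isClassFunction_indFun (cen t) _)]
    exact Finset.sum_congr rfl fun ψ _ => by rw [ha]
  have hres : ∀ k (ψ : IrrCharacter G),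
      classInner (theta' O e k) (fun h : cen t => (ψ : G → ℂ) h) = a k ψ := by
    intro k ψ
    rw [← classInner_indFun_left (cen t) _ (IsCharacter.isClassFunction (IsIrrCharacter.isCharacter ψ.2)),
      ha]
  have hna : ¬ ∀ x y : G, x * y = y * x := by
    intro h
    have hc : ∀ v ∈ U, ∀ w' ∈ U, mul v w' = mul w' v := fun v hv w' hw' => by
      obtain ⟨x, rfl⟩ := im_surj O e hv
      obtain ⟨y, rfl⟩ := im_surj O e hw'
      rw [← im_mul, ← im_mul, show x * y = y * x from Subtype.ext (h x y)]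
    exact absurd (hc (0, 2, 1, 0) (by decide +kernel) (1, 1, 0, 1) (by decide +kernel))
      (by decide +kernel)
  have hone' : ∀ k, classInner (theta' O e k) (fun _ : cen t => (1 : ℂ)) =
      (![1, 1, 0, 0, 0] k : ℤ) := fun k => by
    rw [← inner_theta_one e k, ← theta'_inner ht O hO e (theta e k) fun _ => 1]
    rfl
  have D : Extract.Data (principal G) (fun ψ : IrrCharacter G => charDegree (ψ : G → ℂ)) a := by
    refine ⟨charDegree_one, irr_deg_pos, fun ψ hψ => ?_, fun k => ?_, fun k => ?_, fun k l => ?_⟩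
    · obtain ⟨f, hf⟩ := exists_hom_of_degree_one (IsIrrCharacter.isCharacter ψ.2)
        (by rw [irr_deg, hψ, Nat.cast_one])
      rcases IsSimpleGroup.eq_bot_or_eq_top_of_normal f.ker inferInstance with hb | hb
      · exfalso
        refine hna fun x y => (MonoidHom.ker_eq_bot_iff f).mp hb ?_
        rw [map_mul, map_mul, mul_comm]
      · refine Subtype.ext (funext fun g => ?_)
        rw [hf]
        change ((f g : ℂˣ) : ℂ) = 1
        rw [MonoidHom.mem_ker.mp (hb ▸ Subgroup.mem_top g), Units.val_one]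
    · have h := hres k (principal G)
      rw [show (fun h : cen t => (principal G : G → ℂ) h) = fun _ => 1 from rfl, hone' k] at h
      exact_mod_cast h.symm
    · have h := congrFun (hexp k) 1
      rw [indFun_one_apply, Finset.sum_apply] at h
      simp only [Pi.smul_apply, smul_eq_mul, irr_deg] at h
      have h0 : theta' O e k 1 = 0 := theta'_off O e k 1 (by rw [im_one]; decide +kernel)
      rw [h0, mul_zero] at h
      exact_mod_cast h.symm
    · have h := inner_ind' ht O hO e k l
      rw [hexp k, hexp l, classInner_combination₂] at h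
      simp only [map_intCast] at h
      have hg : ∀ k l, (gram k l : ℤ) = 48 * ![![3, 1, 0, 1, -1], ![1, 3, 0, 0, 1], ![0, 0, 2, -1, 0],
          ![1, 0, -1, 2, 0], ![-1, 1, 0, 0, 3]] k l := by decide
      rw [hg k l, Int.cast_mul] at h
      refine (Int.cast_injective (α := ℂ)) ?_
      push_cast
      rw [h]
      push_cast
      ring
  obtain ⟨A, B, hA0, hA1, hB0, hB1, wP, wW, sA, sB⟩ := GLExtract.extract D
  -- the values at the involution
  have hT : ∀ (k : Fin 5) (ψ : IrrCharacter G), a k ψ ≠ 0 →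
      conj ((ψ : G → ℂ) t) = (Extract.T a ψ : ℂ) := by
    intro k ψ hne
    have hB' : ψ ∈ principalBlock M G := mem_block ht O hO e hM k
      (by rw [hres]; exact_mod_cast hne)
    have h1 : ∑ k, (comb k : ℂ) * classInner (theta' O e k) (fun h : cen t => (ψ : G → ℂ) h) =
        conj ((ψ : G → ℂ) t) := by
      have hcard : (Finset.univ.filter fun h : cen t => im O e h = negOne).card = o := by
        rw [← Fintype.card_subtype, ← Nat.card_eq_fintype_card, card_im O e fun v => v = negOne,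
          show (U.filter fun v => v = negOne).card = 1 by decide +kernel, mul_one]
      simp only [Cfsg.classInner, Finset.mul_sum]
      rw [Finset.sum_comm]
      calc ∑ h : cen t, ∑ k, (comb k : ℂ) * ((Nat.card (cen t) : ℂ)⁻¹ *
            (theta' O e k h * conj ((ψ : G → ℂ) h)))
          = ∑ h : cen t, if im O e h = negOne then
              (Nat.card (cen t) : ℂ)⁻¹ * 48 * conj ((ψ : G → ℂ) t) else 0 := by
            refine Finset.sum_congr rfl fun h _ => ?_
            have hcb := comb_theta e (QuotientGroup.mk' O h)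
            change ∑ k, (comb k : ℂ) * theta' O e k h = if im O e h = negOne then 48 else 0 at hcb
            calc _ = (Nat.card (cen t) : ℂ)⁻¹ * (∑ k, (comb k : ℂ) * theta' O e k h) *
                    conj ((ψ : G → ℂ) h) := by
                  rw [Finset.mul_sum, Finset.sum_mul]
                  exact Finset.sum_congr rfl fun k _ => by ring
              _ = _ := by
                rw [hcb]
                split_ifs with hh
                · rw [value_coset ht O hO e hM hB' hh]
                · ring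
        _ = conj ((ψ : G → ℂ) t) := by
            rw [← Finset.sum_filter, Finset.sum_const, hcard, nsmul_eq_mul, hC]
            push_cast
            field_simp
    simp only [hres, comb, Fin.sum_univ_five] at h1
    rw [← h1, Extract.T]
    simp
  -- the structure constants
  set idx' : ℂ := ((cen t).index : ℂ) with hidx
  set N : G → ℂ := fun x => (((classFinset t).filter fun i => IsConj t (i * x)).card : ℂ) with hN
  have hdelta : ∀ y : G, ∑ ψ : IrrCharacter G, conj ((ψ : G → ℂ) t) * (ψ : G → ℂ) y =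
      if IsConj t y then (Nat.card (cen t) : ℂ) else 0 := by
    intro y
    rw [Finset.sum_congr rfl fun ψ _ => mul_comm _ _]
    split_ifs with h
    · exact column_orth_of_isConj h.symm |>.trans (by
        obtain ⟨g, rfl⟩ := isConj_iff.1 h
        exact congrArg Nat.cast (Cfsg.Agent.Blocks.card_centralizer_conj t g))
    · exact column_orth_of_not_isConj fun h' => h h'.symm
  have hNsum : ∀ x, (Nat.card (cen t) : ℂ) * N x = idx' *
      ∑ ψ : IrrCharacter G, (ψ : G → ℂ) t * conj ((ψ : G → ℂ) t) * (ψ : G → ℂ) x / (ψ : G → ℂ) 1 := by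
    intro x
    have h1 : (Nat.card (cen t) : ℂ) * N x = ∑ i ∈ classFinset t,
        ∑ ψ : IrrCharacter G, conj ((ψ : G → ℂ) t) * (ψ : G → ℂ) (i * x) := by
      simp only [hN, Finset.natCast_card_filter, Finset.mul_sum]
      refine Finset.sum_congr rfl fun i _ => ?_
      rw [hdelta]
      split_ifs <;> simp
    rw [h1, Finset.sum_comm, Finset.mul_sum]
    refine Finset.sum_congr rfl fun ψ _ => ?_
    rw [← Finset.mul_sum]
    obtain ⟨n, ρ, hρ, hχ⟩ := id ψ.2
    haveI := hρ
    have h2 : ∑ i ∈ classFinset t, (ψ : G → ℂ) (i * x) =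
        idx' * (ψ : G → ℂ) t / (ψ : G → ℂ) 1 * (ψ : G → ℂ) x := by
      rw [← hχ]
      simp only [Representation.character, map_mul]
      rw [← map_sum, ← Finset.sum_mul, classSum_scalar, smul_mul_assoc, Module.End.mul_eq_comp,
        LinearMap.id_comp, map_smul, smul_eq_mul, map_one, LinearMap.trace_one]
      rfl
    rw [h2]
    ring
  have hsum : ∀ v ∈ U, inD v →
      ∑ h ∈ Finset.univ.filter (fun h : cen t => im O e h = v), N h =
        (m : ℂ) ^ 2 * (nloc v : ℂ) := by
    intro v hv hD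
    have hcount := count_pairs ht O hO e hone m hrefl hv hD
    simp only [hN]
    rw [← Nat.cast_sum, ← Nat.cast_pow, ← Nat.cast_mul]
    exact congrArg Nat.cast hcount
  have hstar : ∀ (k : Fin 5) (S : ℚ),
      ∑ ψ, (a k ψ : ℚ) * (Extract.T a ψ : ℚ) ^ 2 / (charDegree ((ψ : IrrCharacter G) : G → ℂ) : ℚ) = S →
      (m : ℂ) ^ 2 * ∑ x : cen t ⧸ O, theta e k x * (nloc (co' e x) : ℂ) = idx' * (S : ℂ) := by
    intro k S hS
    have hlhs : (m : ℂ) ^ 2 * ∑ x : cen t ⧸ O, theta e k x * (nloc (co' e x) : ℂ) =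
        ∑ h : cen t, theta' O e k h * N h := by
      rw [Finset.mul_sum, ← Finset.sum_fiberwise_of_maps_to (t := Finset.univ)
        (g := QuotientGroup.mk' O) (fun h _ => Finset.mem_univ _)]
      refine Finset.sum_congr rfl fun x _ => ?_
      rw [Finset.sum_congr rfl (g := fun h : cen t => theta e k x * N h) fun h hh => by
        rw [theta', (Finset.mem_filter.1 hh).2], ← Finset.mul_sum]
      by_cases hD : inD (co' e x)
      · rw [show (Finset.univ.filter fun h : cen t => QuotientGroup.mk' O h = x) =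
            Finset.univ.filter (fun h : cen t => im O e h = co' e x) from
          Finset.filter_congr fun h _ => ⟨fun hh => congrArg (co' e) hh, fun hh => co'_injective e hh⟩,
          hsum _ (co'_mem e x) hD]
        ring
      · rw [show theta e k x = 0 from ?_]
        · ring
        · obtain ⟨h, rfl⟩ := QuotientGroup.mk'_surjective O x
          exact theta'_off O e k h hD
    have hN' : ∀ h : cen t, (Nat.card (cen t) : ℂ) * N h = idx' * ∑ ψ : IrrCharacter G,
        (ψ : G → ℂ) t * conj ((ψ : G → ℂ) t) * conj ((ψ : G → ℂ) h) / (ψ : G → ℂ) 1 := by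
      intro h
      have h1 := congrArg conj (hNsum h)
      simp only [hN, map_mul, map_natCast, map_sum, map_div₀, hidx, irr_deg, Complex.conj_conj] at h1 ⊢
      rw [h1]
      refine congrArg _ (Finset.sum_congr rfl fun ψ _ => ?_)
      ring
    rw [hlhs]
    have hC0 : (Nat.card (cen t) : ℂ) ≠ 0 := Nat.cast_ne_zero.2 Nat.card_pos.ne'
    refine mul_left_cancel₀ hC0 ?_
    calc (Nat.card (cen t) : ℂ) * ∑ h : cen t, theta' O e k h * N h
        = ∑ h : cen t, theta' O e k h * ((Nat.card (cen t) : ℂ) * N h) := by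
          rw [Finset.mul_sum]
          exact Finset.sum_congr rfl fun h _ => by ring
      _ = idx' * ∑ ψ : IrrCharacter G, (ψ : G → ℂ) t * conj ((ψ : G → ℂ) t) / (ψ : G → ℂ) 1 *
            ((Nat.card (cen t) : ℂ) *
              classInner (theta' O e k) (fun h : cen t => (ψ : G → ℂ) h)) := by
          simp only [hN', Cfsg.classInner, Finset.mul_sum]
          rw [Finset.sum_comm]
          refine Finset.sum_congr rfl fun ψ _ => Finset.sum_congr rfl fun h _ => ?_
          field_simp
      _ = (Nat.card (cen t) : ℂ) * (idx' * (S : ℂ)) := by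
          rw [← hS]
          simp only [hres, irr_deg, Rat.cast_sum, Finset.mul_sum]
          refine Finset.sum_congr rfl fun ψ _ => ?_
          by_cases hne : a k ψ = 0
          · simp [hne]
          · have h1 := hT k ψ hne
            have h2 : (ψ : G → ℂ) t = (Extract.T a ψ : ℂ) := by
              rw [← Complex.conj_conj ((ψ : G → ℂ) t), h1, map_intCast]
            rw [h2, map_intCast]
            push_cast
            ring
  obtain ⟨n0, n1⟩ := sum_nloc e
  set I := (cen t).index with hIdef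
  have e0 : (I : ℚ) * (1 + 4 / (A : ℚ) - 9 / ((A + 1 : ℤ) : ℚ)) = 96 * (m : ℚ) ^ 2 := by
    have h := hstar 0 _ sA
    rw [n0] at h
    refine (Rat.cast_injective (α := ℂ)) ?_
    push_cast at h ⊢
    rw [← h]
    ring
  have e1 : (I : ℚ) * (1 + 9 / (B : ℚ) - 16 / ((B + 1 : ℤ) : ℚ)) = 192 * (m : ℚ) ^ 2 := by
    have h := hstar 1 _ sB
    rw [n1] at h
    refine (Rat.cast_injective (α := ℂ)) ?_
    push_cast at h ⊢
    rw [← h]
    ring
  have hI : Nat.card G = 48 * o * I := by rw [← hC, Subgroup.card_mul_index]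
  have qA : (A : ℚ) ≠ 0 := Int.cast_ne_zero.mpr hA0
  have qA1 : (A : ℚ) + 1 ≠ 0 := by exact_mod_cast hA1
  have qB : (B : ℚ) ≠ 0 := Int.cast_ne_zero.mpr hB0
  have qB1 : (B : ℚ) + 1 ≠ 0 := by exact_mod_cast hB1
  push_cast at e0 e1
  field_simp at e0 e1
  refine ⟨A, B, hA0, hA1, hB0, hB1, ?_, ?_, ?_⟩
  · rw [hI]
    have : (4608 : ℚ) * ((o : ℚ) * (m : ℚ) ^ 2) * ((A : ℚ) * ((A : ℚ) + 1)) =
        ((48 * o * I : ℕ) : ℚ) * ((A : ℚ) - 2) ^ 2 := by
      push_cast
      linear_combination (-48 * (o : ℚ)) * e0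
    exact_mod_cast this
  · rw [hI]
    have : (9216 : ℚ) * ((o : ℚ) * (m : ℚ) ^ 2) * ((B : ℚ) * ((B : ℚ) + 1)) =
        ((48 * o * I : ℕ) : ℚ) * ((B : ℚ) - 3) ^ 2 := by
      push_cast
      linear_combination (-48 * (o : ℚ)) * e1
    exact_mod_cast this
  · have key : ∀ (k : Fin 5) (ψ : IrrCharacter G), a k ψ ≠ 0 → Extract.T a ψ ≠ 0 →
        ∃ T : ℤ, T ≠ 0 ∧ (ψ : G → ℂ) t = (T : ℂ) ∧
          ∀ c : cen t, im O e c = negOne → (ψ : G → ℂ) c = (T : ℂ) := by
      intro k ψ hne hT0
      have h2 : (ψ : G → ℂ) t = (Extract.T a ψ : ℂ) := by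
        rw [← Complex.conj_conj ((ψ : G → ℂ) t), hT k ψ hne, map_intCast]
      exact ⟨_, hT0, h2, fun c hc => (value_coset ht O hO e hM
        (mem_block ht O hO e hM k (by rw [hres]; exact_mod_cast hne)) hc).trans h2⟩
    rintro n (rfl | rfl)
    · obtain ⟨ψ, hne, hd, hT0⟩ := wP
      exact ⟨ψ, hd, key 0 ψ hne hT0⟩
    · obtain ⟨ψ, hne, hd, hT0⟩ := wW
      exact ⟨ψ, hd, key 1 ψ hne hT0⟩
end Cfsg.Agent.SixCent.GLCore
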