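import Cfsg.Agent.Lib.SixCent.EightRel
import Cfsg.Agent.Lib.SixCent.GLEquations
import Cfsg.Agent.Lib.SixCent.GLArith
import Cfsg.Agent.Lib.SixCent.DegreeBound
import Cfsg.Agent.Lib.SubThree.SDBasic
import Cfsg.Agent.Lib.GLTwoThree.Recog
import Cfsg.Agent.Lib.M11Uniq.Std
import Cfsg.Agent.Lib.Golay.Mathieu
import Cfsg.Agent.Lib.Char.Integral

/-!
A 2-radical of order 8 gives `L₃(3)` or `M₁₁`.
-/

set_option autoImplicit false
set_option linter.style.haveILetI false
set_option linter.unusedSectionVars false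
set_option synthInstance.maxSize 4000
set_option maxRecDepth 100000

open Subgroup
open Cfsg.Agent.GLTwoThree Cfsg.Agent.SubThree

namespace Cfsg.Agent.SixCent

universe v

variable {G : Type v} [Group G] [Finite G]

/-- The lifts of a reflection that are involutions: constant and odd in number. -/
theorem refl_count {C : Type v} [Group C] [Finite C] (O : Subgroup C) [O.Normal]
    (hO : Odd (Nat.card O)) (e : C ⧸ O ≃* Matrix.GeneralLinearGroup (Fin 2) (ZMod 3)) {w : C}
    (hw : w * w = 1) (h1 : im O e w ≠ one) (h2 : im O e w ≠ negOne) :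
    ∃ m : ℕ, Odd m ∧ ∀ x ∈ U, mul x x = one → x ≠ one → x ≠ negOne →
      Nat.card {c : C // im O e c = x ∧ c * c = 1} = m := by
  classical
  haveI : Fintype C := Fintype.ofFinite C
  set x₀ := im O e w with hx₀
  have hx₀sq : mul x₀ x₀ = one := by rw [hx₀, ← im_mul, hw, im_one]
  refine ⟨Nat.card {c : C // im O e c = x₀ ∧ c * c = 1}, ?_, fun x hx hxx hx1 hx2 => ?_⟩
  · -- conjugation by `w` fixes `w` only
    set α := {c : C // im O e c = x₀ ∧ c * c = 1}
    let f : Function.End α := fun c : α => (⟨w * c.1 * w⁻¹, by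
      refine ⟨?_, ?_⟩
      · rw [im_mul, im_mul, c.2.1, hx₀, ← im_mul, ← im_mul]
        congr 1
        group
      · rw [show w * c.1 * w⁻¹ * (w * c.1 * w⁻¹) = w * (c.1 * c.1) * w⁻¹ by group, c.2.2]
        group⟩ : α)
    have hww : w⁻¹ = w := inv_eq_of_mul_eq_one_right hw
    have hf : f ^ 2 ^ 1 = 1 := by
      rw [pow_one, pow_two]
      refine funext fun c => Subtype.ext ?_
      show w * (w * c.1 * w⁻¹) * w⁻¹ = c.1
      rw [hww, show w * (w * c.1 * w) * w = (w * w) * c.1 * (w * w) by group, hw, one_mul, mul_one]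
    haveI : Fact (Nat.Prime 2) := ⟨Nat.prime_two⟩
    have h := Equiv.Perm.card_fixedPoints_modEq hf
    have huniq : Fintype.card (Function.fixedPoints f) = 1 := by
      rw [Fintype.card_eq_one_iff]
      refine ⟨⟨⟨w, rfl, hw⟩, Subtype.ext (by show w * w * w⁻¹ = w; group)⟩, fun c => ?_⟩
      refine Subtype.ext (Subtype.ext ?_)
      obtain ⟨⟨c, hc1, hc2⟩, hfix⟩ := c
      have hcw : w * c = c * w := mul_inv_eq_iff_eq_mul.1 (congrArg Subtype.val hfix)
      have hmem : w⁻¹ * c ∈ O := (im_eq_iff O e).1 hc1.symm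
      have hsq : (w⁻¹ * c) * (w⁻¹ * c) = 1 := by
        rw [hww, show w * c * (w * c) = w * (c * w) * c by group, ← hcw,
          show w * (w * c) * c = (w * w) * (c * c) by group, hw, hc2, mul_one]
      by_contra hne
      have ho : orderOf (w⁻¹ * c) = 2 := orderOf_eq_prime (by rw [pow_two, hsq]) fun h =>
        hne (inv_mul_eq_one.1 h).symm
      exact (Nat.not_even_iff_odd.2 hO) (even_iff_two_dvd.2 (ho ▸ O.orderOf_dvd_natCard hmem))
    rw [Nat.card_eq_fintype_card, Nat.odd_iff]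
    rw [Nat.ModEq] at h
    convert h.trans ?_ using 2
    convert congrArg (· % 2) huniq
  · obtain ⟨g₀, hg₀, hg⟩ := refl_conj_check _ (im_mem O e w) _ hx hx₀sq h1 h2 hxx hx1 hx2
    obtain ⟨g, rfl⟩ := im_surj O e hg₀
    have hgx : ∀ c : C, im O e c = x₀ → im O e (g * c * g⁻¹) = x := by
      intro c hc
      obtain ⟨c', hc'⟩ := im_surj O e hx
      rw [im_mul, im_mul, hc, hg, ← hc', ← im_mul, ← im_mul, mul_inv_cancel_right]
    have hgx' : ∀ c : C, im O e c = x → im O e (g⁻¹ * c * g) = x₀ := by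
      intro c hc
      have e1 : im O e (c * g) = im O e (g * w) := by rw [im_mul, im_mul, hc, ← hg]
      rw [mul_assoc, im_mul, e1, ← im_mul, inv_mul_cancel_left]
    refine Nat.card_congr
      { toFun := fun c => ⟨g⁻¹ * c.1 * g, hgx' _ c.2.1, by
          rw [show g⁻¹ * c.1 * g * (g⁻¹ * c.1 * g) = g⁻¹ * (c.1 * c.1) * g by group, c.2.2]
          group⟩
        invFun := fun c => ⟨g * c.1 * g⁻¹, hgx _ c.2.1, by
          rw [show g * c.1 * g⁻¹ * (g * c.1 * g⁻¹) = g * (c.1 * c.1) * g⁻¹ by group, c.2.2]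
          group⟩
        left_inv := fun c => Subtype.ext (by group)
        right_inv := fun c => Subtype.ext (by group) }

namespace Sol

variable {t : G} (d : Sol t) (ht : orderOf t = 2) (h : Hyp G) [IsSimpleGroup G]
  (h8 : Nat.card d.S0 = 8)

include d ht h h8 in
/-- The case of a 2-radical of order 8. -/
theorem eight_case :
    (∃ (F : Type) (_ : Field F) (_ : Fintype F), Fintype.card F = 3 ∧
      Nonempty (G ≃* Matrix.ProjectiveSpecialLinearGroup (Fin 3) F)) ∨ Cfsg.Spor.IsoM11 G := by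
  classical
  haveI : Fintype G := Fintype.ofFinite G
  obtain ⟨i, j, w, hi, hj, hw, R, hii, hord, hgen⟩ := d.exists_rel ht h h8
  have hone : ∀ x : G, orderOf x = 2 → IsConj t x := fun x hx => h.one t x ht hx
  have htC : t ∈ CC t := mem_CC.2 (Commute.refl t)
  set O' : Subgroup (cen t) := d.O.subgroupOf (cen t) with hO'
  haveI : O'.Normal := ⟨fun n hn g => by
    rw [hO', mem_subgroupOf] at hn ⊢
    exact d.normO g g.2 n hn⟩
  have hcardO : Nat.card O' = Nat.card d.O :=
    Nat.card_congr (subgroupOfEquivOfLe d.O_le).toEquiv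
  have hodd : Odd (Nat.card O') := by
    rw [hcardO, ← Nat.not_even_iff_odd, even_iff_two_dvd]
    exact d.odd
  let π := QuotientGroup.mk' O'
  let iC : cen t := ⟨i, d.S0_le hi⟩
  let jC : cen t := ⟨j, d.S0_le hj⟩
  let uC : cen t := ⟨d.u, d.u_mem⟩
  let wC : cen t := ⟨w, hw⟩
  have Rq : GLRel.Rel (π iC) (π jC) (π uC) (π wC) := by
    refine ⟨?_, ?_, ?_, ?_, ?_, ?_, ?_, ?_, ?_, ?_⟩ <;> simp only [← map_mul, ← map_inv, ← map_pow]
    · rw [show iC ^ 4 = 1 from Subtype.ext R.i4, map_one]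
    · exact congrArg π (Subtype.ext R.jj)
    · exact congrArg π (Subtype.ext R.ji)
    · rw [show uC ^ 3 = 1 from Subtype.ext R.s3, map_one]
    · exact congrArg π (Subtype.ext R.si)
    · exact congrArg π (Subtype.ext R.sj)
    · rw [show wC * wC = 1 from Subtype.ext R.ww, map_one]
    · exact congrArg π (Subtype.ext R.ws)
    · exact congrArg π (Subtype.ext R.wi)
    · exact congrArg π (Subtype.ext R.wj)
  have hiq : π iC * π iC ≠ 1 := by
    intro e1
    have e2 : t ∈ d.O := hii ▸ mem_subgroupOf.1 ((QuotientGroup.eq_one_iff (iC * iC)).1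
      ((map_mul π iC iC).trans e1))
    exact ne_one_of_invol ht (d.eq_one_of_both ht e2 d.t_mem)
  have htop : zpowers (π iC) ⊔ zpowers (π jC) ⊔ zpowers (π uC) ⊔ zpowers (π wC) = ⊤ := by
    set H := zpowers (π iC) ⊔ zpowers (π jC) ⊔ zpowers (π uC) ⊔ zpowers (π wC) with hH
    have hle : zpowers i ⊔ zpowers j ⊔ zpowers d.u ⊔ zpowers w ⊔ d.O ≤
        (H.comap π).map (cen t).subtype := by
      refine sup_le (sup_le (sup_le (sup_le ?_ ?_) ?_) ?_) fun o ho => ?_
      · exact zpowers_le.2 ⟨iC, mem_sup_left (mem_sup_left (mem_sup_left (mem_zpowers _))), rfl⟩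
      · exact zpowers_le.2 ⟨jC, mem_sup_left (mem_sup_left (mem_sup_right (mem_zpowers _))), rfl⟩
      · exact zpowers_le.2 ⟨uC, mem_sup_left (mem_sup_right (mem_zpowers _)), rfl⟩
      · exact zpowers_le.2 ⟨wC, mem_sup_right (mem_zpowers _), rfl⟩
      · exact ⟨⟨o, d.O_le ho⟩, mem_comap.2 (by
          rw [show π ⟨o, d.O_le ho⟩ = 1 from (QuotientGroup.eq_one_iff _).2 (mem_subgroupOf.2 ho)]
          exact one_mem _), rfl⟩
    refine eq_top_iff.2 fun x _ => ?_
    obtain ⟨c, rfl⟩ := QuotientGroup.mk'_surjective O' x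
    obtain ⟨c', hc', e1⟩ := hle (hgen c.2)
    rwa [show c' = c from Subtype.ext e1] at hc'
  obtain ⟨e⟩ := GLRel.nonempty_iso Rq hiq htop
  -- the reflections
  have hw1 : w ≠ 1 := fun e1 => by
    have h3 := R.ws
    rw [e1, one_mul, inv_one, mul_one] at h3
    have h4 : orderOf d.u ∣ 2 :=
      orderOf_dvd_of_pow_eq_one (by rw [pow_two]; exact mul_eq_one_iff_eq_inv.2 h3)
    rw [d.u_ord] at h4
    norm_num at h4
  have hwo : orderOf w = 2 := orderOf_eq_two R.ww hw1
  have him1 : im O' e wC ≠ one := by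
    rw [Ne, im_eq_one]
    intro hm
    exact hw1 (d.eq_one_of_mem_O (mem_subgroupOf.1 hm) ⟨1, hwo⟩)
  have him2 : im O' e wC ≠ negOne := fun hm => by
    have e1 := eq_t_of_im ht O' hodd e (z := wC) ⟨1, by rw [← orderOf_coe]; exact hwo⟩ hm
    have e2 : w = t := congrArg Subtype.val e1
    have h3 := R.ws
    rw [e2, ← (mem_CC.1 d.u_mem).eq, mul_inv_cancel_right] at h3
    have h4 : orderOf d.u ∣ 2 :=
      orderOf_dvd_of_pow_eq_one (by rw [pow_two]; exact mul_eq_one_iff_eq_inv.2 h3)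
    rw [d.u_ord] at h4
    norm_num at h4
  obtain ⟨m, hm, hrefl⟩ := refl_count O' hodd e (w := wC) (Subtype.ext R.ww) him1 him2
  -- the order
  have hcen : Nat.card (cen t) = 48 * Nat.card O' := SubThree.card_eq_mul O' e
  have h16 : 16 ∣ Nat.card G := by
    refine Dvd.dvd.trans ?_ (card_subgroup_dvd_card (cen t))
    rw [hcen]
    exact dvd_mul_of_dvd_left (by norm_num) _
  have h32 : ¬ 32 ∣ Nat.card G := by
    intro h32
    haveI : Fact (Nat.Prime 2) := ⟨Nat.prime_two⟩
    obtain ⟨S, hS⟩ := exists_sylow_cc h ht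
    have h1 : 2 ^ 5 ∣ Nat.card (S : Subgroup G) := S.pow_dvd_card_of_pow_dvd_card h32
    have h2 := h1.trans (card_dvd_of_le hS)
    rw [show Nat.card (CC t) = 48 * Nat.card O' from hcen] at h2
    obtain ⟨k, hk⟩ := hodd
    rw [hk] at h2
    omega
  obtain ⟨A, B, hA0, hA1, hB0, hB1, q1, q2, hwit⟩ :=
    SixCent.GLCore.order_equations ht O' hodd e hone m hrefl
  have hK : Odd (Nat.card O' * m ^ 2) := hodd.mul hm.pow
  have hAB := GLArith.order_of_equations hK h16 h32 hA0 hA1 hB0 hB1 q1 q2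
  -- the core is trivial
  have hO : d.O = ⊥ := by
    by_contra hne
    haveI : Nontrivial d.O := (nontrivial_iff_ne_bot d.O).2 hne
    haveI : Group.IsNilpotent d.O := (d.fpfO ht).nilpotent
    haveI : Nontrivial (center d.O) := FixedPointFreeThompson.center_nontrivial_of_nilpotent
    set E : Subgroup G := (center d.O).map d.O.subtype with hE
    have hEO : E ≤ d.O := map_subtype_le _
    have hEne : E ≠ ⊥ := fun hb => by
      rw [hE, map_eq_bot_iff_of_injective _ d.O.subtype_injective] at hb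
      exact (nontrivial_iff_ne_bot _).1 inferInstance hb
    have hmemE : ∀ {a : G}, a ∈ E ↔ a ∈ d.O ∧ ∀ b ∈ d.O, Commute b a := by
      intro a
      constructor
      · rintro ⟨z, hz, rfl⟩
        exact ⟨z.2, fun b hb => congrArg Subtype.val (mem_center_iff.1 hz ⟨b, hb⟩)⟩
      · rintro ⟨ha, hc⟩
        exact ⟨⟨a, ha⟩, mem_center_iff.2 fun b => Subtype.ext (hc b b.2), rfl⟩
    have hbnd : ∀ n : ℕ, n = A.natAbs ∨ n = (B + 1).natAbs → n ≠ 1 → 13 ≤ n := by
      intro n hn hn1
      obtain ⟨ψ, hdeg, T, hT0, -, hval⟩ := hwit n hn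
      have hχ := Cfsg.Agent.Char.IsIrrCharacter.isCharacter ψ.2
      have hb := degree_bound (t := t) (w := i) (j := j) (g := d.u) (E := E)
        (fun a ha b hb => ((hmemE.1 ha).2 b (hEO hb)).symm) hii hord
        (fun a ha => d.comm i hi a (hEO ha)) (fun a ha => d.comm j hj a (hEO ha)) R.ji
        (fun a ha => ?_) d.u_cube ?_ ψ ?_ hEne T ?_
      · rw [hdeg] at hb
        have := Int.natAbs_pos.2 hT0
        omega
      · obtain ⟨ha1, ha2⟩ := hmemE.1 ha
        refine hmemE.2 ⟨d.normO _ d.u_mem a ha1, fun b hb => ?_⟩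
        have hb' : d.u⁻¹ * b * d.u ∈ d.O := by
          have := d.normO _ (inv_mem d.u_mem) b hb
          rwa [inv_inv] at this
        have := (ha2 _ hb').map (MulAut.conj d.u).toMonoidHom
        simpa [mul_assoc] using this
      · exact fun a ha hfix => (d.fpfO ht).fixed a (hEO ha) (mul_inv_eq_iff_eq_mul.1 hfix)
      · obtain ⟨N, hNn, hN, -⟩ := Cfsg.Agent.Char.IsCharacter.exists_kernel hχ
        intro a _ ha
        rcases IsSimpleGroup.eq_bot_or_eq_top_of_normal N hNn with hb | hb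
        · exact mem_bot.1 (hb ▸ (hN a).2 ha)
        · exfalso
          have hc : ∀ g : G, (ψ : G → ℂ) g = (n : ℂ) := fun g => by
            rw [(hN g).1 (hb ▸ mem_top g), Cfsg.Agent.CharX.irr_deg, hdeg]
          have h1 := Cfsg.Agent.Char.classInner_self_irr ψ.2
          simp only [Cfsg.classInner, hc, map_natCast, Finset.sum_const, Finset.card_univ,
            nsmul_eq_mul, ← Nat.card_eq_fintype_card] at h1
          rw [← mul_assoc, inv_mul_cancel₀ (Nat.cast_ne_zero.2 Nat.card_pos.ne'), one_mul] at h1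
          have h2 : n * n = 1 := by exact_mod_cast h1
          exact hn1 (Nat.eq_one_of_mul_eq_one_right h2)
      · intro a ha
        have hc : im O' e ((⟨t, htC⟩ : cen t) * ⟨a, d.O_le (hEO ha)⟩) = negOne := by
          rw [im_mul, show im O' e (⟨t, htC⟩ : cen t) = negOne from im_tc ht O' hodd e,
            (im_eq_one O' e).2 (mem_subgroupOf.2 (hEO ha))]
          decide +kernel
        exact hval _ hc
    rcases hAB with ⟨rfl, rfl, -⟩ | ⟨rfl, -⟩
    · have := hbnd 12 (Or.inr rfl) (by norm_num)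
      omega
    · have := hbnd 10 (Or.inl rfl) (by norm_num)
      omega
  have hbot : O' = ⊥ := by rw [hO', hO, bot_subgroupOf]
  let E : cen t ≃* Matrix.GeneralLinearGroup (Fin 2) (ZMod 3) :=
    (MulEquiv.ofBijective (QuotientGroup.mk' O')
      ⟨(injective_iff_map_eq_one _).2 fun x hx =>
        mem_bot.1 (hbot ▸ (QuotientGroup.eq_one_iff x).1 hx), QuotientGroup.mk'_surjective _⟩).trans e
  rcases GLTwoThree.card_eq ht E with hG | hG
  · exact Or.inl ⟨ZMod 3, @ZMod.instField 3 ⟨Nat.prime_three⟩, inferInstance, ZMod.card 3,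
      GLTwoThree.nonempty_psl_of_card ht E hone hG⟩
  · right
    haveI : IsSimpleGroup ↥Cfsg.Spor.M11 := by
      rw [Golay.sporM11_eq]; exact Golay.isSimpleGroup_M11
    haveI : Fintype ↥Cfsg.Spor.M11 := Fintype.ofFinite _
    obtain ⟨a⟩ := M11Uniq.nonempty_mulEquiv_std hG
    obtain ⟨b⟩ := M11Uniq.nonempty_mulEquiv_std Golay.card_sporM11
    exact ⟨a.trans b.symm⟩

end Sol

end Cfsg.Agent.SixCent
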