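import Cfsg.Agent.Lib.SubThree.SDModel
import Mathlib.GroupTheory.Index

/-!
A presentation of `GL(2,3)`.
-/

set_option autoImplicit false
set_option linter.style.haveILetI false
set_option linter.unusedSectionVars false
set_option maxRecDepth 100000
set_option synthInstance.maxSize 4000

namespace Cfsg.Agent.SixCent.GLRel

open Cfsg.Agent.GLTwoThree Cfsg.Agent.SubThree Subgroup

/-- The relations. -/
structure Rel {X : Type*} [Group X] (i j s w : X) : Prop where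
  i4 : i ^ 4 = 1
  jj : j * j = i * i
  ji : j * i * j⁻¹ = i⁻¹
  s3 : s ^ 3 = 1
  si : s * i * s⁻¹ = j
  sj : s * j * s⁻¹ = i * j
  ww : w * w = 1
  ws : w * s * w⁻¹ = s⁻¹
  wi : w * i * w⁻¹ = i⁻¹
  wj : w * j * w⁻¹ = i * j * (i * i)

theorem card_cyclic_step {Z : Type*} [Group Z] (H : Subgroup Z) [Finite H] (g : Z) (n : ℕ)
    (hn : 0 < n) (hnorm : H ≤ H.comap (MulAut.conj g).toMonoidHom) (hgn : g ^ n ∈ H) :
    ∀ z ∈ H ⊔ zpowers g, ∃ h ∈ H, ∃ k < n, z = h * g ^ k := by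
  have hN : g ∈ normalizer (H : Set Z) := by
    have heq : H.map (MulAut.conj g).toMonoidHom = H := by
      haveI : Finite (H.map (MulAut.conj g).toMonoidHom : Subgroup Z) :=
        Finite.of_surjective _ ((MulAut.conj g).toMonoidHom.subgroupMap_surjective H)
      refine eq_of_le_of_card_ge ?_ (card_map_of_injective (MulAut.conj g).injective).ge
      exact map_le_iff_le_comap.2 hnorm
    refine mem_normalizer_iff.2 fun x => ⟨fun hx => hnorm hx, fun hx => ?_⟩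
    obtain ⟨y, hy, e⟩ := heq.symm ▸ hx
    rwa [← (MulAut.conj g).injective e]
  intro z hz
  rw [← SetLike.mem_coe, coe_mul_of_right_le_normalizer_left _ _ (zpowers_le.2 hN)] at hz
  obtain ⟨h, hh, y, hy, rfl⟩ := hz
  obtain ⟨a, rfl⟩ := mem_zpowers_iff.1 hy
  refine ⟨h * (g ^ n) ^ (a / n), mul_mem hh (zpow_mem hgn _), (a % n).toNat, ?_, ?_⟩
  · have := Int.emod_lt_of_pos a (show (0 : ℤ) < n by exact_mod_cast hn)
    omega
  · show h * g ^ a = _
    rw [mul_assoc, ← zpow_natCast g ((a % n).toNat),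
      Int.toNat_of_nonneg (Int.emod_nonneg a (by exact_mod_cast hn.ne')), ← zpow_natCast g n,
      ← zpow_mul, ← zpow_add, Int.mul_ediv_add_emod]

theorem card_step {Z : Type*} [Group Z] (H : Subgroup Z) [Finite H] (g : Z) (n : ℕ) (hn : 0 < n)
    (hnorm : H ≤ H.comap (MulAut.conj g).toMonoidHom) (hgn : g ^ n ∈ H) :
    Finite (H ⊔ zpowers g : Subgroup Z) ∧ Nat.card (H ⊔ zpowers g : Subgroup Z) ≤ Nat.card H * n := by
  let f : H × Fin n → (H ⊔ zpowers g : Subgroup Z) := fun p =>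
    ⟨(p.1 : Z) * g ^ (p.2 : ℕ), mul_mem (mem_sup_left p.1.2) (pow_mem (mem_sup_right (mem_zpowers g)) _)⟩
  have hf : Function.Surjective f := fun z => by
    obtain ⟨h, hh, k, hk, e⟩ := card_cyclic_step H g n hn hnorm hgn z z.2
    exact ⟨(⟨h, hh⟩, ⟨k, hk⟩), Subtype.ext e.symm⟩
  refine ⟨Finite.of_surjective f hf, (Nat.card_le_card_of_surjective f hf).trans_eq ?_⟩
  rw [Nat.card_prod, Nat.card_fin]

/-- A group with generators satisfying the relations has at most 48 elements. -/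
theorem card_le {Z : Type*} [Group Z] {i j s w : Z} (R : Rel i j s w) :
    Finite (zpowers i ⊔ zpowers j ⊔ zpowers s ⊔ zpowers w : Subgroup Z) ∧
      Nat.card (zpowers i ⊔ zpowers j ⊔ zpowers s ⊔ zpowers w : Subgroup Z) ≤ 48 := by
  have hord : IsOfFinOrder i := isOfFinOrder_iff_pow_eq_one.2 ⟨4, by norm_num, R.i4⟩
  haveI : Finite (zpowers i) := (finEquivZPowers hord).finite_iff.1 inferInstance
  have h1 : Nat.card (zpowers i) ≤ 4 := by
    rw [Nat.card_zpowers]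
    exact Nat.le_of_dvd (by norm_num) (orderOf_dvd_of_pow_eq_one R.i4)
  have mi : i ∈ zpowers i := mem_zpowers i
  obtain ⟨hf2, h2⟩ := card_step (zpowers i) j 2 (by norm_num)
    (zpowers_le.2 (show j * i * j⁻¹ ∈ zpowers i by rw [R.ji]; exact inv_mem mi))
    (by rw [pow_two, R.jj]; exact mul_mem mi mi)
  set H2 := zpowers i ⊔ zpowers j
  haveI := hf2
  have m2i : i ∈ H2 := mem_sup_left mi
  have m2j : j ∈ H2 := mem_sup_right (mem_zpowers j)
  obtain ⟨hf3, h3⟩ := card_step H2 s 3 (by norm_num)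
    (sup_le (zpowers_le.2 (show s * i * s⁻¹ ∈ H2 by rw [R.si]; exact m2j))
      (zpowers_le.2 (show s * j * s⁻¹ ∈ H2 by rw [R.sj]; exact mul_mem m2i m2j)))
    (by rw [R.s3]; exact one_mem _)
  set H3 := H2 ⊔ zpowers s
  haveI := hf3
  have m3i : i ∈ H3 := mem_sup_left m2i
  have m3j : j ∈ H3 := mem_sup_left m2j
  obtain ⟨hf4, h4⟩ := card_step H3 w 2 (by norm_num)
    (sup_le (sup_le (zpowers_le.2 (show w * i * w⁻¹ ∈ H3 by rw [R.wi]; exact inv_mem m3i))
      (zpowers_le.2 (show w * j * w⁻¹ ∈ H3 by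
        rw [R.wj]; exact mul_mem (mul_mem m3i m3j) (mul_mem m3i m3i))))
      (zpowers_le.2 (show w * s * w⁻¹ ∈ H3 by
        rw [R.ws]; exact inv_mem (mem_sup_right (mem_zpowers s)))))
    (by rw [pow_two, R.ww]; exact one_mem _)
  exact ⟨hf4, by omega⟩

/-- Generators of the model. -/
def gi : V := (0, 2, 1, 0)
def gj : V := (1, 1, 1, 2)
def gs : V := (1, 1, 0, 1)
def gw : V := (1, 0, 0, 2)

theorem model_check : gi ∈ U ∧ gj ∈ U ∧ gs ∈ U ∧ gw ∈ U ∧
    pw gi 4 = one ∧ mul gj gj = mul gi gi ∧ mul (mul gj gi) (inv gj) = inv gi ∧ pw gs 3 = one ∧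
    mul (mul gs gi) (inv gs) = gj ∧ mul (mul gs gj) (inv gs) = mul gi gj ∧ mul gw gw = one ∧
    mul (mul gw gs) (inv gw) = inv gs ∧ mul (mul gw gi) (inv gw) = inv gi ∧
    mul (mul gw gj) (inv gw) = mul (mul gi gj) (mul gi gi) := by decide +kernel

theorem words_check : ∀ v ∈ U, ∃ a ∈ List.range 4, ∃ b ∈ List.range 2, ∃ c ∈ List.range 3,
    ∃ d ∈ List.range 2, v = mul (mul (mul (pw gi a) (pw gj b)) (pw gs c)) (pw gw d) := by
  decide +kernel

/-- A normal subgroup other than the trivial one contains `-1`. -/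
theorem normal_check : ∀ v ∈ U, v ≠ one → v = negOne ∨ ∃ x ∈ U,
    mul (inv v) (cj x v) = negOne ∨
    mul (mul (inv v) (cj x v)) (mul (inv v) (cj x v)) = negOne ∨
    pw (mul (inv v) (cj x v)) 3 = negOne ∨
    ∃ y ∈ U, mul (mul (mul (inv v) (cj x v)) (cj y (mul (inv v) (cj x v))))
      (mul (mul (inv v) (cj x v)) (cj y (mul (inv v) (cj x v)))) = negOne := by decide +kernel

universe u

/-- A group generated by elements satisfying the relations, with the image of `-1` nontrivial, is a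
copy of `GL(2,3)`. -/
theorem nonempty_iso {Y : Type u} [Group Y] {i j s w : Y} (R : Rel i j s w) (hii : i * i ≠ 1)
    (hgen : zpowers i ⊔ zpowers j ⊔ zpowers s ⊔ zpowers w = (⊤ : Subgroup Y)) :
    Nonempty (Y ≃* Matrix.GeneralLinearGroup (Fin 2) (ZMod 3)) := by
  let e₀ := MulEquiv.refl (Matrix.GeneralLinearGroup (Fin 2) (ZMod 3))
  obtain ⟨m1, m2, m3, m4, r1, r2, r3, r4, r5, r6, r7, r8, r9, r10⟩ := model_check
  obtain ⟨a, ha⟩ := co'_surj e₀ m1
  obtain ⟨b, hb⟩ := co'_surj e₀ m2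
  obtain ⟨c, hc⟩ := co'_surj e₀ m3
  obtain ⟨d, hd⟩ := co'_surj e₀ m4
  have hinj := co'_injective e₀
  have R' : Rel a b c d := by
    refine ⟨hinj ?_, hinj ?_, hinj ?_, hinj ?_, hinj ?_, hinj ?_, hinj ?_, hinj ?_, hinj ?_, hinj ?_⟩
    all_goals simp only [co'_mul, co'_inv, co'_pow, co'_one, ha, hb, hc, hd]
    all_goals assumption
  set Z := Matrix.GeneralLinearGroup (Fin 2) (ZMod 3) × Y
  have RZ : Rel (X := Z) (a, i) (b, j) (c, s) (d, w) := by
    refine ⟨?_, ?_, ?_, ?_, ?_, ?_, ?_, ?_, ?_, ?_⟩ <;> refine Prod.ext ?_ ?_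
    exacts [R'.i4, R.i4, R'.jj, R.jj, R'.ji, R.ji, R'.s3, R.s3, R'.si, R.si, R'.sj, R.sj, R'.ww, R.ww,
      R'.ws, R.ws, R'.wi, R.wi, R'.wj, R.wj]
  obtain ⟨hfin, hcard⟩ := card_le RZ
  set Γ : Subgroup Z := zpowers (a, i) ⊔ zpowers (b, j) ⊔ zpowers (c, s) ⊔ zpowers (d, w)
  haveI := hfin
  let π₁ : Γ →* Matrix.GeneralLinearGroup (Fin 2) (ZMod 3) := (MonoidHom.fst _ _).comp Γ.subtype
  let π₂ : Γ →* Y := (MonoidHom.snd _ _).comp Γ.subtype
  have m : (a, i) ∈ Γ ∧ (b, j) ∈ Γ ∧ (c, s) ∈ Γ ∧ (d, w) ∈ Γ :=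
    ⟨mem_sup_left (mem_sup_left (mem_sup_left (mem_zpowers _))),
      mem_sup_left (mem_sup_left (mem_sup_right (mem_zpowers _))),
      mem_sup_left (mem_sup_right (mem_zpowers _)), mem_sup_right (mem_zpowers _)⟩
  have h1 : Function.Surjective π₁ := by
    intro g
    obtain ⟨k, -, l, -, n, -, o, -, hv⟩ := words_check _ (co'_mem e₀ g)
    refine ⟨⟨_, mul_mem (mul_mem (mul_mem (pow_mem m.1 k) (pow_mem m.2.1 l)) (pow_mem m.2.2.1 n))
      (pow_mem m.2.2.2 o)⟩, hinj ?_⟩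
    show co' e₀ (a ^ k * b ^ l * c ^ n * d ^ o) = _
    simp only [co'_mul, co'_pow, ha, hb, hc, hd, hv]
  have h2 : Function.Surjective π₂ := by
    rw [← MonoidHom.range_eq_top, eq_top_iff, ← hgen]
    refine sup_le (sup_le (sup_le ?_ ?_) ?_) ?_ <;> rw [zpowers_le]
    exacts [⟨⟨_, m.1⟩, rfl⟩, ⟨⟨_, m.2.1⟩, rfl⟩, ⟨⟨_, m.2.2.1⟩, rfl⟩, ⟨⟨_, m.2.2.2⟩, rfl⟩]
  have hb1 : Function.Bijective π₁ := by
    refine (Nat.bijective_iff_surjective_and_card π₁).2 ⟨h1, le_antisymm ?_ ?_⟩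
    · rw [card_X e₀]; exact hcard
    · exact Nat.card_le_card_of_surjective π₁ h1
  let ψ : Matrix.GeneralLinearGroup (Fin 2) (ZMod 3) →* Y :=
    π₂.comp (MulEquiv.ofBijective π₁ hb1).symm.toMonoidHom
  have hψ : Function.Surjective ψ := h2.comp (MulEquiv.ofBijective π₁ hb1).symm.surjective
  have hψa : ψ a = i := by
    show π₂ ((MulEquiv.ofBijective π₁ hb1).symm a) = i
    rw [show (MulEquiv.ofBijective π₁ hb1).symm a = ⟨(a, i), m.1⟩ from
      (MulEquiv.ofBijective π₁ hb1).injective (by rw [MulEquiv.apply_symm_apply]; rfl)]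
    rfl
  have hψinj : Function.Injective ψ := by
    rw [← MonoidHom.ker_eq_bot_iff, eq_bot_iff]
    intro x hx
    by_contra hne
    rw [mem_bot] at hne
    have hneg : ψ (a * a) ≠ 1 := by rwa [map_mul, hψa]
    have haa : co' e₀ (a * a) = negOne := by rw [co'_mul, ha]; decide +kernel
    have hcj : ∀ g y, g ∈ ψ.ker → y⁻¹ * g * y ∈ ψ.ker := fun g y hg => by
      have := (MonoidHom.normal_ker ψ).conj_mem g hg y⁻¹
      rwa [inv_inv] at this
    have hlift : ∀ g ∈ ψ.ker, co' e₀ g ≠ negOne := fun g hg hgn =>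
      hneg (by rw [show a * a = g from hinj (haa.trans hgn.symm)]; exact hg)
    rcases normal_check _ (co'_mem e₀ x) (fun h => hne ((co'_eq_one e₀).1 h)) with
      h | ⟨v, hv, h | h | h | ⟨v', hv', h⟩⟩
    · exact hlift x hx h
    all_goals obtain ⟨y, rfl⟩ := co'_surj e₀ hv
    all_goals rw [← co'_conj, ← co'_inv, ← co'_mul] at h
    all_goals have hk : x⁻¹ * (y⁻¹ * x * y) ∈ ψ.ker := mul_mem (inv_mem hx) (hcj x y hx)
    · exact hlift _ hk h
    · rw [← co'_mul] at h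
      exact hlift _ (mul_mem hk hk) h
    · rw [← co'_pow] at h
      exact hlift _ (pow_mem hk 3) h
    · obtain ⟨y', rfl⟩ := co'_surj e₀ hv'
      rw [← co'_conj, ← co'_mul, ← co'_mul] at h
      exact hlift _ (mul_mem (mul_mem hk (hcj _ y' hk)) (mul_mem hk (hcj _ y' hk))) h
  exact ⟨(MulEquiv.ofBijective ψ ⟨hψinj, hψ⟩).symm⟩

end Cfsg.Agent.SixCent.GLRel
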