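import Cfsg.Agent.Lib.SixCent.Outer
import Cfsg.Agent.Lib.SixCent.GLRel

/-!
A 2-radical of order 8 is a quaternion group, and the centraliser is `GL(2,3)` modulo its core.
-/

set_option autoImplicit false
set_option linter.style.haveILetI false
set_option linter.unusedSectionVars false

open scoped commutatorElement
open Subgroup Cfsg.Agent.SelfThree

namespace Cfsg.Agent.SixCent

universe v

variable {G : Type v} [Group G] [Finite G]

namespace Sol

variable {t : G} (d : Sol t) (ht : orderOf t = 2) (h : Hyp G) [IsSimpleGroup G]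
  (h8 : Nat.card d.S0 = 8)

include ht h h8 in
/-- An element of `S0` outside `⟨t⟩` squares to `t`. -/
theorem sq_eq_t {r : G} (hr : r ∈ d.S0) (hrT : r ∉ zpowers t) : r * r = t := by
  refine (mem_zpowers_two ht (d.sq_mem_T ht h hr)).resolve_left fun h1 => hrT ?_
  set s := d.u * r * d.u⁻¹ with hs
  set r2 := d.u⁻¹ * r * d.u with hr2
  have hs1 : s * s = 1 := by
    rw [hs, show d.u * r * d.u⁻¹ * (d.u * r * d.u⁻¹) = d.u * (r * r) * d.u⁻¹ by group, h1]
    group
  have hr21 : r2 * r2 = 1 := by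
    rw [hr2, show d.u⁻¹ * r * d.u * (d.u⁻¹ * r * d.u) = d.u⁻¹ * (r * r) * d.u by group, h1]
    group
  have hτ : r * s * r2 ∈ zpowers t := (d.fpfS ht).prod_mem hr
  set τ := r * s * r2 with hτdef
  have hr2C : r2 ∈ CC t := mul_mem (mul_mem (inv_mem d.u_mem) (d.S0_le hr)) d.u_mem
  have e : r * s = τ * r2 := by rw [hτdef, mul_assoc (r * s), hr21, mul_one]
  have e2 : r * s * (r * s) = 1 := by
    rw [e, show τ * r2 * (τ * r2) = τ * (r2 * τ) * r2 by group, (T_cent hτ hr2C).eq,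
      show τ * (τ * r2) * r2 = (τ * τ) * (r2 * r2) by group, hr21, mul_one]
    exact T_sq ht hτ
  have hc : Commute r s := by
    have e3 : (r * s)⁻¹ = r * s := inv_eq_of_mul_eq_one_right e2
    rw [mul_inv_rev, inv_eq_of_mul_eq_one_right hs1, inv_eq_of_mul_eq_one_right h1] at e3
    exact e3.symm
  have hR : d.S0 ≤ CC r :=
    d.span_four ht le_rfl d.T_le (fun x hx => conj_mem_zt d.u_mem hx)
      (by rw [h8, card_T ht]) hr hrT (fun a ha => mem_CC.2 (T_cent ha (d.S0_le hr)).symm)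
      (mem_CC.2 (Commute.refl r)) (mem_CC.2 hc.symm)
  exact d.center_le ht h hr fun q hq => mem_CC.1 (hR hq)

include ht h h8 in
/-- An involution of the centraliser outside `S0`. -/
theorem exists_outer_invol : ∃ y ∈ CC t, y ∉ d.S0 ∧ y * y = 1 := by
  by_contra hh
  push Not at hh
  haveI : Fact (Nat.Prime 2) := ⟨Nat.prime_two⟩
  obtain ⟨S, hS⟩ := exists_sylow_cc h ht
  refine SmallCent.not_rankOne h.ncyc (ht ▸ orderOf_dvd_natCard t) fun a b ha hb hab => ?_
  have hA : Elem (zpowers a ⊔ zpowers b) :=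
    (elem_zpowers (sq_eq_one_of_invol ha)).sup (sq_eq_one_of_invol hb) fun z hz => by
      obtain ⟨i, rfl⟩ := mem_zpowers_iff.1 hz
      exact (hab.zpow_left i).symm
  obtain ⟨P, hP⟩ := (show IsPGroup 2 (zpowers a ⊔ zpowers b : Subgroup G) from
    fun x => ⟨1, Subtype.ext (by
      rw [pow_one, SubmonoidClass.coe_pow, pow_two]; exact hA x x.2)⟩).exists_le_sylow
  obtain ⟨k, hk⟩ := MulAction.exists_smul_eq G S P
  have key : ∀ x : G, orderOf x = 2 → x ∈ (P : Subgroup G) → k⁻¹ * x * k = t := by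
    intro x hx hxP
    rw [← hk, mem_smul_sylow] at hxP
    have h2 : k⁻¹ * x * k * (k⁻¹ * x * k) = 1 := by
      rw [show k⁻¹ * x * k * (k⁻¹ * x * k) = k⁻¹ * (x * x) * k by group, sq_eq_one_of_invol hx]
      group
    have hne : k⁻¹ * x * k ≠ 1 := fun e => ne_one_of_invol hx (by
      calc x = k * (k⁻¹ * x * k) * k⁻¹ := by group
        _ = 1 := by rw [e]; group)
    have hxS : k⁻¹ * x * k ∈ d.S0 := by_contra fun h0 => hh _ (hS hxP) h0 h2
    have hxT : k⁻¹ * x * k ∈ zpowers t := by_contra fun hT =>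
      ne_one_of_invol ht ((d.sq_eq_t ht h h8 hxS hT).symm.trans h2)
    exact (mem_zpowers_two ht hxT).resolve_left hne
  have e1 := key a ha (hP (mem_sup_left (mem_zpowers a)))
  have e2 := key b hb (hP (mem_sup_right (mem_zpowers b)))
  exact mul_left_cancel (mul_right_cancel (e1.trans e2.symm))

include ht in
/-- The part of an outer element inverting `u`. -/
theorem exists_w {y : G} (hy : y ∈ CC t) (hy2 : y * y = 1) (hy0 : y ∉ d.S0) :
    ∃ q ∈ d.S0, ∃ w ∈ CC t, w * d.u * w⁻¹ = d.u⁻¹ ∧ w * w ∈ zpowers t ∧ w ∉ d.S0 ∧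
      q * (w * q * w⁻¹) * (w * w) = 1 := by
  have h2 : ∃ k : ℕ, orderOf y = 2 ^ k :=
    ⟨1, orderOf_eq_two hy2 fun e => hy0 (e ▸ one_mem _)⟩
  obtain ⟨q, hq, o, ho, w, hw, e, hwu⟩ := (d.two_element ht hy h2).resolve_left hy0
  obtain ⟨a, ha, b, hb, hab⟩ := d.sq_w ht hw (Or.inr hwu)
  have hb1 : b = 1 := by
    have hbw : Commute w b := by
      have h1 : Commute w (w * w) := (Commute.refl w).mul_right (Commute.refl w)
      have h3 := ((T_cent ha hw).inv_right).mul_right h1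
      rwa [hab, inv_mul_cancel_left] at h3
    rcases d.mem_zpowers_u hb with e' | e' | e'
    · exact e'
    all_goals
      exfalso
      subst e'
      have h3 : d.u = d.u⁻¹ := by
        have hc : Commute w d.u := by first | exact hbw | exact Commute.inv_right_iff.1 hbw
        rw [← hwu, hc.eq, mul_inv_cancel_right]
      have h4 : orderOf d.u ∣ 2 :=
        orderOf_dvd_of_pow_eq_one (by rw [pow_two]; exact mul_eq_one_iff_eq_inv.2 h3)
      rw [d.u_ord] at h4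
      norm_num at h4
  rw [hb1, mul_one] at hab
  have hwT : w * w ∈ zpowers t := hab.symm ▸ ha
  have hw0 : w ∉ d.S0 := fun hw0 => d.S3 (by
    have h3 : d.u * w * d.u⁻¹ * w⁻¹ ∈ d.S0 := mul_mem (d.normS _ d.u_mem w hw0) (inv_mem hw0)
    rw [show d.u * w * d.u⁻¹ * w⁻¹ = d.u * (w * d.u * w⁻¹)⁻¹ by group, hwu, inv_inv] at h3
    have h4 := orderOf_dvd_natCard _ (inv_mem h3)
    rwa [show (d.u * d.u)⁻¹ = d.u from inv_eq_of_mul_eq_one_right (by
      rw [mul_assoc, ← pow_three, d.u_cube]), d.u_ord] at h4)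
  refine ⟨q, hq, w, hw, hwu, hwT, hw0, ?_⟩
  have hqw := d.normS w hw q hq
  have hwo := d.normO w hw o ho
  have key : q * (w * q * w⁻¹) * (w * w) * (o * (w * o * w⁻¹)) = 1 := by
    have c1 := d.comm _ hqw o ho
    have c2 := d.comm _ (d.T_le hwT) _ ho
    have c3 := d.comm _ (d.T_le hwT) _ hwo
    calc q * (w * q * w⁻¹) * (w * w) * (o * (w * o * w⁻¹))
        = q * ((w * q * w⁻¹) * ((w * w) * (o * (w * o * w⁻¹)))) := by group
      _ = q * ((w * q * w⁻¹) * ((o * (w * o * w⁻¹)) * (w * w))) := by rw [(c2.mul_right c3).eq]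
      _ = q * ((w * q * w⁻¹) * o) * (w * o * w⁻¹) * (w * w) := by group
      _ = q * (o * (w * q * w⁻¹)) * (w * o * w⁻¹) * (w * w) := by rw [c1.eq]
      _ = (q * o * w) * (q * o * w) := by group
      _ = 1 := by rw [← e, hy2]
  have hX : q * (w * q * w⁻¹) * (w * w) ∈ d.S0 := mul_mem (mul_mem hq hqw) (d.T_le hwT)
  exact d.eq_one_of_both ht (mul_eq_one_iff_eq_inv.1 key ▸ inv_mem (mul_mem ho hwo)) hX

include ht h h8 in
/-- The quaternion generators and their relations. -/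
theorem exists_rel : ∃ i j w : G, i ∈ d.S0 ∧ j ∈ d.S0 ∧ w ∈ CC t ∧
    GLRel.Rel i j d.u w ∧ i * i = t ∧ orderOf i = 4 ∧
    CC t ≤ zpowers i ⊔ zpowers j ⊔ zpowers d.u ⊔ zpowers w ⊔ d.O := by
  obtain ⟨y, hy, hy0, hy2⟩ := d.exists_outer_invol ht h h8
  obtain ⟨q, hq, w, hw, hwu, hwT, hw0, key⟩ := d.exists_w ht hy hy2 hy0
  have ht2 := sq_eq_one_of_invol ht
  have hwk : ∃ k : ℕ, orderOf w = 2 ^ k := by
    obtain ⟨l, -, hl⟩ := (Nat.dvd_prime_pow Nat.prime_two).1
      (orderOf_dvd_of_pow_eq_one (show w ^ 2 ^ 2 = 1 by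
        rw [pow_succ 2 1, pow_one, pow_mul, pow_two, pow_two]; exact T_sq ht hwT))
    exact ⟨l, hl⟩
  set F := d.fixT w with hF
  have hF4 : Nat.card F ≤ 4 := by
    have := d.outside_bound ht hw hwk hw0 (D := F) (d.T_le_fixT hw) (d.fixT_le w) fun r hr => hr.2
    rw [h8] at this
    nlinarith
  -- an element fixed by `w` modulo `⟨t⟩`
  obtain ⟨i₀, hi₀, hi₀T, hi₀w⟩ : ∃ i₀ ∈ d.S0, i₀ ∉ zpowers t ∧ ⁅w, i₀⁆ ∈ zpowers t := by
    obtain ⟨r, hr, hrT⟩ := SetLike.not_le_iff_exists.1 fun hle : d.S0 ≤ zpowers t => by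
      have := (card_le_of_le hle).trans_eq (card_T ht)
      omega
    set r' := w * r * w⁻¹ with hr'
    have hr'S : r' ∈ d.S0 := d.normS w hw r hr
    by_cases hc : r * r' ∈ zpowers t
    · refine ⟨r, hr, hrT, ?_⟩
      have e : ⁅w, r⁆ = r⁻¹ * (r * r') * r⁻¹ := by rw [commutatorElement_def, hr']; group
      rw [e, (T_cent hc (d.S0_le (inv_mem hr))).eq, mul_assoc, ← mul_inv_rev]
      exact mul_mem hc (inv_mem (d.sq_mem_T ht h hr))
    · refine ⟨r * r', mul_mem hr hr'S, hc, ?_⟩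
      have e1 : w * r' * w⁻¹ = r := by
        rw [hr', show w * (w * r * w⁻¹) * w⁻¹ = (w * w) * r * (w * w)⁻¹ by group,
          ← (T_cent hwT (d.S0_le hr)).eq, mul_inv_cancel_right]
      have e2 : ⁅w, r * r'⁆ = ⁅r', r⁆ := by
        calc ⁅w, r * r'⁆ = (w * r * w⁻¹) * (w * r' * w⁻¹) * (r * r')⁻¹ := by
              rw [commutatorElement_def]; group
          _ = r' * r * (r * r')⁻¹ := by rw [e1]
          _ = ⁅r', r⁆ := by rw [commutatorElement_def]; group
      rw [e2]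
      exact d.comm_mem_T ht h hr'S hr
  -- the sign
  obtain ⟨i, hi, hiT, hiw, hs⟩ : ∃ i ∈ d.S0, i ∉ zpowers t ∧ ⁅w, i⁆ ∈ zpowers t ∧
      d.u⁻¹ * i * d.u = i * (d.u * i * d.u⁻¹) := by
    set j₀ := d.u * i₀ * d.u⁻¹ with hj₀
    set k₀ := d.u⁻¹ * i₀ * d.u with hk₀
    have hj : j₀ ∈ d.S0 := d.normS _ d.u_mem i₀ hi₀
    have hp : i₀ * j₀ * k₀ ∈ zpowers t := (d.fpfS ht).prod_mem hi₀
    have hk0T : k₀ ∉ zpowers t := fun hm => hi₀T (by
      have := conj_mem_zt d.u_mem hm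
      rwa [hk₀, show d.u * (d.u⁻¹ * i₀ * d.u) * d.u⁻¹ = i₀ by group] at this)
    have hk0 : k₀ ∈ d.S0 := (d.fpfS ht).conj_inv hi₀
    have hkk := d.sq_eq_t ht h h8 hk0 hk0T
    rcases mem_zpowers_two ht hp with e | e
    · -- replace by the product with `t`
      have htc : ∀ g ∈ CC t, g * t = t * g := fun g hg => (mem_CC.1 hg).eq
      refine ⟨i₀ * t, mul_mem hi₀ d.t_mem,
        fun hm => hi₀T ((mul_mem_cancel_right (mem_zpowers t)).1 hm), ?_, ?_⟩
      · rw [show ⁅w, i₀ * t⁆ = ⁅w, i₀⁆ * (i₀ * ⁅w, t⁆ * i₀⁻¹) by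
          simp only [commutatorElement_def]; group, comm_eq_one_iff.2 (mem_CC.1 hw), mul_one,
          mul_inv_cancel, mul_one]
        exact hi₀w
      · have e1 : i₀ * j₀ = k₀⁻¹ := mul_eq_one_iff_eq_inv.1 e
        have e2 : k₀⁻¹ = k₀ * t := by
          refine inv_eq_of_mul_eq_one_right ?_
          rw [← mul_assoc, hkk, ht2]
        have e3 : d.u * (i₀ * t) * d.u⁻¹ = j₀ * t := by
          rw [hj₀, show d.u * (i₀ * t) * d.u⁻¹ = d.u * i₀ * (t * d.u⁻¹) by group,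
            ← htc _ (inv_mem d.u_mem)]
          group
        have e4 : d.u⁻¹ * (i₀ * t) * d.u = k₀ * t := by
          rw [hk₀, show d.u⁻¹ * (i₀ * t) * d.u = d.u⁻¹ * i₀ * (t * d.u) by group,
            ← htc _ d.u_mem]
          group
        rw [e3, e4, show i₀ * t * (j₀ * t) = i₀ * (t * j₀) * t by group, ← htc _ (d.S0_le hj),
          show i₀ * (j₀ * t) * t = (i₀ * j₀) * (t * t) by group, ht2, mul_one, e1, e2]
    · refine ⟨i₀, hi₀, hi₀T, hi₀w, ?_⟩
      have e1 : i₀ * j₀ = t * k₀⁻¹ := by rw [← e, mul_inv_cancel_right]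
      rw [e1, show k₀⁻¹ = t * k₀ by
        refine inv_eq_of_mul_eq_one_left ?_
        rw [mul_assoc, hkk, ht2], ← mul_assoc, ht2, one_mul]
  -- relations
  set j := d.u * i * d.u⁻¹ with hjdef
  have hjS : j ∈ d.S0 := d.normS _ d.u_mem i hi
  have hjT : j ∉ zpowers t := fun hm => hiT (by
    have := conj_mem_zt (inv_mem d.u_mem) hm
    rwa [hjdef, inv_inv, show d.u⁻¹ * (d.u * i * d.u⁻¹) * d.u = i by group] at this)
  have hii := d.sq_eq_t ht h h8 hi hiT
  have hjj := d.sq_eq_t ht h h8 hjS hjT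
  have hiinv : i⁻¹ = i * t := inv_eq_of_mul_eq_one_right (by rw [← mul_assoc, hii, ht2])
  have htc : ∀ g ∈ CC t, g * t = t * g := fun g hg => (mem_CC.1 hg).eq
  have hspan : ∀ R : Subgroup G, zpowers t ≤ R → i ∈ R → j ∈ R → d.S0 ≤ R := fun R =>
    d.span_four ht le_rfl d.T_le (fun x hx => conj_mem_zt d.u_mem hx)
      (by rw [h8, card_T ht]) hi hiT (R := R)
  have hcij : ¬ Commute i j := fun hc => hiT (d.center_le ht h hi fun p hp => mem_CC.1
    (hspan (CC i) (fun a ha => mem_CC.2 (T_cent ha (d.S0_le hi)).symm) (mem_CC.2 (Commute.refl i))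
      (mem_CC.2 hc.symm) hp))
  have hji : j * i * j⁻¹ = i⁻¹ := by
    have e := (d.comm_two ht h hjS hi).resolve_left fun e => hcij (comm_eq_one_iff.1 e).symm
    calc j * i * j⁻¹ = ⁅j, i⁆ * i := by rw [commutatorElement_def]; group
      _ = i⁻¹ := by rw [e, hiinv, htc _ (d.S0_le hi)]
  have hu3 : d.u * d.u = d.u⁻¹ := eq_inv_of_mul_eq_one_left (by rw [← d.u_cube, pow_three, mul_assoc])
  have hsj : d.u * j * d.u⁻¹ = i * j := by
    rw [hjdef, show d.u * (d.u * i * d.u⁻¹) * d.u⁻¹ = (d.u * d.u) * i * (d.u * d.u)⁻¹ by group,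
      hu3, inv_inv]
    exact hs
  -- the action of `w`
  set τ := ⁅w, i⁆ with hτ
  have hτc : ∀ g ∈ CC t, g * τ = τ * g := fun g hg => (T_cent hiw hg).eq
  have hwi0 : w * i * w⁻¹ = τ * i := by rw [hτ, commutatorElement_def]; group
  have hτt : τ = t := by
    have e1 : w * j * w⁻¹ = τ * (i * j) := by
      calc w * j * w⁻¹ = (w * d.u * w⁻¹) * (w * i * w⁻¹) * (w * d.u * w⁻¹)⁻¹ := by
            rw [hjdef]; group
        _ = d.u⁻¹ * (τ * i) * d.u := by rw [hwu, hwi0, inv_inv]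
        _ = (d.u⁻¹ * τ) * i * d.u := by group
        _ = τ * (d.u⁻¹ * i * d.u) := by rw [hτc _ (inv_mem d.u_mem)]; group
        _ = τ * (i * j) := by rw [hs]
    have e2 : w * (i * j) * w⁻¹ = τ * j := by
      calc w * (i * j) * w⁻¹ = w * (d.u⁻¹ * i * d.u) * w⁻¹ := by rw [hs]
        _ = (w * d.u * w⁻¹)⁻¹ * (w * i * w⁻¹) * (w * d.u * w⁻¹) := by group
        _ = d.u * (τ * i) * d.u⁻¹ := by rw [hwu, hwi0, inv_inv]
        _ = (d.u * τ) * i * d.u⁻¹ := by group
        _ = τ * j := by rw [hτc _ d.u_mem, hjdef]; group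
    have e3 : w * (i * j) * w⁻¹ = t * j := by
      calc w * (i * j) * w⁻¹ = (w * i * w⁻¹) * (w * j * w⁻¹) := by group
        _ = τ * (i * τ) * (i * j) := by rw [e1, hwi0]; group
        _ = (τ * τ) * (i * i) * j := by rw [hτc _ (d.S0_le hi)]; group
        _ = t * j := by rw [T_sq ht hiw, one_mul, hii]
    exact mul_right_cancel (e2.symm.trans e3)
  have hwi : w * i * w⁻¹ = i⁻¹ := by rw [hwi0, hτt, hiinv, htc _ (d.S0_le hi)]
  have hwj : w * j * w⁻¹ = i * j * (i * i) := by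
    calc w * j * w⁻¹ = (w * d.u * w⁻¹) * (w * i * w⁻¹) * (w * d.u * w⁻¹)⁻¹ := by rw [hjdef]; group
      _ = d.u⁻¹ * (i * t) * d.u := by rw [hwu, hwi, hiinv, inv_inv]
      _ = d.u⁻¹ * i * (t * d.u) := by group
      _ = (d.u⁻¹ * i * d.u) * t := by rw [← htc _ d.u_mem]; group
      _ = i * j * (i * i) := by rw [hs, hii]
  have hord : orderOf i = 4 := by
    haveI : Fact (Nat.Prime 2) := ⟨Nat.prime_two⟩
    refine orderOf_eq_prime_pow (p := 2) (n := 1) ?_ ?_
    · rw [pow_one, pow_two, hii]; exact ne_one_of_invol ht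
    · rw [show (2 : ℕ) ^ (1 + 1) = 2 * 2 from rfl, pow_mul, pow_two i, hii, pow_two, ht2]
  have hww : w * w = 1 := by
    refine (mem_zpowers_two ht hwT).resolve_right fun e => ?_
    rw [e] at key
    have hFi : F = zpowers i := by
      have hle : zpowers i ≤ F := zpowers_le.2 ⟨hi, hiw⟩
      exact (eq_of_le_of_card_ge hle (by rw [Nat.card_zpowers, hord]; exact hF4)).symm
    have hqw : w * q * w⁻¹ = q⁻¹ * t := by
      calc w * q * w⁻¹ = q⁻¹ * (q * (w * q * w⁻¹) * t) * t⁻¹ := by group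
        _ = q⁻¹ * t := by rw [key, mul_one, inv_eq_self_of_invol ht]
    have hqF : q ∈ zpowers i := by
      rw [← hFi]
      refine ⟨hq, ?_⟩
      rw [commutatorElement_def, hqw, mul_assoc, ← htc _ (d.S0_le (inv_mem hq)), ← mul_assoc,
        ← mul_inv_rev]
      exact mul_mem (inv_mem (d.sq_mem_T ht h hq)) (mem_zpowers t)
    obtain ⟨k, rfl⟩ := mem_zpowers_iff.1 hqF
    rw [← conj_zpow, hwi, inv_zpow] at hqw
    exact ne_one_of_invol ht (left_eq_mul.1 hqw)
  refine ⟨i, j, w, hi, hjS, hw, ⟨?_, by rw [hjj, hii], hji, d.u_cube, rfl, hsj, hww, hwu, hwi, hwj⟩,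
    hii, hord, ?_⟩
  · rw [show 4 = 2 * 2 from rfl, pow_mul, pow_two i, hii, pow_two, ht2]
  -- generation
  set R := zpowers i ⊔ zpowers j ⊔ zpowers d.u ⊔ zpowers w with hR
  have m1 : i ∈ R := mem_sup_left (mem_sup_left (mem_sup_left (mem_zpowers i)))
  have m2 : j ∈ R := mem_sup_left (mem_sup_left (mem_sup_right (mem_zpowers j)))
  have m3 : zpowers d.u ≤ R := fun z hz => mem_sup_left (mem_sup_right hz)
  have m4 : w ∈ R := mem_sup_right (mem_zpowers w)
  have mT : zpowers t ≤ R := zpowers_le.2 (hii ▸ mul_mem m1 m1)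
  have mS : d.S0 ≤ R := hspan R mT m1 m2
  intro g hg
  obtain ⟨p, hp, o, ho, w', hw', rfl, hw''⟩ := d.dec g hg
  refine mul_mem (mul_mem (mem_sup_left (mS hp)) (mem_sup_right ho)) (mem_sup_left ?_)
  rcases hw'' with e | e
  · obtain ⟨a, ha, b, hb, rfl⟩ := d.u_self w' hw' (mul_inv_eq_iff_eq_mul.1 e)
    exact mul_mem (mT ha) (m3 hb)
  · have hcw : Commute (w⁻¹ * w') d.u := mul_inv_eq_iff_eq_mul.1 (by
      calc w⁻¹ * w' * d.u * (w⁻¹ * w')⁻¹ = w⁻¹ * (w' * d.u * w'⁻¹) * w := by group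
        _ = w⁻¹ * (w * d.u * w⁻¹) * w := by rw [e, hwu]
        _ = d.u := by group)
    obtain ⟨a, ha, b, hb, hab⟩ := d.u_self _ (mul_mem (inv_mem hw) hw') hcw
    rw [show w' = w * (a * b) by rw [← hab]; group]
    exact mul_mem m4 (mul_mem (mT ha) (m3 hb))

end Sol

end Cfsg.Agent.SixCent
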