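import Cfsg.Agent.Lib.SixCent.DerivedLe

/-!
`S0` is extraspecial: orthogonality bounds and the subgroups fixed by outer elements.
-/

set_option autoImplicit false
set_option linter.style.haveILetI false
set_option linter.unusedSectionVars false

open scoped commutatorElement
open Subgroup Cfsg.Agent.SelfThree

namespace Cfsg.Agent.SixCent

universe v

variable {G : Type v} [Group G] [Finite G]

/-- All elements have order at most two. -/
def Elem (A : Subgroup G) : Prop := ∀ a ∈ A, a * a = 1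

theorem Elem.comm {A : Subgroup G} (hA : Elem A) {a b : G} (ha : a ∈ A) (hb : b ∈ A) :
    Commute a b := by
  have e1 : a⁻¹ = a := inv_eq_of_mul_eq_one_right (hA a ha)
  have e2 : b⁻¹ = b := inv_eq_of_mul_eq_one_right (hA b hb)
  have e3 : (a * b)⁻¹ = a * b := inv_eq_of_mul_eq_one_right (hA _ (mul_mem ha hb))
  rw [mul_inv_rev, e1, e2] at e3
  exact e3.symm

theorem Elem.self_cent {A : Subgroup G} (hA : Elem A) : A ≤ centralizer (A : Set G) :=
  fun _ ha => mem_centralizer_iff.2 fun _ hb => (hA.comm hb ha).eq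

theorem elem_zpowers {g : G} (hg : g * g = 1) : Elem (zpowers g) := fun a ha => by
  obtain ⟨i, rfl⟩ := mem_zpowers_iff.1 ha
  rw [← (Commute.refl g).mul_zpow, hg, one_zpow]

theorem Elem.sup {A : Subgroup G} (hA : Elem A) {g : G} (hg : g * g = 1)
    (hc : ∀ a ∈ A, Commute g a) : Elem (A ⊔ zpowers g) := by
  intro x hx
  have hn : g ∈ normalizer (A : Set G) := mem_normalizer_of_conj fun a ha => by
    rw [(hc a ha).eq, mul_inv_cancel_right]; exact ha
  rw [← SetLike.mem_coe, coe_mul_of_right_le_normalizer_left _ _ (zpowers_le.2 hn)] at hx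
  obtain ⟨a, ha, z, hz, rfl⟩ := hx
  obtain ⟨i, rfl⟩ := mem_zpowers_iff.1 hz
  have h1 : Commute a (g ^ i) := (hc a ha).symm.zpow_right i
  show a * g ^ i * (a * g ^ i) = 1
  rw [mul_assoc a, ← mul_assoc (g ^ i), ← h1.eq, ← mul_assoc, ← mul_assoc, hA a ha, one_mul]
  exact elem_zpowers hg _ hz

theorem sup_double {A : Subgroup G} {g : G} (hg : g ∉ A) :
    2 * Nat.card A ≤ Nat.card ↥(A ⊔ zpowers g) :=
  two_mul_card_le le_sup_left fun e => hg (e ▸ mem_sup_right (mem_zpowers g))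

namespace Sol

variable {t : G} (d : Sol t) (ht : orderOf t = 2) (h : Hyp G) [IsSimpleGroup G]

include ht h in
theorem comm_two {x y : G} (hx : x ∈ d.S0) (hy : y ∈ d.S0) : ⁅x, y⁆ = 1 ∨ ⁅x, y⁆ = t :=
  mem_zpowers_two ht (d.comm_mem_T ht h hx hy)

include ht h in
/-- A subgroup and its centraliser in `S0`. -/
theorem perp_bound {H : Subgroup G} (hT : zpowers t ≤ H) (hH : H ≤ d.S0) :
    Nat.card H * Nat.card ↥(d.S0 ⊓ centralizer (H : Set G)) ≤ 2 * Nat.card d.S0 := by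
  suffices key : ∀ n, ∀ H : Subgroup G, zpowers t ≤ H → H ≤ d.S0 → Nat.card H = n →
      Nat.card H * Nat.card ↥(d.S0 ⊓ centralizer (H : Set G)) ≤ 2 * Nat.card d.S0 from
    key _ H hT hH rfl
  intro n
  induction n using Nat.strong_induction_on with
  | _ n ih =>
    intro H hT hH hn
    by_cases hHT : H ≤ zpowers t
    · refine Nat.mul_le_mul ((card_le_of_le hHT).trans_eq (card_T ht)) (card_le_of_le inf_le_left)
    obtain ⟨a, ha, haT⟩ := SetLike.not_le_iff_exists.1 hHT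
    obtain ⟨x, hx, hax⟩ : ∃ x ∈ d.S0, ¬ Commute a x := by
      by_contra hh
      push Not at hh
      exact haT (d.center_le ht h (hH ha) fun q hq => (hh q hq).symm)
    set H' := H ⊓ CC x with hH'
    have h1 : Nat.card H ≤ 2 * Nat.card H' :=
      card_le_two_cc fun y hy => d.comm_two ht h (hH hy) hx
    have hT' : zpowers t ≤ H' := fun b hb => ⟨hT hb, mem_CC.2 (T_cent hb (d.S0_le hx)).symm⟩
    have hne : H' ≠ H := fun e => hax (mem_CC.1 (e ▸ ha : a ∈ H').2)
    have hlt : Nat.card H' < n := by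
      rw [← hn]
      exact lt_of_le_of_ne (card_le_of_le inf_le_left)
        fun e => hne (eq_of_le_of_card_ge inf_le_left e.ge)
    have h2 := ih _ hlt H' hT' (inf_le_left.trans hH) rfl
    set C := d.S0 ⊓ centralizer (H : Set G)
    set C' := d.S0 ⊓ centralizer (H' : Set G)
    have hCC : C ≤ C' := inf_le_inf_left _ (centralizer_le inf_le_left)
    have hxC : x ∈ C' := ⟨hx, mem_centralizer_iff.2 fun b hb => (mem_CC.1 hb.2).eq⟩
    have hxC' : x ∉ C := fun hm => hax (mem_centralizer_iff.1 hm.2 a ha)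
    have h3 := two_mul_card_le hCC fun e => hxC' (e ▸ hxC)
    calc Nat.card H * Nat.card C ≤ 2 * Nat.card H' * Nat.card C := Nat.mul_le_mul_right _ h1
      _ = Nat.card H' * (2 * Nat.card C) := by ring
      _ ≤ Nat.card H' * Nat.card C' := Nat.mul_le_mul_left _ h3
      _ ≤ _ := h2

include ht h in
/-- An abelian subgroup is small. -/
theorem abelian_bound {H : Subgroup G} (hT : zpowers t ≤ H) (hH : H ≤ d.S0)
    (hc : H ≤ centralizer (H : Set G)) : Nat.card H * Nat.card H ≤ 2 * Nat.card d.S0 :=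
  (Nat.mul_le_mul_left _ (card_le_of_le (le_inf hH hc))).trans (d.perp_bound ht h hT hH)

include ht h in
theorem exists_invol (h32 : 32 ≤ Nat.card d.S0) : ∃ v ∈ d.S0, v * v = 1 ∧ v ∉ zpowers t := by
  obtain ⟨x, hx, hxT⟩ := SetLike.not_le_iff_exists.1 fun hle : d.S0 ≤ zpowers t => by
    have := (card_le_of_le hle).trans_eq (card_T ht); omega
  rcases mem_zpowers_two ht (d.sq_mem_T ht h hx) with e | e
  · exact ⟨x, hx, e, hxT⟩
  have h1 : Nat.card d.S0 ≤ 2 * Nat.card ↥(d.S0 ⊓ CC x) :=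
    card_le_two_cc fun y hy => d.comm_two ht h hy hx
  have h2 : Nat.card ↥(zpowers t ⊔ zpowers x) ≤ 4 :=
    (card_sup_zpowers_le (fun y hy => conj_mem_zt (d.S0_le hx) hy) (e ▸ mem_zpowers t)).trans
      (by rw [card_T ht])
  obtain ⟨y, ⟨hy, hyx⟩, hy'⟩ := SetLike.not_le_iff_exists.1
    fun hle : d.S0 ⊓ CC x ≤ zpowers t ⊔ zpowers x => by
      have := card_le_of_le hle; omega
  have hyT : y ∉ zpowers t := fun hm => hy' (mem_sup_left hm)
  rcases mem_zpowers_two ht (d.sq_mem_T ht h hy) with e' | e'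
  · exact ⟨y, hy, e', hyT⟩
  refine ⟨x * y, mul_mem hx hy, ?_, fun hm => hy' ?_⟩
  · calc x * y * (x * y) = x * (y * x) * y := by group
      _ = (x * x) * (y * y) := by rw [(mem_CC.1 hyx).eq]; group
      _ = 1 := by rw [e, e', sq_eq_one_of_invol ht]
  · have h3 : x * y ∈ zpowers t ⊔ zpowers x := mem_sup_left hm
    exact (mul_mem_cancel_left (mem_sup_right (mem_zpowers x))).1 h3

/-- The elements fixed modulo `⟨t⟩`. -/
def fixT (s : G) : Subgroup G := d.commTo (zpowers t) d.T_norm s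

theorem fixT_le (s : G) : d.fixT s ≤ d.S0 := fun _ hr => hr.1

theorem T_le_fixT {s : G} (hs : s ∈ CC t) : zpowers t ≤ d.fixT s := fun a ha =>
  ⟨d.T_le ha, by rw [comm_eq_one_iff.2 (T_cent ha hs)]; exact one_mem _⟩

include ht h in
theorem fixT_iff {y q w : G} (hq : q ∈ d.S0) (hw : w ∈ CC t)
    (hy : ∀ r ∈ d.S0, y * r * y⁻¹ = q * (w * r * w⁻¹) * q⁻¹) {r : G} (hr : r ∈ d.S0) :
    ⁅y, r⁆ ∈ zpowers t ↔ ⁅w, r⁆ ∈ zpowers t := by
  have e : ⁅y, r⁆ = ⁅q, w * r * w⁻¹⁆ * ⁅w, r⁆ := by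
    rw [commutatorElement_def y r, hy r hr]
    simp only [commutatorElement_def]; group
  rw [e]
  exact mul_mem_cancel_left (d.comm_mem_T ht h hq (d.normS w hw r hr))

include ht h in
/-- Any two outer elements fix conjugate subgroups. -/
theorem fix_transfer {y₁ y₂ : G} (h1 : y₁ ∈ CC t) (h1' : ∃ k : ℕ, orderOf y₁ = 2 ^ k)
    (h10 : y₁ ∉ d.S0) (h2 : y₂ ∈ CC t) (h2' : ∃ k : ℕ, orderOf y₂ = 2 ^ k) (h20 : y₂ ∉ d.S0) :
    ∃ c ∈ zpowers d.u, ∀ r ∈ d.fixT y₂, c * r * c⁻¹ ∈ d.fixT y₁ := by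
  obtain ⟨w, hw, hwu, q, hq, hqw⟩ := d.outside_w ht h1 h1' h10
  obtain ⟨w', hw', hwu', q', hq', hqw'⟩ := d.outside_w ht h2 h2' h20
  have hcom : Commute (w⁻¹ * w') d.u := mul_inv_eq_iff_eq_mul.1 (by
    calc w⁻¹ * w' * d.u * (w⁻¹ * w')⁻¹ = w⁻¹ * (w' * d.u * w'⁻¹) * w := by group
      _ = w⁻¹ * (w * d.u * w⁻¹) * w := by rw [hwu', hwu]
      _ = d.u := by group)
  obtain ⟨a, ha, b, hb, hab⟩ := d.u_self _ (mul_mem (inv_mem hw) hw') hcom
  refine ⟨b⁻¹, inv_mem hb, fun r hr => ?_⟩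
  have hcu : b⁻¹ ∈ CC t := inv_mem (zpowers_le.2 d.u_mem hb)
  have hr' := d.normS _ hcu r hr.1
  refine ⟨hr', (d.fixT_iff ht h hq hw hqw hr').2 ?_⟩
  have h3 := (d.fixT_iff ht h hq' hw' hqw' hr.1).1 hr.2
  rw [show w' = w * (a * b) by rw [← hab]; group] at h3
  obtain ⟨i, rfl⟩ := mem_zpowers_iff.1 hb
  have hinv : w * d.u ^ i * w⁻¹ = (d.u ^ i)⁻¹ := by rw [← conj_zpow, hwu, inv_zpow]
  have hb3 : (d.u ^ i) * (d.u ^ i) = (d.u ^ i)⁻¹ := by
    refine eq_inv_of_mul_eq_one_left ?_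
    rw [← zpow_add, ← zpow_add, show i + i + i = (3 : ℤ) * i by ring, zpow_mul,
      show d.u ^ (3 : ℤ) = 1 from by exact_mod_cast d.u_cube, one_zpow]
  have hrb := d.normS _ (zpowers_le.2 d.u_mem hb) r hr.1
  have har : ∀ x ∈ d.S0, a * x * a⁻¹ = x := fun x hx => by
    rw [(T_cent ha (d.S0_le hx)).eq.symm, mul_inv_cancel_right]
  -- remove the central factor
  have h5 : ⁅w * d.u ^ i, r⁆ ∈ zpowers t := by
    have e : ⁅w * (a * d.u ^ i), r⁆ = ⁅w * d.u ^ i, r⁆ := by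
      calc ⁅w * (a * d.u ^ i), r⁆ = w * (a * (d.u ^ i * r * (d.u ^ i)⁻¹) * a⁻¹) * w⁻¹ * r⁻¹ := by
            simp only [commutatorElement_def]; group
        _ = _ := by rw [har _ hrb]; simp only [commutatorElement_def]; group
    rwa [e] at h3
  have e : ⁅w, (d.u ^ i)⁻¹ * r * ((d.u ^ i)⁻¹)⁻¹⁆ = (d.u ^ i)⁻¹ * ⁅w * d.u ^ i, r⁆ * ((d.u ^ i)⁻¹)⁻¹ := by
    have hx : w * (d.u ^ i)⁻¹ = (d.u ^ i)⁻¹ * (w * d.u ^ i) := by
      calc w * (d.u ^ i)⁻¹ = w * ((d.u ^ i) * (d.u ^ i)) := by rw [hb3]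
        _ = (w * d.u ^ i * w⁻¹) * (w * d.u ^ i) := by group
        _ = (d.u ^ i)⁻¹ * (w * d.u ^ i) := by rw [hinv]
    calc ⁅w, (d.u ^ i)⁻¹ * r * ((d.u ^ i)⁻¹)⁻¹⁆
        = (w * (d.u ^ i)⁻¹) * r * (w * (d.u ^ i)⁻¹)⁻¹ * ((d.u ^ i)⁻¹ * r * ((d.u ^ i)⁻¹)⁻¹)⁻¹ := by
          simp only [commutatorElement_def]; group
      _ = _ := by rw [hx]; simp only [commutatorElement_def]; group
  rw [e]
  exact conj_mem_zt hcu h5

/-- What a pair of commuting involutions gives. -/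
structure Plane {v : G} (e : Sol v) (s : G) : Prop where
  elem : Elem (d.fixT s)
  card : Nat.card (d.fixT s) = 8
  v_mem : v ∈ d.fixT s
  le_cc : d.fixT s ≤ CC v
  not_le : ¬ d.fixT s ≤ e.S0

variable {v : G} (hvS : v ∈ d.S0) (hv : orderOf v = 2) (hvT : v ∉ zpowers t) (e : Sol v)
  (hcS : Nat.card e.S0 = Nat.card d.S0) (h32 : 32 ≤ Nat.card d.S0)

include ht h hvS hv hvT hcS h32 in
/-- Facts about two involutions in each other's 2-radical. -/
theorem around : Nat.card d.S0 = 32 ∧ Nat.card ↥(d.S0 ⊓ e.S0) = 8 ∧ t ∈ e.S0 ∧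
    Elem (d.S0 ⊓ e.S0) ∧ ∃ s ∈ e.S0, s ∈ CC t ∧ s ∉ d.S0 := by
  set K := d.S0 ⊓ e.S0 with hK
  have hKel : Elem K := fun x hx =>
    two_sets ht hv hvT (d.sq_mem_T ht h hx.1) (e.sq_mem_T hv h hx.2)
  set Q := d.S0 ⊓ CC v with hQ
  have hQ2 : Nat.card d.S0 ≤ 2 * Nat.card Q :=
    card_le_two_cc fun x hx => d.comm_two ht h hx hvS
  have hQe := e.card_le_two_mul hv (P := Q) (d.two.to_le inf_le_left) inf_le_right
  have hle : Q ⊓ e.S0 ≤ K := fun x hx => ⟨hx.1.1, hx.2⟩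
  have h1 := card_le_of_le hle
  have htc : ∀ a ∈ K, Commute t a := fun a ha => (mem_CC.1 (d.S0_le ha.1)).symm
  set K' := K ⊔ zpowers t
  have hK'el : Elem K' := hKel.sup (sq_eq_one_of_invol ht) htc
  have hb := d.abelian_bound ht h (H := K') le_sup_right (sup_le inf_le_left d.T_le) hK'el.self_cent
  have htK : t ∈ K := by
    by_contra htK
    have h2 : 2 * Nat.card K ≤ Nat.card K' := sup_double htK
    nlinarith [Nat.mul_le_mul h2 h2]
  have hK'K : K' = K := sup_eq_left.2 (zpowers_le.2 htK)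
  rw [hK'K] at hb
  have h32' : Nat.card d.S0 = 32 := by
    have : Nat.card d.S0 ≤ 4 * Nat.card K := by omega
    nlinarith [Nat.mul_le_mul this this]
  have hK8 : Nat.card K = 8 := by
    have : Nat.card K ≤ 8 := by nlinarith
    omega
  refine ⟨h32', hK8, htK.2, hKel, ?_⟩
  by_contra hh
  push Not at hh
  have h2 : Nat.card e.S0 ≤ 2 * Nat.card ↥(e.S0 ⊓ CC t) :=
    card_le_two_cc fun x hx => e.comm_two hv h hx htK.2
  have hle2 : e.S0 ⊓ CC t ≤ K := fun x hx => ⟨hh x hx.1 hx.2, hx.1⟩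
  have := card_le_of_le hle2
  omega

include ht h hvS hv hvT hcS h32 in
/-- The subgroup fixed by an outer element is elementary abelian. -/
theorem plane {s : G} (hse : s ∈ e.S0) (hst : s ∈ CC t) (hs0 : s ∉ d.S0) : d.Plane e s := by
  obtain ⟨hS, hK8, htS, hKel, -⟩ := d.around ht h hvS hv hvT e hcS h32
  set K := d.S0 ⊓ e.S0 with hK
  set F := d.fixT s
  have hTK : zpowers t ≤ K := le_inf d.T_le (zpowers_le.2 htS)
  have hvK : v ∈ K := ⟨hvS, e.t_mem⟩
  have hKS : K ≤ d.S0 := inf_le_left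
  have hs2 := orderOf_two_pow e.two hse
  have hTF : zpowers t ≤ F := d.T_le_fixT hst
  have hsv : Commute s v := mem_CC.1 (e.S0_le hse)
  have hvF : v ∈ F := ⟨hvS, by rw [comm_eq_one_iff.2 hsv]; exact one_mem _⟩
  have hF8 : Nat.card F ≤ 8 := by
    have := d.outside_bound ht hst hs2 hs0 (D := F) hTF (d.fixT_le s) fun r hr => hr.2
    nlinarith
  -- `K` is not fixed
  have hKF : ¬ K ≤ F := by
    intro hle
    have h1 := e.perp_bound hv h (H := K) (zpowers_le.2 hvK) inf_le_right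
    set C := e.S0 ⊓ centralizer (K : Set G)
    have hKC : K ≤ C := le_inf inf_le_right hKel.self_cent
    have h3 : Nat.card C ≤ 8 := by rw [hK8, hcS, hS] at h1; omega
    have hsC : s ∈ C := ⟨hse, mem_centralizer_iff.2 fun k hk => (Commute.symm (comm_eq_one_iff.1
      (two_sets ht hv hvT (hle hk).2 (e.comm_mem_T hv h hse hk.2)))).eq⟩
    exact hs0 (eq_of_le_of_card_ge hKC (h3.trans hK8.ge) ▸ hsC : s ∈ K).1
  obtain ⟨a, haK, haF⟩ := SetLike.not_le_iff_exists.1 hKF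
  have hsa : ⁅s, a⁆ = v := (mem_zpowers_two hv (e.comm_mem_T hv h hse haK.2)).resolve_left
    fun h' => haF ⟨hKS haK, by rw [h']; exact one_mem _⟩
  -- fixed elements commute with `v`
  have hFv : ∀ b ∈ F, Commute b v := by
    intro b hb
    have hz := d.comm_mem_T ht h (hKS haK) (d.fixT_le s hb)
    have hvb : ⁅v * a, b⁆ = ⁅a, b⁆ := by
      have hsa' : s * a * s⁻¹ = v * a := by rw [← hsa, commutatorElement_def]; group
      have e1 : s * ⁅a, b⁆ * s⁻¹ = ⁅v * a, s * b * s⁻¹⁆ := by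
        rw [← hsa']; simp only [commutatorElement_def]; group
      rw [(T_cent hz hst).eq, mul_inv_cancel_right,
        show s * b * s⁻¹ = ⁅s, b⁆ * b by rw [commutatorElement_def]; group] at e1
      have hva : v * a ∈ d.S0 := mul_mem hvS (hKS haK)
      rw [show ∀ τ : G, ⁅v * a, τ * b⁆ = ⁅v * a, τ⁆ * (τ * ⁅v * a, b⁆ * τ⁻¹) from fun τ => by
        simp only [commutatorElement_def]; group, comm_eq_one_iff.2 (T_cent hb.2 (d.S0_le hva)),
        one_mul, (T_cent (d.comm_mem_T ht h hva (d.fixT_le s hb))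
          (d.S0_le (d.T_le hb.2))).eq, mul_inv_cancel_right] at e1
      exact e1.symm
    rw [show ⁅v * a, b⁆ = v * ⁅a, b⁆ * v⁻¹ * ⁅v, b⁆ by simp only [commutatorElement_def]; group,
      (T_cent hz (d.S0_le hvS)).eq, mul_inv_cancel_right] at hvb
    exact (comm_eq_one_iff.1 (mul_eq_left.1 hvb)).symm
  -- an involution whose orbit avoids `⟨t, v⟩`
  set R := zpowers t ⊔ zpowers v with hR
  have hR4 : Nat.card R ≤ 4 := (card_sup_zpowers_le (fun y hy => conj_mem_zt (d.S0_le hvS) hy)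
    (by rw [sq_eq_one_of_invol hv]; exact one_mem _)).trans (by rw [card_T ht])
  have hRK : R ≤ K := sup_le hTK (zpowers_le.2 hvK)
  have hRel : Elem R := fun x hx => hKel x (hRK hx)
  set σv := d.u * v * d.u⁻¹ with hσv
  obtain ⟨x, hx, hx2, hxc⟩ : ∃ x ∈ d.S0, x * x = 1 ∧
      ∀ c ∈ zpowers d.u, c * x * c⁻¹ ∉ R := by
    by_cases hσ : σv ∈ K
    · set R3 := R ⊔ zpowers σv
      have hR3K : R3 ≤ K := sup_le hRK (zpowers_le.2 hσ)
      have hTR3 : zpowers t ≤ R3 := le_sup_left.trans le_sup_left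
      have m1 : v ∈ R3 := mem_sup_left (mem_sup_right (mem_zpowers v))
      have m2 : σv ∈ R3 := mem_sup_right (mem_zpowers σv)
      have hle : R3 ≤ R3.comap (MulAut.conj d.u).toMonoidHom :=
        sup_le (sup_le (fun y hy => hTR3 (conj_mem_zt d.u_mem hy)) (zpowers_le.2 m2))
          (zpowers_le.2 (d.shift2_mem ht hTR3 hvS m1 m2))
      have h8 := d.quad_le ht (K := R3) le_rfl hTR3 (hR3K.trans hKS) (fun y => conj_mem_zt d.u_mem)
        (fun y hy => hle hy) (fun e' => hvT (e'.ge m1))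
      rw [card_T ht] at h8
      have hKR : R3 = K := eq_of_le_of_card_ge hR3K (by omega)
      have hinv : ∀ y ∈ K, d.u * y * d.u⁻¹ ∈ K := fun y hy => hKR ▸ hle (hKR.symm ▸ hy)
      have hun : d.u ∈ normalizer (K : Set G) := mem_normalizer_of_conj hinv
      obtain ⟨g, hg, hgK⟩ := SetLike.not_le_iff_exists.1 fun hle : d.S0 ≤ K => by
        have := card_le_of_le hle; omega
      obtain ⟨x, hx, hxK, hx2⟩ : ∃ x ∈ d.S0, x ∉ K ∧ x * x = 1 := by
        rcases mem_zpowers_two ht (d.sq_mem_T ht h hg) with e' | e'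
        · exact ⟨g, hg, hgK, e'⟩
        have h1 := d.perp_bound ht h (H := K) hTK hKS
        obtain ⟨k, hk, hgk⟩ : ∃ k ∈ K, ¬ Commute g k := by
          by_contra hh
          push Not at hh
          set C := d.S0 ⊓ centralizer (K : Set G)
          have h2 : Nat.card C ≤ 8 := by rw [hK8, hS] at h1; omega
          have hgC : g ∈ C := ⟨hg, mem_centralizer_iff.2 fun k hk => (hh k hk).eq.symm⟩
          exact hgK ((eq_of_le_of_card_ge (le_inf hKS hKel.self_cent) (h2.trans hK8.ge)).ge hgC)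
        refine ⟨g * k, mul_mem hg (hKS hk), fun hm => hgK ((mul_mem_cancel_right hk).1 hm), ?_⟩
        have hc : ⁅g⁻¹, k⁆ = t := (d.comm_two ht h (inv_mem hg) (hKS hk)).resolve_left
          fun h' => hgk (by simpa using (comm_eq_one_iff.1 h').inv_left)
        calc g * k * (g * k) = (g * g) * ⁅g⁻¹, k⁆ * (k * k) := by
              simp only [commutatorElement_def]; group
          _ = 1 := by rw [e', hc, hKel k hk, mul_one, sq_eq_one_of_invol ht]
      exact ⟨x, hx, hx2, fun c hc hm => hxK ((mem_normalizer_iff.1 (zpowers_le.2 hun hc) x).2 (hRK hm))⟩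
    · obtain ⟨x, hxK, hxR⟩ := SetLike.not_le_iff_exists.1 fun hle : K ≤ R => by
        have := card_le_of_le hle; omega
      refine ⟨x, hKS hxK, hKel x hxK, fun c hc hm => hσ ?_⟩
      have hcT : ∀ τ ∈ zpowers t, c⁻¹ * τ * c = τ := fun τ hτ => by
        rw [mul_assoc, ← (T_cent hτ (zpowers_le.2 d.u_mem hc)).eq, inv_mul_cancel_left]
      -- the element of `R` is `v` modulo `⟨t⟩`
      have hn : v ∈ normalizer ((zpowers t : Subgroup G) : Set G) :=
        mem_normalizer_of_conj fun y hy => conj_mem_zt (d.S0_le hvS) hy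
      rw [hR, ← SetLike.mem_coe, coe_mul_of_right_le_normalizer_left _ _ (zpowers_le.2 hn)] at hm
      obtain ⟨τ, hτ, z, hz, hτz⟩ := hm
      have e1 : x = τ * (c⁻¹ * z * c) := by
        calc x = c⁻¹ * (c * x * c⁻¹) * c := by group
          _ = c⁻¹ * (τ * z) * c := by rw [← hτz]
          _ = (c⁻¹ * τ * c) * (c⁻¹ * z * c) := by group
          _ = _ := by rw [hcT τ hτ]
      rcases mem_zpowers_two hv hz with rfl | rfl
      · exact absurd (by rw [e1]; simpa using mem_sup_left hτ) hxR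
      have h2 : c⁻¹ * z * c ∈ K := by
        rw [show c⁻¹ * z * c = τ⁻¹ * x by rw [e1]; group]
        exact mul_mem (inv_mem (hTK hτ)) hxK
      rcases d.mem_zpowers_u hc with rfl | rfl | rfl
      · exact absurd (by
          rw [e1]; simpa using mul_mem (mem_sup_left hτ : τ ∈ R) (mem_sup_right (mem_zpowers z))) hxR
      · -- the second shift
        have h3 : d.u * (d.u⁻¹ * z * d.u) * d.u⁻¹ = z := by group
        have h4 := d.shift2_mem ht hTK (hKS h2) h2 (by rw [h3]; exact hvK)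
        rwa [h3] at h4
      · simpa [hσv] using h2
  -- transport into `F`
  have hxv : x ∉ zpowers t := fun hm => hxc 1 (one_mem _) (by simpa using mem_sup_left hm)
  obtain ⟨e', hcS', -⟩ := d.exists_conj (h.one t x ht (orderOf_eq_two hx2
    fun h' => hxv (h' ▸ one_mem _)))
  obtain ⟨-, -, -, -, s', hs'e, hs't, hs'0⟩ := d.around ht h hx
    (orderOf_eq_two hx2 fun h' => hxv (h' ▸ one_mem _)) hxv e' hcS' h32
  obtain ⟨c, hc, hcF⟩ := d.fix_transfer ht h hst hs2 hs0 hs't (orderOf_two_pow e'.two hs'e) hs'0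
  have hb : c * x * c⁻¹ ∈ F := hcF x ⟨hx, by
    rw [comm_eq_one_iff.2 (mem_CC.1 (e'.S0_le hs'e))]; exact one_mem _⟩
  set b := c * x * c⁻¹ with hbdef
  have hb2 : b * b = 1 := by
    rw [hbdef, show c * x * c⁻¹ * (c * x * c⁻¹) = c * (x * x) * c⁻¹ by group, hx2]; group
  set W := R ⊔ zpowers b
  have hbc : ∀ r ∈ R, Commute b r := fun r hr => by
    have hle : R ≤ centralizer ({b} : Set G) :=
      sup_le (fun τ hτ => mem_centralizer_singleton_iff.2 (T_cent hτ (d.S0_le (d.fixT_le s hb))).symm.eq)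
        (zpowers_le.2 (mem_centralizer_singleton_iff.2 (hFv b hb).symm.eq))
    exact Commute.symm (mem_centralizer_singleton_iff.1 (hle hr))
  have hWel : Elem W := hRel.sup hb2 hbc
  have hWF : W ≤ F := sup_le (sup_le hTF (zpowers_le.2 hvF)) (zpowers_le.2 hb)
  have hW8 : 8 ≤ Nat.card W := by
    have h1 : 2 * Nat.card R ≤ Nat.card W := sup_double (hxc c hc)
    have h2 : 2 * Nat.card (zpowers t) ≤ Nat.card R := sup_double hvT
    rw [card_T ht] at h2
    omega
  have hWeq : W = F := eq_of_le_of_card_ge hWF (hF8.trans hW8)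
  have hFcard : Nat.card F = 8 := le_antisymm hF8 (hWeq ▸ hW8)
  refine ⟨by rw [← show W = d.fixT s from hWeq]; exact hWel, hFcard, hvF, fun r hr => mem_CC.2 (hFv r hr), fun hle => hKF ?_⟩
  exact (eq_of_le_of_card_ge (le_inf (d.fixT_le s) hle : F ≤ K) (by rw [hFcard, hK8])).ge

include ht h hvS hv hvT hcS h32 in
/-- An outer involution centralising an elementary abelian subgroup of order 8. -/
theorem exists_outer : ∃ y ∈ CC t, y ∉ d.S0 ∧ y * y = 1 ∧
    ∃ W : Subgroup G, W ≤ d.S0 ∧ zpowers t ≤ W ∧ Elem W ∧ Nat.card W = 8 ∧ ∀ r ∈ W, Commute y r := by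
  obtain ⟨hS, hK8, htS, hKel, s, hse, hst, hs0⟩ := d.around ht h hvS hv hvT e hcS h32
  set K := d.S0 ⊓ e.S0 with hK
  obtain ⟨hFel, hF8, hvF, hFcc, hFe⟩ := d.plane ht h hvS hv hvT e hcS h32 hse hst hs0
  set F := d.fixT s
  have hTF : zpowers t ≤ F := d.T_le_fixT hst
  obtain ⟨b, hbF, hbe⟩ := SetLike.not_le_iff_exists.1 hFe
  have hbS := d.fixT_le s hbF
  obtain ⟨a, haK, haF⟩ := SetLike.not_le_iff_exists.1 fun hle : K ≤ F =>
    hFe ((eq_of_le_of_card_ge hle (by rw [hF8, hK8])).ge.trans inf_le_right)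
  set R := zpowers t ⊔ zpowers v with hR
  set W := R ⊔ zpowers b
  have hRK : R ≤ K :=
    sup_le (le_inf d.T_le (zpowers_le.2 htS)) (zpowers_le.2 ⟨hvS, e.t_mem⟩)
  have hWF : W = F := by
    refine eq_of_le_of_card_ge (sup_le (sup_le hTF (zpowers_le.2 hvF)) (zpowers_le.2 hbF)) ?_
    have h1 : 2 * Nat.card R ≤ Nat.card W := sup_double fun hm => hbe (hRK hm).2
    have h2 : 2 * Nat.card (zpowers t) ≤ Nat.card R := sup_double hvT
    rw [card_T ht] at h2
    omega
  have hcent : ∀ g : G, g ∈ CC t → Commute g v → Commute g b → ∀ r ∈ F, Commute g r := by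
    intro g hg hgv hgb r hr
    have hle : W ≤ centralizer ({g} : Set G) :=
      sup_le (sup_le (fun τ hτ => mem_centralizer_singleton_iff.2 (T_cent hτ hg).symm.eq)
        (zpowers_le.2 (mem_centralizer_singleton_iff.2 hgv.symm.eq)))
        (zpowers_le.2 (mem_centralizer_singleton_iff.2 hgb.symm.eq))
    exact Commute.symm (mem_centralizer_singleton_iff.1 (hle (hWF.symm ▸ hr)))
  have hsv : Commute s v := mem_CC.1 (e.S0_le hse)
  have hat : a ∈ CC t := d.S0_le haK.1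
  have hav : Commute a v := mem_CC.1 (e.S0_le haK.2)
  have hab : ⁅a, b⁆ = t := by
    refine (d.comm_two ht h haK.1 hbS).resolve_left fun h' => haF ?_
    have h1 := d.perp_bound ht h (H := F) hTF (d.fixT_le s)
    set C := d.S0 ⊓ centralizer (F : Set G)
    have h2 : Nat.card C ≤ 8 := by rw [hF8, hS] at h1; omega
    have haC : a ∈ C := ⟨haK.1, mem_centralizer_iff.2 fun r hr =>
      (hcent a hat hav (comm_eq_one_iff.1 h') r hr).eq.symm⟩
    exact (eq_of_le_of_card_ge (le_inf (d.fixT_le s) hFel.self_cent) (h2.trans hF8.ge)).ge haC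
  obtain ⟨y, hye, hyt, hy0, hyb⟩ : ∃ y ∈ e.S0, y ∈ CC t ∧ y ∉ d.S0 ∧ Commute y b := by
    rcases mem_zpowers_two ht hbF.2 with h' | h'
    · exact ⟨s, hse, hst, hs0, comm_eq_one_iff.1 h'⟩
    refine ⟨s * a, mul_mem hse haK.2, mul_mem hst hat,
      fun hm => hs0 ((mul_mem_cancel_right (show a ∈ d.S0 from haK.1)).1 hm), comm_eq_one_iff.1 ?_⟩
    rw [show ⁅s * a, b⁆ = s * ⁅a, b⁆ * s⁻¹ * ⁅s, b⁆ by simp only [commutatorElement_def]; group,
      hab, h', (mem_CC.1 hst).eq, mul_inv_cancel_right, sq_eq_one_of_invol ht]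
  have hyv : Commute y v := mem_CC.1 (e.S0_le hye)
  have htv : t ∉ zpowers v := fun hm => by
    rcases mem_zpowers_two hv hm with e' | e'
    · exact ne_one_of_invol ht e'
    · exact hvT (e' ▸ mem_zpowers t)
  have hy2 : y * y = 1 :=
    (e.plane hv h htS ht htv d hcS.symm (hcS ▸ h32) hbS (hFcc hbF) hbe).elem y
      ⟨hye, by rw [comm_eq_one_iff.2 hyb.symm]; exact one_mem _⟩
  exact ⟨y, hyt, hy0, hy2, F, d.fixT_le s, hTF, hFel, hF8, hcent y hyt hyv hyb⟩

end Sol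

end Cfsg.Agent.SixCent
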