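import Mathlib.GroupTheory.SpecificGroups.Alternating
import Mathlib.GroupTheory.SpecificGroups.Alternating.Simple
import Mathlib.GroupTheory.Perm.Cycle.Type
import Mathlib.GroupTheory.GroupAction.Quotient
import Mathlib.GroupTheory.Sylow
import Mathlib.Tactic.NormNum.Prime

/-!
Groups of exponent two on which the alternating group of degree five acts with the elements of order 3
fixing only the identity.
-/

set_option autoImplicit false
set_option linter.style.haveILetI false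
set_option linter.unusedSectionVars false
set_option maxRecDepth 100000

namespace Cfsg.Agent.SixCent.FiveMod

abbrev A5 := alternatingGroup (Fin 5)

/-- A five cycle. -/
def ff : A5 := ⟨finRotate 5, Equiv.Perm.mem_alternatingGroup.2 (by decide)⟩
/-- An involution inverting it. -/
def ss : A5 := ⟨Equiv.swap 1 4 * Equiv.swap 2 3, Equiv.Perm.mem_alternatingGroup.2 (by decide)⟩
/-- An element of order 3. -/
def ua : A5 := ⟨Equiv.swap 2 3 * Equiv.swap 3 4, Equiv.Perm.mem_alternatingGroup.2 (by decide)⟩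
/-- An element of order 3. -/
def ub : A5 := ⟨Equiv.swap 1 3 * Equiv.swap 3 2, Equiv.Perm.mem_alternatingGroup.2 (by decide)⟩

theorem rels : ss * ff * ss⁻¹ = ff⁻¹ ∧ ss * ss = 1 ∧ ua ^ 3 = 1 ∧ ua ≠ 1 ∧ ub ^ 3 = 1 ∧ ub ≠ 1 ∧
    ub * ua = ua * ua * ss ∧ (ff * (ub * (ub * ua))) ^ 3 = 1 ∧ ff * (ub * (ub * ua)) ≠ 1 := by
  decide +kernel

theorem conj_three : ∀ a : A5, a ^ 3 = 1 → a ≠ 1 → ∃ x : A5, x * ua * x⁻¹ = a := by decide +kernel

theorem conj_two : ∀ a : A5, a * a = 1 → a ≠ 1 → ∃ x : A5, x * ss * x⁻¹ = a := by decide +kernel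

theorem conj_five : ∀ a : A5, a ^ 5 = 1 → a ≠ 1 → ∃ x : A5, ∃ k : Fin 5, x * ff * x⁻¹ = a ^ (k : ℕ) := by
  decide +kernel

theorem four_check : ∀ a : A5, a ^ 4 = 1 → a * a = 1 := by decide +kernel

theorem cent_three : ∀ g : A5, g * ua = ua * g → g = 1 ∨ g = ua ∨ g = ua * ua := by decide +kernel

theorem inverter : ∃ b : A5, b ^ 3 = 1 ∧ b ≠ 1 ∧ ss * b * ss⁻¹ = b⁻¹ := by decide +kernel

theorem card_A5 : Nat.card A5 = 60 := by
  rw [nat_card_alternatingGroup, Nat.card_fin]
  decide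

variable {V : Type*} [CommGroup V] (φ : A5 →* MulAut V) (hV : ∀ v : V, v * v = 1)
  (hfix : ∀ g : A5, g ^ 3 = 1 → g ≠ 1 → ∀ v, φ g v = v → v = 1)

include hfix in
theorem prod_three {g : A5} (h3 : g ^ 3 = 1) (h1 : g ≠ 1) (v : V) :
    v * φ g v * φ g (φ g v) = 1 := by
  refine hfix g h3 h1 _ ?_
  have e : φ g (φ g (φ g v)) = v := by
    rw [← MulAut.mul_apply, ← MulAut.mul_apply, ← map_mul, ← map_mul,
      show g * g * g = 1 by rw [← h3, pow_three, mul_assoc], map_one]
    rfl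
  rw [map_mul, map_mul, e]
  ac_rfl

include hfix in
theorem dihedral_fixed {w : V} (hf : φ ff w = w) (hs : φ ss w = w) : w = 1 := by
  obtain ⟨-, -, a3, a1, b3, b1, hrel, g3, g1⟩ := rels
  have hb : φ ub (φ ua w) = φ ua (φ ua w) := by
    rw [← MulAut.mul_apply, ← map_mul, hrel, map_mul, map_mul, MulAut.mul_apply, MulAut.mul_apply, hs]
  have e1 := prod_three φ hfix a3 a1 w
  have e2 := prod_three φ hfix b3 b1 (φ ua w)
  rw [hb] at e2
  have e3 : φ ub (φ ua (φ ua w)) = w := by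
    refine mul_left_cancel (a := φ ua w * φ ua (φ ua w)) ?_
    rw [e2, ← e1]
    ac_rfl
  refine hfix _ g3 g1 w ?_
  rw [map_mul, map_mul, map_mul, MulAut.mul_apply, MulAut.mul_apply, MulAut.mul_apply, hb, e3, hf]

include hV hfix in
theorem five_fixed {a : A5} (h5 : a ^ 5 = 1) (h1 : a ≠ 1) {v : V} (hv : φ a v = v) : v = 1 := by
  obtain ⟨x, k, hx⟩ := conj_five a h5 h1
  have hk : ∀ n : ℕ, φ (a ^ n) v = v := fun n => by
    induction n with
    | zero => rw [pow_zero, map_one]; rfl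
    | succ n ih => rw [pow_succ, map_mul, MulAut.mul_apply, hv, ih]
  set w := φ x⁻¹ v with hw
  suffices w = 1 by
    have := congrArg (φ x) this
    rwa [hw, ← MulAut.mul_apply, ← map_mul, mul_inv_cancel, map_one, MulAut.one_apply, map_one] at this
  have hf : φ ff w = w := by
    rw [hw, ← MulAut.mul_apply, ← map_mul,
      show ff * x⁻¹ = x⁻¹ * a ^ (k : ℕ) by rw [← hx]; group, map_mul, MulAut.mul_apply, hk]
  obtain ⟨hsf, hs2, -⟩ := rels
  have hf' : φ ff (φ ss w) = φ ss w := by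
    have h2 : φ ff⁻¹ w = w := by
      conv_lhs => rw [← hf]
      rw [← MulAut.mul_apply, ← map_mul, inv_mul_cancel, map_one]
      rfl
    rw [← MulAut.mul_apply, ← map_mul,
      show ff * ss = ss * ff⁻¹ by
        rw [← hsf, show ss * (ss * ff * ss⁻¹) = (ss * ss) * ff * ss⁻¹ by group, hs2, one_mul,
          inv_eq_of_mul_eq_one_right hs2],
      map_mul, MulAut.mul_apply, h2]
  have hsum : w * φ ss w = 1 := by
    refine dihedral_fixed φ hfix (by rw [map_mul, hf, hf']) ?_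
    have hss : φ ss (φ ss w) = w := by
      show (φ ss * φ ss) w = w
      rw [← map_mul, hs2, map_one, MulAut.one_apply]
    rw [map_mul, hss, mul_comm]
  refine dihedral_fixed φ hfix hf ?_
  rw [← mul_eq_one_iff_inv_eq.1 hsum, inv_eq_of_mul_eq_one_right (hV w)]

include hV hfix in
theorem card_mod_five [Finite V] : Nat.card V % 5 = 1 := by
  classical
  haveI : Fact (Nat.Prime 5) := ⟨by norm_num⟩
  haveI := Fintype.ofFinite V
  have hff : ff ^ 5 = 1 ∧ ff ≠ 1 := by decide +kernel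
  let f : Function.End V := fun v => φ ff v
  have hf : f ^ 5 ^ 1 = 1 := by
    funext v
    show φ ff (φ ff (φ ff (φ ff (φ ff v)))) = v
    simp only [← MulAut.mul_apply, ← map_mul]
    rw [show ff * (ff * (ff * (ff * ff))) = 1 by rw [← hff.1]; simp [pow_succ, mul_assoc], map_one]
    rfl
  have := Equiv.Perm.card_fixedPoints_modEq (p := 5) (n := 1) hf
  have h1 : Fintype.card (Function.fixedPoints f) = 1 := by
    refine Fintype.card_eq_one_iff.2 ⟨⟨1, map_one (φ ff)⟩, fun q => ?_⟩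
    exact Subtype.ext (five_fixed φ hV hfix hff.1 hff.2 q.2)
  rw [h1, Fintype.card_eq_nat_card] at this
  exact this

include hV hfix in
theorem transitive [Finite V] (h16 : Nat.card V = 16) {v w : V} (hv : v ≠ 1) (hw : w ≠ 1) :
    ∃ g, φ g v = w := by
  classical
  letI : MulAction A5 V := MulAction.compHom V φ
  have hsm : ∀ (g : A5) (x : V), g • x = φ g x := fun _ _ => rfl
  have hsub : MulAction.orbit A5 v ⊆ ({1}ᶜ : Set V) := by
    rintro _ ⟨g, rfl⟩ h1
    exact hv ((MulEquiv.map_eq_one_iff (φ g)).1 h1)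
  have h15 : ({1}ᶜ : Set V).ncard = 15 := by
    rw [Set.ncard_compl, Set.ncard_singleton, h16]
  set St := MulAction.stabilizer A5 v
  have hd : Nat.card St ∣ 4 := by
    have h60 : Nat.card St ∣ 4 * 15 := by
      refine (Subgroup.card_subgroup_dvd_card St).trans ?_
      rw [card_A5]
    have hp : ∀ p : ℕ, p.Prime → (∀ g : A5, g ^ p = 1 → g ≠ 1 → φ g v ≠ v) → Nat.Coprime (Nat.card St) p := by
      intro p hp hno
      refine (hp.coprime_iff_not_dvd.2 fun hdvd => ?_).symm
      haveI : Fact p.Prime := ⟨hp⟩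
      obtain ⟨⟨g, hg⟩, hgo⟩ := exists_prime_orderOf_dvd_card' (G := St) p hdvd
      rw [Subgroup.orderOf_mk] at hgo
      exact hno g (hgo ▸ pow_orderOf_eq_one g)
        (fun e => by rw [e, orderOf_one] at hgo; exact hp.one_lt.ne hgo) hg
    exact (Nat.Coprime.mul_right
      (hp 3 Nat.prime_three fun g h3 h1 h => hv (hfix g h3 h1 v h))
      (hp 5 (by norm_num) fun g h5 h1 h => hv (five_fixed φ hV hfix h5 h1 h))).dvd_of_dvd_mul_right h60
  have hidx : 15 ≤ (MulAction.orbit A5 v).ncard := by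
    rw [← MulAction.index_stabilizer]
    have h := St.card_mul_index
    rw [card_A5] at h
    have h4 := Nat.le_of_dvd (by norm_num) hd
    nlinarith
  have heq := Set.eq_of_subset_of_ncard_le hsub (h15 ▸ hidx)
  obtain ⟨g, hg⟩ : w ∈ MulAction.orbit A5 v := heq ▸ hw
  exact ⟨g, hg⟩

include hfix in
theorem faithful [Nontrivial V] {a : A5} (ha : ∀ v, φ a v = v) : a = 1 := by
  by_contra h1
  haveI : IsSimpleGroup A5 := alternatingGroup.isSimpleGroup_five
  have hk : φ.ker = ⊤ := (IsSimpleGroup.eq_bot_or_eq_top_of_normal φ.ker inferInstance).resolve_left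
    fun hb => h1 (Subgroup.mem_bot.1 (hb ▸ MonoidHom.mem_ker.2 (MulEquiv.ext ha)))
  obtain ⟨v, hv⟩ := exists_ne (1 : V)
  obtain ⟨-, -, a3, a1, -⟩ := rels
  refine hv (hfix ua a3 a1 v ?_)
  rw [MonoidHom.mem_ker.1 (hk ▸ Subgroup.mem_top ua)]
  rfl

include hfix in
/-- An involution fixes at most a square root. -/
theorem invol_bound [Finite V] {a : A5} (h2 : a * a = 1) (h1 : a ≠ 1) {D : Subgroup V}
    (hD : ∀ x ∈ D, φ a x = x) : Nat.card D ^ 2 ≤ Nat.card V := by
  obtain ⟨x, hx⟩ := conj_two a h2 h1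
  obtain ⟨b₀, b3, b1, hb⟩ := inverter
  set b := x * b₀ * x⁻¹ with hbdef
  have hb3 : b ^ 3 = 1 := by rw [hbdef, conj_pow, b3, mul_one, mul_inv_cancel]
  have hb1 : b ≠ 1 := fun e => b1 (conj_eq_one_iff.1 e)
  have hab : a * b = b⁻¹ * a := by
    refine mul_inv_eq_iff_eq_mul.1 ?_
    rw [← hx, hbdef, show x * ss * x⁻¹ * (x * b₀ * x⁻¹) * (x * ss * x⁻¹)⁻¹ =
      x * (ss * b₀ * ss⁻¹) * x⁻¹ by group, hb]
    group
  rw [pow_two, ← Nat.card_prod]
  refine Nat.card_le_card_of_injective (fun p => (p.1 : V) * φ b p.2) ?_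
  rintro ⟨p, q⟩ ⟨p', q'⟩ e
  change (p : V) * φ b q = (p' : V) * φ b q' at e
  set r : V := (q : V) / (q' : V) with hr
  have hrD : r ∈ D := div_mem q.2 q'.2
  have hbr : φ b r ∈ D := by
    have : φ b r = (p' : V) / (p : V) := by
      rw [hr, map_div, div_eq_div_iff_mul_eq_mul, mul_comm, e]
    rw [this]
    exact div_mem p'.2 p.2
  have h4 : φ b (φ b r) = r := by
    have h5 : φ b⁻¹ r = φ b r := by
      conv_lhs => rw [← hD r hrD]
      rw [← MulAut.mul_apply, ← map_mul, ← hab, map_mul, MulAut.mul_apply, hD _ hbr]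
    conv_lhs => rw [← h5]
    rw [← MulAut.mul_apply, ← map_mul, mul_inv_cancel, map_one]
    rfl
  have h6 : r = 1 := hfix b hb3 hb1 r (by
    have h7 : φ b (φ b (φ b r)) = r := by
      rw [← MulAut.mul_apply, ← MulAut.mul_apply, ← map_mul, ← map_mul,
        show b * b * b = 1 by rw [← hb3, pow_three, mul_assoc], map_one]
      rfl
    rwa [h4] at h7)
  have h8 : (q : V) = q' := div_eq_one.1 h6
  rw [h8] at e
  exact Prod.ext (Subtype.ext (mul_right_cancel e)) (Subtype.ext h8)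

end Cfsg.Agent.SixCent.FiveMod
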