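import Cfsg.Agent.Lib.SixCent.Two
import Cfsg.Agent.Lib.SixCent.FiveMod

/-!
A centraliser of an involution which is an extension of a 2-group by the alternating group of degree five.
-/

set_option autoImplicit false
set_option linter.style.haveILetI false
set_option linter.unusedSectionVars false

open scoped commutatorElement
open Subgroup

namespace Cfsg.Agent.SixCent

universe v

variable {G : Type v} [Group G]

/-- The data of a centraliser of the involution `t` that is not solvable. -/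
structure Five (t : G) where
  /-- An element of order 3. -/
  u : G
  u_ord : orderOf u = 3
  u_mem : u ∈ CC t
  u_self : ∀ g ∈ CC t, Commute g u → ∃ a ∈ zpowers t, ∃ b ∈ zpowers u, g = a * b
  /-- The maximal normal 2-subgroup. -/
  N : Subgroup G
  /-- The map onto the alternating group. -/
  Φ : CC t →* FiveMod.A5
  surj : Function.Surjective Φ
  mem : ∀ g : G, g ∈ N ↔ ∃ hg : g ∈ CC t, Φ ⟨g, hg⟩ = 1
  T_le : zpowers t ≤ N
  sq : ∀ x ∈ N, x * x ∈ zpowers t
  comm : ∀ x ∈ N, ∀ y ∈ N, ⁅x, y⁆ ∈ zpowers t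
  fixed : ∀ x ∈ N, ⁅u, x⁆ ∈ zpowers t → x ∈ zpowers t

theorem sq_of_mem_zt {t a : G} (ht : orderOf t = 2) (ha : a ∈ zpowers t) : a * a = 1 := by
  rcases mem_zpowers_two ht ha with e | e <;> rw [e]
  · exact one_mul 1
  · exact sq_eq_one_of_invol ht

variable [Finite G]

/-- The second shape of `S3331` gives these data. -/
theorem five_of_alt {t u : G} (ht : orderOf t = 2) (hu : orderOf u = 3) (hut : Commute u t)
    (hs : ∀ g, Commute g t → Commute g u → ∃ a ∈ zpowers t, ∃ b ∈ zpowers u, g = a * b)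
    (Nb : Subgroup (Bar t)) [Nb.Normal] (hc : IsMulCommutative Nb) (h2 : ∀ n ∈ Nb, n ^ 2 = 1)
    (e : Bar t ⧸ Nb ≃* FiveMod.A5) : Nonempty (Five t) := by
  let Φ : CC t →* FiveMod.A5 := e.toMonoidHom.comp ((QuotientGroup.mk' Nb).comp (bar t))
  have hΦ : ∀ {x : CC t}, Φ x = 1 ↔ bar t x ∈ Nb := fun {x} =>
    (EmbeddingLike.map_eq_one_iff (f := e)).trans (QuotientGroup.eq_one_iff _)
  set N : Subgroup G := (Nb.comap (bar t)).map (CC t).subtype with hN
  obtain ⟨hord, hself⟩ := bar_self ht hu hut hs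
  refine ⟨{
    u := u
    u_ord := hu
    u_mem := mem_CC.2 hut
    u_self := fun g hg hgu => hs g (mem_CC.1 hg) hgu
    N := N
    Φ := Φ
    surj := e.surjective.comp ((QuotientGroup.mk'_surjective Nb).comp (QuotientGroup.mk'_surjective _))
    mem := fun g => ⟨fun ⟨x, hx, hxg⟩ => hxg ▸ ⟨x.2, hΦ.2 hx⟩, fun ⟨hg, h⟩ => ⟨⟨g, hg⟩, hΦ.1 h, rfl⟩⟩
    T_le := fun a ha => ⟨⟨a, zpowers_le.2 (mem_CC.2 (Commute.refl t)) ha⟩, by
      rw [SetLike.mem_coe, mem_comap, bar_eq_one.2 ha]; exact one_mem _, rfl⟩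
    sq := ?_
    comm := ?_
    fixed := ?_ }⟩
  · rintro _ ⟨x, hx, rfl⟩
    have h1 : bar t (x * x) = 1 := by rw [map_mul, ← pow_two]; exact h2 _ hx
    exact bar_eq_one.1 h1
  · rintro _ ⟨x, hx, rfl⟩ _ ⟨y, hy, rfl⟩
    have h1 : bar t ⁅x, y⁆ = 1 := by
      rw [map_commutatorElement, commutatorElement_eq_one_iff_mul_comm]
      exact congrArg Subtype.val (hc.is_comm.comm ⟨_, hx⟩ ⟨_, hy⟩)
    exact bar_eq_one.1 h1
  · rintro _ ⟨x, hx, rfl⟩ hcm
    let U : CC t := ⟨u, mem_CC.2 hut⟩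
    have h1 : Commute (bar t U) (bar t x) := by
      rw [← commutatorElement_eq_one_iff_commute, ← map_commutatorElement]
      exact bar_eq_one.2 hcm
    have h3 : bar t x ∈ zpowers (bar t U) := by
      rw [← hself]
      exact mem_centralizer_singleton_iff.2 h1.symm.eq
    refine bar_eq_one.1 (orderOf_eq_one_iff.1 (Nat.dvd_one.1 ?_))
    have d3 : orderOf (bar t x) ∣ 3 := hord ▸ orderOf_dvd_of_mem_zpowers h3
    have d2 : orderOf (bar t x) ∣ 2 := orderOf_dvd_of_pow_eq_one (h2 _ hx)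
    exact (show Nat.gcd 2 3 = 1 by rfl) ▸ Nat.dvd_gcd d2 d3

namespace Five

variable {t : G} (d : Five t) (ht : orderOf t = 2)

theorem N_le : d.N ≤ CC t := fun g hg => ((d.mem g).1 hg).1

theorem phi_one {x : CC t} : d.Φ x = 1 ↔ (x : G) ∈ d.N :=
  ⟨fun h => (d.mem _).2 ⟨x.2, h⟩, fun h => ((d.mem _).1 h).2⟩

theorem normN {g : G} (hg : g ∈ CC t) {x : G} (hx : x ∈ d.N) : g * x * g⁻¹ ∈ d.N := by
  let X : CC t := ⟨x, d.N_le hx⟩
  have h : d.Φ (⟨g, hg⟩ * X * (⟨g, hg⟩ : CC t)⁻¹) = 1 := by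
    rw [map_mul, map_mul, map_inv, d.phi_one.2 (show (X : G) ∈ d.N from hx), mul_one, mul_inv_cancel]
  exact d.phi_one.1 h

theorem cc_le_norm : CC t ≤ normalizer (d.N : Set G) := Sol.norm_of_conj fun _ hg _ => d.normN hg

include ht in
theorem two : IsPGroup 2 d.N := fun x => ⟨2, Subtype.ext (by
  show (x : G) ^ 4 = 1
  rw [show 4 = 2 * 2 from rfl, pow_mul, pow_two, pow_two (x : G)]
  exact sq_of_mem_zt ht (d.sq x x.2))⟩

theorem u_cube : d.u ^ 3 = 1 := by rw [← d.u_ord]; exact pow_orderOf_eq_one _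

include ht in
theorem u_notin : d.u ∉ d.N := fun h => by
  obtain ⟨k, hk⟩ := orderOf_two_pow (d.two ht) h
  rw [d.u_ord] at hk
  rcases k with _ | k
  · norm_num at hk
  · rw [pow_succ] at hk; omega

include ht in
theorem phi_u : d.Φ ⟨d.u, d.u_mem⟩ ^ 3 = 1 ∧ d.Φ ⟨d.u, d.u_mem⟩ ≠ 1 := by
  refine ⟨?_, fun h => d.u_notin ht (d.phi_one.1 h)⟩
  rw [← map_pow, show (⟨d.u, d.u_mem⟩ : CC t) ^ 3 = 1 from Subtype.ext d.u_cube, map_one]

theorem fpfN : FpfMod d.u (zpowers t) d.N where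
  cube := d.u_cube
  le := d.T_le
  conj _ := d.normN d.u_mem
  conjM _ := Sol.conj_mem_zt d.u_mem
  norm := Sol.norm_of_conj fun _ hg _ => Sol.conj_mem_zt (d.N_le hg)
  fixed := d.fixed

/-- Every element of order 3 of the quotient is a conjugate of the image of `u`. -/
theorem exists_conj_u (ht : orderOf t = 2) {a : FiveMod.A5} (h3 : a ^ 3 = 1) (h1 : a ≠ 1) :
    ∃ k : CC t, d.Φ (k * ⟨d.u, d.u_mem⟩ * k⁻¹) = a := by
  obtain ⟨x, hx⟩ := FiveMod.conj_three a h3 h1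
  obtain ⟨y, hy⟩ := FiveMod.conj_three _ (d.phi_u ht).1 (d.phi_u ht).2
  obtain ⟨k, hk⟩ := d.surj (x * y⁻¹)
  refine ⟨k, ?_⟩
  rw [map_mul, map_mul, map_inv, hk, ← hy, ← hx]
  group

include ht in
/-- The action on `N` modulo an invariant subgroup. -/
theorem exists_module (M : Subgroup G) (hTM : zpowers t ≤ M) (hMN : M ≤ d.N)
    (hM : ∀ g ∈ CC t, ∀ x ∈ M, g * x * g⁻¹ ∈ M) :
    ∃ (V : Type v) (_ : CommGroup V) (_ : Finite V) (φ : FiveMod.A5 →* MulAut V) (π : d.N →* V),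
      Function.Surjective π ∧ (∀ x : d.N, π x = 1 ↔ (x : G) ∈ M) ∧ (∀ v : V, v * v = 1) ∧
      (∀ a : FiveMod.A5, a ^ 3 = 1 → a ≠ 1 → ∀ v, φ a v = v → v = 1) ∧
      (∀ (g : CC t) (x : d.N), φ (d.Φ g) (π x) = π ⟨(g : G) * x * (g : G)⁻¹, d.normN g.2 x.2⟩) ∧
      Nat.card V * Nat.card M = Nat.card d.N := by
  set M' : Subgroup (CC t) := M.subgroupOf (CC t) with hM'
  haveI : M'.Normal := ⟨fun x hx g => mem_subgroupOf.2 (hM g g.2 x hx)⟩
  set N' : Subgroup (CC t) := d.N.subgroupOf (CC t) with hN'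
  haveI : N'.Normal := ⟨fun x hx g => mem_subgroupOf.2 (d.normN g.2 hx)⟩
  set V₀ : Subgroup (CC t ⧸ M') := N'.map (QuotientGroup.mk' M') with hV₀
  haveI : V₀.Normal := Subgroup.Normal.map inferInstance _ (QuotientGroup.mk'_surjective M')
  let π : d.N →* V₀ :=
    { toFun := fun x => ⟨QuotientGroup.mk' M' ⟨x, d.N_le x.2⟩, mem_map_of_mem _ (mem_subgroupOf.2 x.2)⟩
      map_one' := Subtype.ext (map_one _)
      map_mul' := fun x y => Subtype.ext (map_mul (QuotientGroup.mk' M')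
        (⟨x, d.N_le x.2⟩ : CC t) ⟨y, d.N_le y.2⟩) }
  have hπ1 : ∀ x : d.N, π x = 1 ↔ (x : G) ∈ M := fun x =>
    ⟨fun h => mem_subgroupOf.1
      ((QuotientGroup.eq_one_iff (⟨x, d.N_le x.2⟩ : CC t)).1 (congrArg Subtype.val h)),
      fun h => Subtype.ext ((QuotientGroup.eq_one_iff _).2 (mem_subgroupOf.2 h))⟩
  have hsurj : Function.Surjective π := by
    rintro ⟨_, x, hx, rfl⟩
    exact ⟨⟨x, mem_subgroupOf.1 hx⟩, rfl⟩
  have hsq : ∀ v : V₀, v * v = 1 := fun v => by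
    obtain ⟨x, rfl⟩ := hsurj v
    rw [← map_mul]
    exact (hπ1 _).2 (hTM (d.sq x x.2))
  letI : CommGroup V₀ :=
    { (inferInstance : Group V₀) with
      mul_comm := fun a b => by
        have e1 : a⁻¹ = a := inv_eq_of_mul_eq_one_right (hsq a)
        have e2 : b⁻¹ = b := inv_eq_of_mul_eq_one_right (hsq b)
        have e3 : (a * b)⁻¹ = a * b := inv_eq_of_mul_eq_one_right (hsq _)
        rw [mul_inv_rev, e1, e2] at e3
        exact e3.symm }
  let ρ : CC t →* MulAut V₀ := MulAut.conjNormal.comp (QuotientGroup.mk' M')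
  have hρ : ∀ (g : CC t) (x : d.N), ρ g (π x) = π ⟨(g : G) * x * (g : G)⁻¹, d.normN g.2 x.2⟩ :=
    fun g x => Subtype.ext (by
      show QuotientGroup.mk' M' g * QuotientGroup.mk' M' ⟨x, d.N_le x.2⟩ * (QuotientGroup.mk' M' g)⁻¹ = _
      rw [← map_inv, ← map_mul, ← map_mul]
      rfl)
  have hker : d.Φ.ker ≤ ρ.ker := by
    intro g hg
    have hgN : (g : G) ∈ d.N := d.phi_one.1 hg
    refine MonoidHom.mem_ker.2 (MulEquiv.ext fun v => ?_)
    obtain ⟨x, rfl⟩ := hsurj v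
    rw [hρ, MulAut.one_apply, ← mul_inv_eq_one, ← map_inv, ← map_mul, hπ1]
    push_cast
    rw [← commutatorElement_def]
    exact hTM (d.comm _ hgN _ x.2)
  let φ : FiveMod.A5 →* MulAut V₀ := d.Φ.liftOfSurjective d.surj ⟨ρ, hker⟩
  have hφ : ∀ g, φ (d.Φ g) = ρ g := fun g =>
    d.Φ.liftOfRightInverse_comp_apply (Function.surjInv d.surj)
      (Function.rightInverse_surjInv d.surj) ⟨ρ, hker⟩ g
  have heq : ∀ (g : CC t) (x : d.N),
      φ (d.Φ g) (π x) = π ⟨(g : G) * x * (g : G)⁻¹, d.normN g.2 x.2⟩ := fun g x => by rw [hφ]; exact hρ g x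
  refine ⟨V₀, inferInstance, inferInstance, φ, π, hsurj, hπ1, hsq, fun a h3 h1 v hv => ?_, heq, ?_⟩
  · obtain ⟨k, hk⟩ := d.exists_conj_u ht h3 h1
    obtain ⟨x, rfl⟩ := hsurj v
    set x' : d.N := ⟨(k : G)⁻¹ * x * k, by simpa using d.normN (inv_mem k.2) x.2⟩ with hx'
    have e0 : π x = φ (d.Φ k) (π x') := by
      rw [heq]; congr 1; exact Subtype.ext (by simp only [hx']; group)
    have e1 : φ (d.Φ ⟨d.u, d.u_mem⟩) (π x') = π x' := by
      refine (φ (d.Φ k)).injective ?_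
      rw [← e0, ← MulAut.mul_apply, ← map_mul,
        show d.Φ k * d.Φ ⟨d.u, d.u_mem⟩ = a * d.Φ k by
          rw [← hk, map_mul, map_mul, map_inv, inv_mul_cancel_right],
        map_mul, MulAut.mul_apply, ← e0, hv]
    rw [heq, ← mul_inv_eq_one, ← map_inv, ← map_mul, hπ1] at e1
    push_cast at e1
    have hup := d.fpfN.up hTM hMN (hM _ d.u_mem) (Sol.norm_of_conj fun g hg => hM g (d.N_le hg))
    have hx'M : (x' : G) ∈ M := hup.fixed _ x'.2 (by rw [commutatorElement_def]; exact e1)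
    rw [e0, (hπ1 x').2 hx'M, map_one]
  · have hk : π.ker = M.subgroupOf d.N := by
      ext x
      exact (hπ1 x)
    have h := π.ker.card_mul_index
    rw [index_ker, MonoidHom.range_eq_top.2 hsurj, card_top, hk,
      Nat.card_congr (subgroupOfEquivOfLe hMN).toEquiv] at h
    rw [mul_comm, h]

theorem card_C : Nat.card (CC t) = 60 * Nat.card d.N := by
  have hk : d.Φ.ker = d.N.subgroupOf (CC t) := by
    ext x
    exact d.phi_one
  have h := d.Φ.ker.card_mul_index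
  rw [index_ker, MonoidHom.range_eq_top.2 d.surj, card_top, FiveMod.card_A5, hk,
    Nat.card_congr (subgroupOfEquivOfLe d.N_le).toEquiv] at h
  rw [← h, mul_comm]

/-- A 2-subgroup meets `N` in a subgroup of index at most four. -/
theorem card_le_four_mul {P : Subgroup G} (hP : IsPGroup 2 P) (hPC : P ≤ CC t) :
    Nat.card P ≤ 4 * Nat.card ↥(P ⊓ d.N) := by
  haveI : Fact (Nat.Prime 2) := ⟨Nat.prime_two⟩
  let f : P →* FiveMod.A5 := d.Φ.comp (inclusion hPC)
  have hk : f.ker = (P ⊓ d.N).subgroupOf P := by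
    ext x
    rw [mem_subgroupOf, MonoidHom.mem_ker]
    exact ⟨fun h => ⟨x.2, d.phi_one.1 h⟩, fun h => d.phi_one.2 h.2⟩
  have hr : Nat.card f.range ≤ 4 := by
    have h2 : IsPGroup 2 f.range := hP.of_surjective f.rangeRestrict f.rangeRestrict_surjective
    obtain ⟨i, hi⟩ := h2.exists_card_eq
    have h60 := card_subgroup_dvd_card f.range
    rw [hi, FiveMod.card_A5] at h60
    rw [hi]
    have hi2 : i ≤ 2 := by
      by_contra hlt
      have h8 := (pow_dvd_pow 2 (show 3 ≤ i by omega)).trans h60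
      norm_num at h8
    exact le_trans (Nat.pow_le_pow_right (by norm_num) hi2) (by norm_num)
  have h := f.ker.card_mul_index
  rw [index_ker, hk, Nat.card_congr (subgroupOfEquivOfLe inf_le_left).toEquiv] at h
  rw [← h, mul_comm 4]
  exact Nat.mul_le_mul_left _ hr

variable (S : Sylow 2 G) (hS : (S : Subgroup G) ≤ CC t)

include ht hS in
theorem N_le_sylow : d.N ≤ (S : Subgroup G) := by
  have h1 : IsPGroup 2 (d.N ⊔ (S : Subgroup G) : Subgroup G) :=
    (d.two ht).to_sup_of_normal_left' S.isPGroup' (hS.trans d.cc_le_norm)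
  exact (S.is_maximal' h1 le_sup_right) ▸ le_sup_left

include ht hS in
theorem card_sylow : Nat.card (S : Subgroup G) = 4 * Nat.card d.N := by
  haveI : Fact (Nat.Prime 2) := ⟨Nat.prime_two⟩
  obtain ⟨i, hi⟩ := (d.two ht).exists_card_eq
  have h1 : 2 ^ (i + 2) ∣ Nat.card G := by
    refine Dvd.dvd.trans ?_ (card_subgroup_dvd_card (CC t))
    rw [d.card_C, hi]
    exact ⟨15, by ring⟩
  have h2 := S.pow_dvd_card_of_pow_dvd_card h1
  obtain ⟨j, hj⟩ := S.isPGroup'.exists_card_eq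
  have h3 : Nat.card (S : Subgroup G) ∣ 60 * Nat.card d.N := d.card_C ▸ card_dvd_of_le hS
  rw [hi, show 60 * 2 ^ i = 15 * 2 ^ (i + 2) by ring, hj] at h3
  have h4 : 2 ^ j ∣ 2 ^ (i + 2) :=
    (Nat.Coprime.pow_left j (by norm_num : Nat.Coprime 2 15)).dvd_of_dvd_mul_left h3
  rw [show 4 * Nat.card d.N = 2 ^ (i + 2) by rw [hi]; ring]
  rw [hj] at h2 ⊢
  exact Nat.dvd_antisymm h4 h2

include ht in
/-- The bound on the elements centralised modulo `⟨t⟩` by a 2-element outside `N`. -/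
theorem outside_bound {y : G} (hy : y ∈ CC t) (h2 : ∃ k : ℕ, orderOf y = 2 ^ k) (hy0 : y ∉ d.N)
    {D : Subgroup G} (hTD : zpowers t ≤ D) (hD : D ≤ d.N) (hyD : ∀ r ∈ D, ⁅y, r⁆ ∈ zpowers t) :
    Nat.card D ^ 2 ≤ 2 * Nat.card d.N := by
  obtain ⟨V, _, _, φ, π, hsurj, hπ1, hV, hfix, heq, hcard⟩ :=
    d.exists_module ht _ le_rfl d.T_le (fun _ hg _ => Sol.conj_mem_zt hg)
  set a := d.Φ ⟨y, hy⟩ with ha
  have ha1 : a ≠ 1 := fun h => hy0 (d.phi_one.1 h)
  have ha2 : a * a = 1 := by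
    refine FiveMod.four_check a (orderOf_dvd_iff_pow_eq_one.1 ?_)
    obtain ⟨k, hk⟩ := h2
    obtain ⟨i, -, hi⟩ := (Nat.dvd_prime_pow Nat.prime_two).1
      ((orderOf_map_dvd d.Φ ⟨y, hy⟩).trans (by rw [Subgroup.orderOf_mk, hk]))
    have h60 : 2 ^ i ∣ 60 := by
      rw [← FiveMod.card_A5, ← hi]
      exact orderOf_dvd_natCard _
    rw [ha, hi]
    have hi2 : i ≤ 2 := by
      by_contra hlt
      have h8 := (pow_dvd_pow 2 (show 3 ≤ i by omega)).trans h60
      norm_num at h8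
    exact pow_dvd_pow 2 hi2
  set Dv : Subgroup V := (D.subgroupOf d.N).map π with hDv
  have hbd : Nat.card Dv ^ 2 ≤ Nat.card V := by
    refine FiveMod.invol_bound φ hfix ha2 ha1 ?_
    rintro _ ⟨x, hx, rfl⟩
    rw [ha, heq, ← mul_inv_eq_one, ← map_inv, ← map_mul, hπ1]
    push_cast
    rw [← commutatorElement_def]
    exact hyD _ (mem_subgroupOf.1 hx)
  have hDc : Nat.card D = 2 * Nat.card Dv := by
    let f : D →* V := π.comp (inclusion hD)
    have hr : f.range = Dv := by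
      ext v
      exact ⟨fun ⟨x, hx⟩ => ⟨inclusion hD x, x.2, hx⟩, fun ⟨x, hx, hv⟩ => ⟨⟨x, hx⟩, hv⟩⟩
    have hk : f.ker = (zpowers t).subgroupOf D := by
      ext x
      exact hπ1 _
    have h := f.ker.card_mul_index
    rw [index_ker, hr, hk, Nat.card_congr (subgroupOfEquivOfLe hTD).toEquiv, Sol.card_T ht] at h
    exact h.symm
  rw [Sol.card_T ht] at hcard
  rw [hDc, ← hcard]
  nlinarith

include ht in
theorem card_mod_five {M : Subgroup G} (hTM : zpowers t ≤ M) (hMN : M ≤ d.N)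
    (hM : ∀ g ∈ CC t, ∀ x ∈ M, g * x * g⁻¹ ∈ M) :
    ∃ k, Nat.card d.N = k * Nat.card M ∧ k % 5 = 1 := by
  obtain ⟨V, _, _, φ, π, hsurj, hπ1, hV, hfix, heq, hcard⟩ := d.exists_module ht M hTM hMN hM
  exact ⟨Nat.card V, hcard.symm, FiveMod.card_mod_five φ hV hfix⟩

include ht in
/-- If `N` is not `⟨t⟩`, it has order at least 32. -/
theorem thirtytwo_le (hne : d.N ≠ zpowers t) : 32 ≤ Nat.card d.N := by
  obtain ⟨k, hk, hk5⟩ := d.card_mod_five ht le_rfl d.T_le (fun _ hg _ => Sol.conj_mem_zt hg)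
  rw [Sol.card_T ht] at hk
  obtain ⟨i, hi⟩ := (d.two ht).exists_card_eq
  have hk1 : k ≠ 1 := fun h => hne (eq_of_le_of_card_ge d.T_le (by rw [hk, h, Sol.card_T ht])).symm
  rw [hi] at hk ⊢
  rcases i with _ | _ | _ | _ | _ | i
  all_goals first
    | (norm_num at hk; omega)
    | exact (show (2 : ℕ) ^ 5 ≤ _ from Nat.pow_le_pow_right (by norm_num) (by omega))

include ht in
/-- Central elements of `N` have order at most two. -/
theorem sq_of_central {z : G} (hz : z ∈ d.N) (hc : ∀ x ∈ d.N, Commute z x) : z * z = 1 := by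
  set z1 := d.u * z * d.u⁻¹ with hz1
  set z2 := d.u⁻¹ * z * d.u with hz2
  have hz1N : z1 ∈ d.N := d.normN d.u_mem hz
  have hz2N : z2 ∈ d.N := by simpa using d.normN (inv_mem d.u_mem) hz
  have hτ : z * z1 * z2 ∈ zpowers t := d.fpfN.prod_mem hz
  have hs : ∀ g ∈ CC t, g * (z * z) * g⁻¹ = z * z := fun g hg => by
    rw [(Sol.T_cent (d.sq z hz) hg).eq, mul_inv_cancel_right]
  have e1 : z1 * z1 = z * z := by
    rw [hz1, show d.u * z * d.u⁻¹ * (d.u * z * d.u⁻¹) = d.u * (z * z) * d.u⁻¹ by group, hs _ d.u_mem]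
  have e2 : z2 * z2 = z * z := by
    have h := hs _ (inv_mem d.u_mem)
    rw [inv_inv] at h
    rw [hz2, show d.u⁻¹ * z * d.u * (d.u⁻¹ * z * d.u) = d.u⁻¹ * (z * z) * d.u by group, h]
  have c3 : Commute z1 z2 := by
    have hc' : ∀ x ∈ d.N, Commute z1 x := fun x hx => by
      have h := (hc _ (show d.u⁻¹ * x * d.u ∈ d.N by simpa using d.normN (inv_mem d.u_mem) hx)).map
        (MulAut.conj d.u).toMonoidHom
      simpa [hz1, mul_assoc] using h
    exact hc' _ hz2N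
  have e3 : z * z1 * z2 * (z * z1 * z2) = (z * z) * (z1 * z1) * (z2 * z2) := by
    have := ((hc z1 hz1N).mul_right (hc z2 hz2N))
    rw [show z * z1 * z2 * (z * z1 * z2) = z * ((z1 * z2) * z) * (z1 * z2) by group, ← this.eq,
      show z * (z * (z1 * z2)) * (z1 * z2) = (z * z) * (z1 * (z2 * z1) * z2) by group, ← c3.eq]
    group
  rw [sq_of_mem_zt ht hτ, e1, e2, sq_of_mem_zt ht (d.sq z hz), one_mul] at e3
  exact e3.symm

end Five

end Cfsg.Agent.SixCent
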