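import Cfsg.Agent.Lib.SixCent.Five

/-!
The 2-radical of a non-solvable centraliser is elementary abelian.
-/

set_option autoImplicit false
set_option linter.style.haveILetI false
set_option linter.unusedSectionVars false

open scoped commutatorElement
open Subgroup

namespace Cfsg.Agent.SixCent

universe v

variable {G : Type v} [Group G] [Finite G]

namespace Five

variable {t : G} (d : Five t) (ht : orderOf t = 2)

include ht in
theorem comm_two {x y : G} (hx : x ∈ d.N) (hy : y ∈ d.N) : ⁅x, y⁆ = 1 ∨ ⁅x, y⁆ = t :=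
  mem_zpowers_two ht (d.comm x hx y hy)

include ht in
/-- An involution of `N` other than `t`. -/
theorem exists_invol (hne : d.N ≠ zpowers t) : ∃ v ∈ d.N, orderOf v = 2 ∧ v ∉ zpowers t := by
  have h32 := d.thirtytwo_le ht hne
  obtain ⟨x, hx, hxT⟩ := SetLike.not_le_iff_exists.1 fun hle : d.N ≤ zpowers t => by
    have := (card_le_of_le hle).trans_eq (Sol.card_T ht); omega
  have fin : ∀ v ∈ d.N, v * v = 1 → v ∉ zpowers t → ∃ v ∈ d.N, orderOf v = 2 ∧ v ∉ zpowers t :=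
    fun v hv h2 hvT => ⟨v, hv, orderOf_eq_two h2 fun e => hvT (e ▸ one_mem _), hvT⟩
  rcases mem_zpowers_two ht (d.sq x hx) with e | e
  · exact fin x hx e hxT
  have h1 : Nat.card d.N ≤ 2 * Nat.card ↥(d.N ⊓ CC x) :=
    card_le_two_cc fun y hy => d.comm_two ht hy hx
  have h2 : Nat.card ↥(zpowers t ⊔ zpowers x) ≤ 4 :=
    (card_sup_zpowers_le (fun y hy => Sol.conj_mem_zt (d.N_le hx) hy) (e ▸ mem_zpowers t)).trans
      (by rw [Sol.card_T ht])
  obtain ⟨y, ⟨hy, hyx⟩, hy'⟩ := SetLike.not_le_iff_exists.1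
    fun hle : d.N ⊓ CC x ≤ zpowers t ⊔ zpowers x => by
      have := card_le_of_le hle; omega
  have hyT : y ∉ zpowers t := fun hm => hy' (mem_sup_left hm)
  rcases mem_zpowers_two ht (d.sq y hy) with e' | e'
  · exact fin y hy e' hyT
  refine fin (x * y) (mul_mem hx hy) ?_ fun hm => hy' ?_
  · calc x * y * (x * y) = x * (y * x) * y := by group
      _ = (x * x) * (y * y) := by rw [(mem_CC.1 hyx).eq]; group
      _ = 1 := by rw [e, e', sq_eq_one_of_invol ht]
  · have h3 : x * y ∈ zpowers t ⊔ zpowers x := mem_sup_left hm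
    exact (mul_mem_cancel_left (mem_sup_right (mem_zpowers x))).1 h3

/-- The centre of `N`, as a subgroup of the group. -/
def Zn : Subgroup G := d.N ⊓ centralizer (d.N : Set G)

theorem mem_Zn {z : G} : z ∈ d.Zn ↔ z ∈ d.N ∧ ∀ x ∈ d.N, Commute z x := by
  rw [Zn, mem_inf, mem_centralizer_iff]
  exact and_congr_right fun _ => ⟨fun h x hx => (h x hx).symm, fun h x hx => (h x hx).eq.symm⟩

theorem T_le_Zn : zpowers t ≤ d.Zn := fun _ ha =>
  d.mem_Zn.2 ⟨d.T_le ha, fun _ hx => (Sol.T_cent ha (d.N_le hx)).symm⟩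

theorem Zn_normal {g : G} (hg : g ∈ CC t) {z : G} (hz : z ∈ d.Zn) : g * z * g⁻¹ ∈ d.Zn := by
  obtain ⟨h1, h2⟩ := d.mem_Zn.1 hz
  refine d.mem_Zn.2 ⟨d.normN hg h1, fun x hx => ?_⟩
  have hx' : g⁻¹ * x * g ∈ d.N := by simpa using d.normN (inv_mem hg) hx
  have := (h2 _ hx').map (MulAut.conj g).toMonoidHom
  simpa [mul_assoc] using this

include ht in
/-- A large elementary abelian subgroup. -/
theorem exists_elem (h : Hyp G) (hne : d.N ≠ zpowers t) :
    ∃ K ≤ d.N, Elem K ∧ Nat.card d.N ≤ 8 * Nat.card K := by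
  obtain ⟨v, hvN, hv, hvT⟩ := d.exists_invol ht hne
  obtain ⟨g, hg⟩ := isConj_iff.1 (h.one t v ht hv)
  set w := g⁻¹ * t * g with hw
  have hwo : orderOf w = 2 := by
    have := orderOf_conj g⁻¹ t
    rwa [inv_inv, ht] at this
  have hwT : w ∉ zpowers t := fun hm => by
    rcases mem_zpowers_two ht hm with e | e
    · exact ne_one_of_invol hwo e
    · refine hvT ?_
      have e2 : g * t * g⁻¹ = t := by
        calc g * t * g⁻¹ = g * w * g⁻¹ := by rw [e]
          _ = t := by rw [hw]; group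
      rw [← hg, e2]
      exact mem_zpowers t
  set Q := d.N ⊓ CC v
  have hQ : Nat.card d.N ≤ 2 * Nat.card Q := card_le_two_cc fun y hy => d.comm_two ht hy hvN
  set P := Q.map (MulAut.conj g⁻¹).toMonoidHom with hP
  have hPm : ∀ x ∈ P, x ∈ CC t ∧ g * x * g⁻¹ ∈ Q := by
    rintro _ ⟨a, ha, rfl⟩
    have h1 := (mem_CC.1 ha.2).map (MulAut.conj g⁻¹).toMonoidHom
    have ev : (MulAut.conj g⁻¹).toMonoidHom v = t := by
      show g⁻¹ * v * g⁻¹⁻¹ = t
      rw [← hg]; group
    rw [ev] at h1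
    refine ⟨mem_CC.2 h1, ?_⟩
    have e : g * (MulAut.conj g⁻¹).toMonoidHom a * g⁻¹ = a := by
      show g * (g⁻¹ * a * g⁻¹⁻¹) * g⁻¹ = a
      group
    rw [e]
    exact ha
  have hP2 : IsPGroup 2 P := ((d.two ht).to_le inf_le_left).map _
  have hP4 := d.card_le_four_mul hP2 fun x hx => (hPm x hx).1
  rw [hP, card_map_of_injective (MulAut.conj g⁻¹).injective, ← hP] at hP4
  refine ⟨(P ⊓ d.N).map (MulAut.conj g).toMonoidHom, ?_, ?_, ?_⟩
  · rintro _ ⟨x, hx, rfl⟩
    exact (hPm x hx.1).2.1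
  · rintro _ ⟨x, hx, rfl⟩
    have h1 : x * x ∈ zpowers t := d.sq x hx.2
    have h2 : x * x ∈ zpowers w := by
      obtain ⟨i, hi⟩ := mem_zpowers_iff.1 (d.sq _ (hPm x hx.1).2.1)
      refine mem_zpowers_iff.2 ⟨i, ?_⟩
      rw [hw, show g⁻¹ * t * g = g⁻¹ * t * g⁻¹⁻¹ by group, conj_zpow, hi]
      group
    show g * x * g⁻¹ * (g * x * g⁻¹) = 1
    rw [show g * x * g⁻¹ * (g * x * g⁻¹) = g * (x * x) * g⁻¹ by group,
      two_sets ht hwo hwT h1 h2]
    group
  · rw [card_map_of_injective (MulAut.conj g).injective]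
    omega

include ht in
/-- `N` modulo its centre is small. -/
theorem card_le_sixtyfour (h : Hyp G) (hne : d.N ≠ zpowers t) :
    Nat.card d.N ≤ 64 * Nat.card d.Zn := by
  obtain ⟨K, hKN, hKel, hK8⟩ := d.exists_elem ht h hne
  set A := K ⊔ d.Zn with hA
  have hZN : d.Zn ≤ d.N := inf_le_left
  have hAN : A ≤ d.N := sup_le hKN hZN
  have hAA : A ≤ centralizer (A : Set G) := by
    have hKZ : K ≤ centralizer (d.Zn : Set G) := fun k hk => mem_centralizer_iff.2 fun z hz =>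
      ((d.mem_Zn.1 hz).2 k (hKN hk)).eq
    have h1 : A ≤ centralizer (K : Set G) := sup_le hKel.self_cent (le_centralizer_iff.1 hKZ)
    have h2 : A ≤ centralizer (d.Zn : Set G) := sup_le hKZ fun z hz =>
      mem_centralizer_iff.2 fun z' hz' => ((d.mem_Zn.1 hz').2 z (hZN hz)).eq
    exact sup_le (le_centralizer_iff.1 h1) (le_centralizer_iff.1 h2)
  have key : ∀ k : ℕ, ∀ H : Subgroup G, A ≤ H → H ≤ d.N → Nat.card d.N ≤ 2 ^ k * Nat.card H →
      Nat.card ↥(A ⊓ centralizer (H : Set G)) ≤ 2 ^ k * Nat.card d.Zn := by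
    intro k
    induction k with
    | zero =>
      intro H _ hH hle
      rw [pow_zero, one_mul] at hle
      rw [pow_zero, one_mul, eq_of_le_of_card_ge hH hle]
      exact card_le_of_le (show A ⊓ centralizer (d.N : Set G) ≤ d.Zn from fun a ha => ⟨hAN ha.1, ha.2⟩)
    | succ k ih =>
      intro H hAH hH hle
      by_cases hHN : H = d.N
      · rw [hHN]
        exact (card_le_of_le (show A ⊓ centralizer (d.N : Set G) ≤ d.Zn from fun a ha => ⟨hAN ha.1, ha.2⟩)).trans
          (Nat.le_mul_of_pos_left _ (pow_pos (by norm_num) _))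
      obtain ⟨n, hn, hnH⟩ := SetLike.not_le_iff_exists.1 fun hle' : d.N ≤ H => hHN (le_antisymm hH hle')
      set H' := H ⊔ zpowers n
      have h2 : 2 * Nat.card H ≤ Nat.card H' := sup_double hnH
      have h3 := ih H' (hAH.trans le_sup_left) (sup_le hH (zpowers_le.2 hn)) (by
        calc Nat.card d.N ≤ 2 ^ (k + 1) * Nat.card H := hle
          _ = 2 ^ k * (2 * Nat.card H) := by ring
          _ ≤ _ := Nat.mul_le_mul_left _ h2)
      have h4 : Nat.card ↥(A ⊓ centralizer (H : Set G)) ≤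
          2 * Nat.card ↥(A ⊓ centralizer (H : Set G) ⊓ CC n) :=
        card_le_two_cc fun a ha => d.comm_two ht (hAN ha.1) hn
      have h5 : A ⊓ centralizer (H : Set G) ⊓ CC n ≤ A ⊓ centralizer (H' : Set G) := by
        rintro a ⟨⟨haA, haH⟩, han⟩
        refine ⟨haA, mem_centralizer_iff.2 fun b hb => ?_⟩
        have hle' : H' ≤ centralizer ({a} : Set G) :=
          sup_le (fun c hc => mem_centralizer_singleton_iff.2 (mem_centralizer_iff.1 haH c hc))
            (zpowers_le.2 (mem_centralizer_singleton_iff.2 (mem_CC.1 han).eq.symm))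
        exact mem_centralizer_singleton_iff.1 (hle' hb)
      have h6 := card_le_of_le h5
      rw [pow_succ]
      nlinarith
  have h8 := key 3 A le_rfl hAN (hK8.trans (Nat.mul_le_mul_left _ (card_le_of_le le_sup_left)))
  rw [inf_eq_left.2 hAA] at h8
  have h9 : Nat.card K ≤ Nat.card A := card_le_of_le le_sup_left
  omega

include ht in
/-- `N` is elementary abelian. -/
theorem elem (h : Hyp G) : Elem d.N := by
  by_cases hne : d.N = zpowers t
  · rw [hne]; exact fun a ha => sq_of_mem_zt ht ha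
  have hZN : d.Zn ≤ d.N := inf_le_left
  have hsqZ : ∀ z ∈ d.Zn, z * z = 1 := fun z hz =>
    d.sq_of_central ht (d.mem_Zn.1 hz).1 (d.mem_Zn.1 hz).2
  by_cases hall : d.N ≤ d.Zn
  · exact fun a ha => hsqZ a (hall ha)
  exfalso
  obtain ⟨V, _, _, φ, π, hsurj, hπ1, hV, hfix, heq, hcard⟩ :=
    d.exists_module ht d.Zn d.T_le_Zn hZN fun g hg x hx => d.Zn_normal hg hx
  have h5 := FiveMod.card_mod_five φ hV hfix
  have hk16 : Nat.card V = 16 := by
    have h64 := d.card_le_sixtyfour ht h hne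
    have hpos : 0 < Nat.card d.Zn := Nat.card_pos
    rw [← hcard] at h64
    have hk64 : Nat.card V ≤ 64 := Nat.le_of_mul_le_mul_right h64 hpos
    haveI : Fact (Nat.Prime 2) := ⟨Nat.prime_two⟩
    obtain ⟨i, hi⟩ := (d.two ht).exists_card_eq
    obtain ⟨j, -, hj⟩ := (Nat.dvd_prime_pow Nat.prime_two).1
      (Dvd.intro _ hcard |>.trans (hi ▸ dvd_rfl) : Nat.card V ∣ 2 ^ i)
    have h1 : Nat.card V ≠ 1 := fun e => hall (by
      rw [e, one_mul] at hcard
      exact (eq_of_le_of_card_ge hZN hcard.ge).ge)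
    rw [hj] at h5 hk64 h1 ⊢
    have hj6 : j ≤ 6 := (Nat.pow_le_pow_iff_right (a := 2) (by norm_num)).1 (hk64.trans_eq (by norm_num))
    interval_cases j <;> first | (norm_num at h5; done) | (norm_num at h1; done) | norm_num
  obtain ⟨a, ha, ha0⟩ := SetLike.not_le_iff_exists.1 hall
  have hconst : ∀ b ∈ d.N, b ∉ d.Zn → b * b = a * a := by
    intro b hb hb0
    obtain ⟨γ, hγ⟩ := FiveMod.transitive φ hV hfix hk16 (v := π ⟨a, ha⟩) (w := π ⟨b, hb⟩)
      (fun e => ha0 ((hπ1 _).1 e)) (fun e => hb0 ((hπ1 _).1 e))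
    obtain ⟨g, rfl⟩ := d.surj γ
    rw [heq] at hγ
    have hz := (hπ1 _).1 (show π (⟨(g : G) * a * (g : G)⁻¹, d.normN g.2 ha⟩⁻¹ * ⟨b, hb⟩) = 1 by
      rw [map_mul, map_inv, hγ, inv_mul_cancel])
    push_cast at hz
    set a' := (g : G) * a * (g : G)⁻¹ with ha'
    set z := a'⁻¹ * b
    have hbz : b = a' * z := (mul_inv_cancel_left a' b).symm
    have hcm : Commute a' z := ((d.mem_Zn.1 hz).2 a' (d.normN g.2 ha)).symm
    rw [hbz, ← pow_two, hcm.mul_pow, pow_two z, hsqZ z hz, mul_one, ha', conj_pow, pow_two,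
      (Sol.T_cent (d.sq a ha) g.2).eq, mul_inv_cancel_right]
  rcases mem_zpowers_two ht (d.sq a ha) with e | e
  · refine hall fun x hx => d.mem_Zn.2 ⟨hx, fun y hy => ?_⟩
    have hel : Elem d.N := fun r hr => by
      by_cases hr0 : r ∈ d.Zn
      · exact hsqZ r hr0
      · rw [hconst r hr hr0, e]
    exact hel.comm hx hy
  have hpair : ∀ p ∈ d.N, ∀ q ∈ d.N, p ∉ d.Zn → q ∉ d.Zn → p * q ∉ d.Zn → ⁅q, p⁆ = t := by
    intro p hp q hq hp0 hq0 hpq
    have hc : ⁅q, p⁆ ∈ zpowers t := d.comm q hq p hp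
    have h1 : p * q * (p * q) = ⁅q, p⁆ * ((p * p) * (q * q)) := by
      calc p * q * (p * q) = (p * ⁅q, p⁆) * p * q * q := by rw [commutatorElement_def]; group
        _ = (⁅q, p⁆ * p) * p * q * q := by rw [(Sol.T_cent hc (d.N_le hp)).eq]
        _ = _ := by group
    rw [hconst _ (mul_mem hp hq) hpq, hconst p hp hp0, hconst q hq hq0, e, sq_eq_one_of_invol ht,
      mul_one] at h1
    exact h1.symm
  have hstep : ∀ (H : Subgroup G) (x : G), d.Zn ≤ H → H ≤ d.N → x ∈ d.N →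
      Nat.card ↥(H ⊔ zpowers x) ≤ 2 * Nat.card H := fun H x hZH hHN hx =>
    card_sup_zpowers_le (fun y hy => by
      rw [show x * y * x⁻¹ = ⁅x, y⁆ * y by rw [commutatorElement_def]; group]
      exact mul_mem (hZH (d.T_le_Zn (d.comm x hx y (hHN hy)))) hy) (hZH (d.T_le_Zn (d.sq x hx)))
  set H1 := d.Zn ⊔ zpowers a with hH1
  have hH1N : H1 ≤ d.N := sup_le hZN (zpowers_le.2 ha)
  have hH1c : Nat.card H1 ≤ 2 * Nat.card d.Zn := hstep d.Zn a le_rfl hZN ha
  have hN16 : Nat.card d.N = 16 * Nat.card d.Zn := by rw [← hcard, hk16]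
  have hpos : 0 < Nat.card d.Zn := Nat.card_pos
  obtain ⟨b, hb, hb0⟩ := SetLike.not_le_iff_exists.1 fun hle : d.N ≤ H1 => by
    have := card_le_of_le hle
    omega
  set H2 := H1 ⊔ zpowers b with hH2
  have hH2c : Nat.card H2 ≤ 2 * Nat.card H1 := hstep H1 b le_sup_left hH1N hb
  obtain ⟨c, hc, hc0⟩ := SetLike.not_le_iff_exists.1 fun hle : d.N ≤ H2 => by
    have := card_le_of_le hle
    omega
  have ma : a ∈ H1 := mem_sup_right (mem_zpowers a)
  have mb : b ∈ H2 := mem_sup_right (mem_zpowers b)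
  have hb' : b ∉ d.Zn := fun hm => hb0 (mem_sup_left hm)
  have hc' : c ∉ d.Zn := fun hm => hc0 (mem_sup_left (mem_sup_left hm))
  have hab : a * b ∉ d.Zn := fun hm =>
    hb0 ((mul_mem_cancel_left ma).1 (mem_sup_left hm : a * b ∈ H1))
  have hac : a * c ∉ d.Zn := fun hm => hc0 (mem_sup_left
    ((mul_mem_cancel_left ma).1 (mem_sup_left hm : a * c ∈ H1)))
  have hbc : b * c ∉ d.Zn := fun hm => hc0
    ((mul_mem_cancel_left mb).1 (mem_sup_left (mem_sup_left hm) : b * c ∈ H2))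
  have habc : a * (b * c) ∉ d.Zn := fun hm => hc0 ((mul_mem_cancel_left mb).1
    ((mul_mem_cancel_left (mem_sup_left ma : a ∈ H2)).1
      (mem_sup_left (mem_sup_left hm) : a * (b * c) ∈ H2)))
  have e1 := hpair a ha b hb ha0 hb' hab
  have e2 := hpair a ha c hc ha0 hc' hac
  have e3 := hpair a ha _ (mul_mem hb hc) ha0 hbc habc
  rw [show ⁅b * c, a⁆ = b * ⁅c, a⁆ * b⁻¹ * ⁅b, a⁆ by simp only [commutatorElement_def]; group, e1, e2,
    (mem_CC.1 (d.N_le hb)).eq, mul_inv_cancel_right, sq_eq_one_of_invol ht] at e3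
  exact ne_one_of_invol ht e3.symm

end Five

end Cfsg.Agent.SixCent
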