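import Cfsg.Agent.Lib.SixCent.FiveAbelian
import Cfsg.Agent.Lib.SelfThree.Main

/-!
A non-solvable centraliser has radical `⟨t⟩`.
-/

set_option autoImplicit false
set_option linter.style.haveILetI false
set_option linter.unusedSectionVars false

open scoped commutatorElement
open Subgroup

namespace Cfsg.Agent.SixCent

universe v

variable {G : Type v} [Group G] [Finite G]

namespace Five

variable {t : G} (d : Five t) (ht : orderOf t = 2)

include ht in
/-- The normaliser of an elementary abelian radical fixes `t`. -/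
theorem norm_le (h : Hyp G) (hel : Elem d.N) : normalizer (d.N : Set G) ≤ CC t := by
  classical
  haveI : Fact (Nat.Prime 2) := ⟨Nat.prime_two⟩
  haveI : Fact (Nat.Prime 3) := ⟨Nat.prime_three⟩
  set H := normalizer (d.N : Set G) with hH
  set N' : Subgroup H := d.N.subgroupOf H with hN'
  haveI : N'.Normal := normal_subgroupOf_of_le_normalizer le_rfl
  let U : H := ⟨d.u, d.cc_le_norm d.u_mem⟩
  let π := QuotientGroup.mk' N'
  have hπ : ∀ {x : H}, π x = 1 ↔ (x : G) ∈ d.N := fun {x} =>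
    (QuotientGroup.eq_one_iff x).trans mem_subgroupOf
  have hU3 : orderOf (π U) = 3 := by
    refine orderOf_eq_prime ?_ fun h1 => d.u_notin ht (hπ.1 h1)
    rw [← map_pow, show U ^ 3 = 1 from Subtype.ext d.u_cube, map_one]
  let ι : CC t →* H ⧸ N' := π.comp (inclusion d.cc_le_norm)
  have hι : ∀ {x : CC t}, ι x = 1 ↔ d.Φ x = 1 := fun {x} => hπ.trans d.phi_one.symm
  -- the element of order 3 is self-centralising
  have hself : centralizer ({π U} : Set (H ⧸ N')) = zpowers (π U) := by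
    refine le_antisymm (fun q hq => ?_) (zpowers_le.2 (mem_centralizer_singleton_iff.2 rfl))
    obtain ⟨g, rfl⟩ := QuotientGroup.mk'_surjective N' q
    have hc : π g * π U = π U * π g := mem_centralizer_singleton_iff.1 hq
    have hn : ((g * U * g⁻¹ * U⁻¹ : H) : G) ∈ d.N := hπ.1 (by
      rw [map_mul, map_mul, map_mul, map_inv, map_inv, hc, mul_inv_cancel_right, mul_inv_cancel])
    push_cast at hn
    set n := (g : G) * d.u * (g : G)⁻¹ * d.u⁻¹ with hn0
    set s := (g : G) * t * (g : G)⁻¹ with hs0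
    have hs : s ∈ d.N := (mem_normalizer_iff.1 g.2 t).1 (d.T_le (mem_zpowers t))
    have hsu : d.u * s * d.u⁻¹ = s := by
      have h1 : (g : G) * d.u * (g : G)⁻¹ * s * ((g : G) * d.u * (g : G)⁻¹)⁻¹ = s := by
        rw [hs0, show (g : G) * d.u * (g : G)⁻¹ * ((g : G) * t * (g : G)⁻¹) * ((g : G) * d.u * (g : G)⁻¹)⁻¹ =
          (g : G) * (d.u * t * d.u⁻¹) * (g : G)⁻¹ by group, (mem_CC.1 d.u_mem).eq, mul_inv_cancel_right]
      rw [show (g : G) * d.u * (g : G)⁻¹ = n * d.u by rw [hn0]; group] at h1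
      calc d.u * s * d.u⁻¹ = n * (d.u * s * d.u⁻¹) * n⁻¹ := by
            rw [(hel.comm hn (d.normN d.u_mem hs)).eq, mul_inv_cancel_right]
        _ = n * d.u * s * (n * d.u)⁻¹ := by group
        _ = s := h1
    have hgC : (g : G) ∈ CC t := by
      have hsT : s ∈ zpowers t := d.fixed s hs (by
        rw [comm_eq_one_iff.2 (mul_inv_eq_iff_eq_mul.1 hsu)]; exact one_mem _)
      rcases mem_zpowers_two ht hsT with e | e
      · exact absurd (conj_eq_one_iff.1 e) (ne_one_of_invol ht)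
      · exact mem_CC.2 (mul_inv_eq_iff_eq_mul.1 e)
    let G' : CC t := ⟨g, hgC⟩
    let U' : CC t := ⟨d.u, d.u_mem⟩
    have hcΦ : d.Φ G' * d.Φ U' = d.Φ U' * d.Φ G' := by
      have h1 : d.Φ (G' * U' * G'⁻¹ * U'⁻¹) = 1 := d.phi_one.2 (by push_cast; exact hn)
      rw [map_mul, map_mul, map_mul, map_inv, map_inv, mul_inv_eq_one, mul_inv_eq_iff_eq_mul] at h1
      exact h1
    obtain ⟨y, hy⟩ := FiveMod.conj_three _ (d.phi_u ht).1 (d.phi_u ht).2
    have key : ∃ i : ℕ, d.Φ G' = d.Φ U' ^ i := by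
      rw [← hy] at hcΦ ⊢
      have hc2 : y⁻¹ * d.Φ G' * y * FiveMod.ua = FiveMod.ua * (y⁻¹ * d.Φ G' * y) := by
        calc y⁻¹ * d.Φ G' * y * FiveMod.ua = y⁻¹ * (d.Φ G' * (y * FiveMod.ua * y⁻¹)) * y := by group
          _ = y⁻¹ * ((y * FiveMod.ua * y⁻¹) * d.Φ G') * y := by rw [hcΦ]
          _ = _ := by group
      have e0 : d.Φ G' = y * (y⁻¹ * d.Φ G' * y) * y⁻¹ := by group
      rcases FiveMod.cent_three _ hc2 with e | e | e <;> rw [e] at e0
      · exact ⟨0, by rw [e0, pow_zero, mul_one, mul_inv_cancel]⟩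
      · exact ⟨1, by rw [e0, pow_one]⟩
      · exact ⟨2, by rw [e0, pow_two]; group⟩
    obtain ⟨i, hi⟩ := key
    have h2 : ι (U' ^ i)⁻¹ * ι G' = 1 := by
      rw [← map_mul, hι, map_mul, map_inv, map_pow, hi, inv_mul_cancel]
    rw [map_inv, inv_mul_eq_one] at h2
    show π g ∈ zpowers (π U)
    rw [show π g = ι G' from rfl, ← h2, map_pow]
    exact pow_mem (mem_zpowers (π U)) i
  have hcardH : Nat.card H = Nat.card (H ⧸ N') * Nat.card d.N := by
    rw [card_eq_card_quotient_mul_card_subgroup N',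
      Nat.card_congr (subgroupOfEquivOfLe le_normalizer).toEquiv]
  have h60 : 60 ∣ Nat.card (H ⧸ N') := by
    have hk : ι.ker = d.Φ.ker := by ext x; exact hι
    have h1 := index_ker ι
    rw [hk, index_ker, MonoidHom.range_eq_top.2 d.surj, card_top, FiveMod.card_A5] at h1
    exact h1 ▸ card_subgroup_dvd_card _
  rcases SelfThree.main _ (H ⧸ N') rfl (π U) hU3 hself with
    ⟨M, hM, -, h3, hq⟩ | ⟨M, hM, -, hM2, ⟨e⟩⟩ | he
  · exfalso
    haveI : IsSimpleGroup FiveMod.A5 := alternatingGroup.isSimpleGroup_five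
    let f : CC t →* (H ⧸ N') ⧸ M := (QuotientGroup.mk' M).comp ι
    have hfk : d.Φ.ker ≤ f.ker := fun x hx => by
      rw [MonoidHom.mem_ker, MonoidHom.comp_apply, hι.2 hx, map_one]
    let ψ : FiveMod.A5 →* (H ⧸ N') ⧸ M := d.Φ.liftOfSurjective d.surj ⟨f, hfk⟩
    have hψ : ∀ x, ψ (d.Φ x) = f x := fun x =>
      d.Φ.liftOfRightInverse_comp_apply (Function.surjInv d.surj)
        (Function.rightInverse_surjInv d.surj) ⟨f, hfk⟩ x
    rcases IsSimpleGroup.eq_bot_or_eq_top_of_normal ψ.ker inferInstance with hb | hb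
    · have h1 := Nat.card_le_card_of_injective ψ ((MonoidHom.ker_eq_bot_iff ψ).1 hb)
      rw [FiveMod.card_A5] at h1
      rcases hq with hq | ⟨⟨e⟩⟩
      · omega
      · rw [Nat.card_congr e.toEquiv, Nat.card_perm, Nat.card_fin] at h1
        norm_num [Nat.factorial] at h1
    · have h1 : f ⟨d.u, d.u_mem⟩ = 1 := by
        rw [← hψ]; exact MonoidHom.mem_ker.1 (hb ▸ mem_top _)
      have h2 : π U ∈ M := (QuotientGroup.eq_one_iff _).1 h1
      have h4 := orderOf_dvd_natCard M h2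
      rw [hU3] at h4
      exact (Nat.prime_three.coprime_iff_not_dvd.1 h3.symm) h4
  · have hMp : IsPGroup 2 M := fun x => ⟨1, Subtype.ext (by rw [pow_one]; exact hM2 x x.2)⟩
    obtain ⟨b, hb⟩ := hMp.exists_card_eq
    obtain ⟨i, hi⟩ := (d.two ht).exists_card_eq
    have hcard : Nat.card (H ⧸ N') = 60 * 2 ^ b := by
      rw [card_eq_card_quotient_mul_card_subgroup M, hb, Nat.card_congr e.toEquiv, FiveMod.card_A5]
    obtain ⟨S, hS⟩ := exists_sylow_cc h ht
    have h1 : 2 ^ (b + 2 + i) ∣ Nat.card G := by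
      refine Dvd.dvd.trans ?_ (card_subgroup_dvd_card H)
      rw [hcardH, hcard, hi]
      exact ⟨15, by ring⟩
    have h2 := S.pow_dvd_card_of_pow_dvd_card h1
    rw [d.card_sylow ht S hS, hi, show 4 * 2 ^ i = 2 ^ (2 + i) by ring] at h2
    have h3 := (Nat.pow_dvd_pow_iff_le_right (by norm_num : 1 < 2)).1 h2
    obtain rfl : b = 0 := by omega
    have h4 : CC t = H := eq_of_le_of_card_ge d.cc_le_norm (by rw [hcardH, hcard, d.card_C]; simp)
    exact h4.ge
  · exfalso
    obtain ⟨e⟩ := he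
    rw [Nat.card_congr e.toEquiv, card_psl7] at h60
    norm_num at h60

include ht in
/-- The radical is `⟨t⟩`. -/
theorem radical_eq (h : Hyp G) : d.N = zpowers t := by
  by_contra hne
  haveI : Fact (Nat.Prime 2) := ⟨Nat.prime_two⟩
  have hel := d.elem ht h
  have hnorm := d.norm_le ht h hel
  have h32 := d.thirtytwo_le ht hne
  obtain ⟨S, hS⟩ := exists_sylow_cc h ht
  have hNS : d.N ≤ (S : Subgroup G) := d.N_le_sylow ht S hS
  have tT : t ∈ d.N := d.T_le (mem_zpowers t)
  have hfixt : ∀ n ∈ normalizer (d.N : Set G), n * t * n⁻¹ = t := fun n hn => by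
    rw [(mem_CC.1 (hnorm hn)).eq, mul_inv_cancel_right]
  have hfacts : ∀ E : Subgroup G, E ≤ (S : Subgroup G) → Elem E → Nat.card E = Nat.card d.N →
      E ≠ d.N → Nat.card d.N = 32 ∧ Nat.card ↥(E ⊓ d.N) = 8 ∧ zpowers t ≤ E := by
    intro E hES hE hcE hEN
    obtain ⟨x, hx, hx0⟩ := SetLike.not_le_iff_exists.1 fun hle : E ≤ d.N =>
      hEN (eq_of_le_of_card_ge hle hcE.ge)
    have h4 := d.card_le_four_mul (S.isPGroup'.to_le hES) (hES.trans hS)
    set D := (E ⊓ d.N) ⊔ zpowers t with hD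
    have hDx : D ≤ centralizer ({x} : Set G) :=
      sup_le (fun r hr => mem_centralizer_singleton_iff.2 (hE.comm hr.1 hx).eq)
        (zpowers_le.2 (mem_centralizer_singleton_iff.2 (mem_CC.1 (hS (hES hx))).eq.symm))
    have hb := d.outside_bound ht (hS (hES hx)) (orderOf_two_pow S.isPGroup' (hES hx)) hx0
      (D := D) le_sup_right (sup_le inf_le_right d.T_le) fun r hr => by
        rw [comm_eq_one_iff.2 (show Commute x r from (mem_centralizer_singleton_iff.1 (hDx hr)).symm)]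
        exact one_mem _
    have hle : Nat.card ↥(E ⊓ d.N) ≤ Nat.card D := card_le_of_le le_sup_left
    have hN32 : Nat.card d.N = 32 := by
      have : Nat.card d.N ≤ 4 * Nat.card D := by omega
      nlinarith [Nat.mul_le_mul this this]
    have hD8 : Nat.card D ≤ 8 := by rw [hN32] at hb; nlinarith
    have heq : E ⊓ d.N = D := eq_of_le_of_card_ge le_sup_left (by omega)
    refine ⟨hN32, le_antisymm (hle.trans hD8) (by omega), ?_⟩
    exact ((le_sup_right : zpowers t ≤ D).trans heq.ge).trans inf_le_left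
  have hmap : ∀ g : G, Elem (d.N.map (MulAut.conj g).toMonoidHom) ∧
      Nat.card (d.N.map (MulAut.conj g).toMonoidHom) = Nat.card d.N := fun g =>
    ⟨by
      rintro _ ⟨x, hx, rfl⟩
      rw [← map_mul, hel x hx, map_one],
    card_map_of_injective (MulAut.conj g).injective⟩
  by_cases hE : ∃ E : Subgroup G, E ≤ (S : Subgroup G) ∧ Elem E ∧ Nat.card E = Nat.card d.N ∧ E ≠ d.N
  swap
  · push Not at hE
    obtain ⟨v, hv, hvT⟩ := SetLike.not_le_iff_exists.1 fun hle : d.N ≤ zpowers t =>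
      hne (le_antisymm hle d.T_le)
    have hvo := orderOf_eq_two (hel v hv) fun e => hvT (e ▸ one_mem _)
    obtain ⟨n, hn, hnv⟩ := fusion_weakly_closed S d.N hNS (fun x hx y hy => hel.comm hx hy)
      (fun g hg x hx => by
        have := hE (d.N.map (MulAut.conj g).toMonoidHom)
          (by rintro _ ⟨r, hr, rfl⟩; exact hg r hr) (hmap g).1 (hmap g).2
        exact this.le ⟨x, hx, rfl⟩) tT hv (h.one t v ht hvo)
    rw [hfixt n hn] at hnv
    exact hvT (hnv ▸ mem_zpowers t)
  obtain ⟨E, hES, hE, hcE, hEN⟩ := hE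
  obtain ⟨hN32, hW8, hTE⟩ := hfacts E hES hE hcE hEN
  set W := E ⊓ d.N with hW
  have hTW : zpowers t ≤ W := le_inf hTE d.T_le
  have hSNE : (S : Subgroup G) = d.N ⊔ E := by
    refine (eq_of_le_of_card_ge (sup_le hNS hES) ?_).symm
    have h1 := card_mul_card_le (H := d.N) (Y := E) (R := d.N ⊔ E) le_sup_left le_sup_right
    rw [inf_comm, ← hW, hW8, hcE, hN32] at h1
    rw [d.card_sylow ht S hS, hN32]
    omega
  have hEn : E ≤ normalizer (d.N : Set G) := (hES.trans hS).trans d.cc_le_norm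
  have hWS : ∀ r ∈ W, ∀ s ∈ (S : Subgroup G), Commute s r := fun r hr s hs => by
    have hle : d.N ⊔ E ≤ centralizer ({r} : Set G) :=
      sup_le (fun n hn => mem_centralizer_singleton_iff.2 (hel.comm hn hr.2).eq)
        (fun e he => mem_centralizer_singleton_iff.2 (hE.comm he hr.1).eq)
    exact mem_centralizer_singleton_iff.1 (hle (hSNE ▸ hs))
  have huniq : ∀ E' : Subgroup G, E' ≤ (S : Subgroup G) → Elem E' → Nat.card E' = Nat.card d.N →
      E' ≠ d.N → E' = E := by
    intro E' hE'S hE' hcE' hE'N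
    have hout : ∀ z ∈ E', z ∉ d.N → z ∈ E := by
      intro z hz hz0
      have hz' := hE'S hz
      rw [hSNE, ← SetLike.mem_coe, coe_mul_of_right_le_normalizer_left _ _ hEn] at hz'
      obtain ⟨n, hn, e, he, rfl⟩ := hz'
      dsimp only at hz hz0 ⊢
      have he0 : e ∉ d.N := fun hm => hz0 (mul_mem hn hm)
      have hne' : Commute n e := by
        have e1 : (n * e)⁻¹ = n * e := inv_eq_of_mul_eq_one_right (hE' _ hz)
        rw [mul_inv_rev, inv_eq_of_mul_eq_one_right (hel n hn), inv_eq_of_mul_eq_one_right (hE e he)] at e1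
        exact e1.symm
      set D := W ⊔ zpowers n
      have hDe : D ≤ centralizer ({e} : Set G) :=
        sup_le (fun r hr => mem_centralizer_singleton_iff.2 (hE.comm hr.1 he).eq)
          (zpowers_le.2 (mem_centralizer_singleton_iff.2 hne'.eq))
      have hb := d.outside_bound ht (hS (hES he)) (orderOf_two_pow S.isPGroup' (hES he)) he0
        (D := D) (hTW.trans le_sup_left) (sup_le inf_le_right (zpowers_le.2 hn)) fun r hr => by
          rw [comm_eq_one_iff.2 (show Commute e r from (mem_centralizer_singleton_iff.1 (hDe hr)).symm)]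
          exact one_mem _
      rw [hN32] at hb
      have hD8 : Nat.card D ≤ 8 := by nlinarith
      have hWD : W = D := eq_of_le_of_card_ge le_sup_left (hD8.trans_eq hW8.symm)
      exact mul_mem (hWD.ge (mem_sup_right (mem_zpowers n))).1 he
    obtain ⟨z0, hz0, hz00⟩ := SetLike.not_le_iff_exists.1 fun hle : E' ≤ d.N =>
      hE'N (eq_of_le_of_card_ge hle hcE'.ge)
    refine eq_of_le_of_card_ge (fun z hz => ?_) (by rw [hcE, hcE'])
    by_cases hzN : z ∈ d.N
    · have h1 := hout _ (mul_mem hz hz0) fun hm => hz00 ((mul_mem_cancel_left hzN).1 hm)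
      exact (mul_mem_cancel_right (hout z0 hz0 hz00)).1 h1
    · exact hout z hz hzN
  obtain ⟨v, hv, hvT⟩ := SetLike.not_le_iff_exists.1 fun hle : W ≤ zpowers t => by
    have := (card_le_of_le hle).trans_eq (Sol.card_T ht); omega
  obtain ⟨w, hw, hw'⟩ := SetLike.not_le_iff_exists.1 fun hle : W ≤ zpowers t ⊔ zpowers v => by
    have h1 := card_sup_zpowers_le (Y := zpowers t) (g := v)
      (fun y hy => Sol.conj_mem_zt (d.N_le hv.2) hy) (by rw [hel v hv.2]; exact one_mem _)
    rw [Sol.card_T ht] at h1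
    have := card_le_of_le hle
    omega
  have hwT : w ∉ zpowers t := fun hm => hw' (mem_sup_left hm)
  have key : ∀ r ∈ W, r ∉ zpowers t → ∃ n : G, n * t * n⁻¹ = r ∧
      d.N.map (MulAut.conj n).toMonoidHom = E := by
    intro r hr hrT
    obtain ⟨n, hn, hnr⟩ := fusion_center S (a := t) (b := r) (fun s hs => mem_CC.1 (hS hs))
      (hWS r hr) (h.one t r ht (orderOf_eq_two (hel r hr.2) fun e => hrT (e ▸ one_mem _)))
    refine ⟨n, hnr, huniq _ ?_ (hmap n).1 (hmap n).2 fun e => ?_⟩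
    · rintro _ ⟨x, hx, rfl⟩
      exact (mem_normalizer_iff.1 hn x).1 (hNS hx)
    · have hnN : n ∈ normalizer (d.N : Set G) := mem_normalizer_of_conj fun x hx => e.le ⟨x, hx, rfl⟩
      rw [hfixt n hnN] at hnr
      exact hrT (hnr ▸ mem_zpowers t)
  obtain ⟨n1, h1, e1⟩ := key v hv hvT
  obtain ⟨n2, h2, e2⟩ := key w hw hwT
  have hm : n2⁻¹ * n1 ∈ normalizer (d.N : Set G) := mem_normalizer_of_conj fun x hx => by
    have hmem : n1 * x * n1⁻¹ ∈ d.N.map (MulAut.conj n2).toMonoidHom :=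
      (e1.trans e2.symm).le ⟨x, hx, rfl⟩
    obtain ⟨y, hy, e⟩ := hmem
    change n2 * y * n2⁻¹ = n1 * x * n1⁻¹ at e
    rw [show n2⁻¹ * n1 * x * (n2⁻¹ * n1)⁻¹ = n2⁻¹ * (n1 * x * n1⁻¹) * n2 by group, ← e,
      show n2⁻¹ * (n2 * y * n2⁻¹) * n2 = y by group]
    exact hy
  have h3 := hfixt _ hm
  refine hw' (mem_sup_right ?_)
  have h4 : v = w := by
    rw [← h1, ← h2]
    calc n1 * t * n1⁻¹ = n2 * (n2⁻¹ * n1 * t * (n2⁻¹ * n1)⁻¹) * n2⁻¹ := by group
      _ = n2 * t * n2⁻¹ := by rw [h3]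
  exact h4 ▸ mem_zpowers v

end Five

end Cfsg.Agent.SixCent
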