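import Cfsg.Agent.Lib.SixCent.Five
import Cfsg.Agent.Lib.JankoOne.Main
import Cfsg.Agent.Lib.JankoOne.IsoJ1
import Mathlib.GroupTheory.Transfer

/-!
The centraliser `Z₂ × A₅` of an involution gives the first Janko group.
-/

set_option autoImplicit false
set_option linter.style.haveILetI false
set_option linter.unusedSectionVars false

open Subgroup

namespace Cfsg.Agent.SixCent

universe v

/-- An elementary abelian 2-group retracts onto an element. -/
theorem exists_retraction {P : Type v} [Group P] [Finite P] (hP : ∀ a : P, a * a = 1) {t : P} (ht : t ≠ 1) :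
    ∃ φ : P →* Multiplicative (ZMod 2), φ t ≠ 1 := by
  classical
  have hcomm : ∀ a b : P, a * b = b * a := fun a b => by
    have e1 : a⁻¹ = a := inv_eq_of_mul_eq_one_right (hP a)
    have e2 : b⁻¹ = b := inv_eq_of_mul_eq_one_right (hP b)
    have e3 : (a * b)⁻¹ = a * b := inv_eq_of_mul_eq_one_right (hP _)
    rw [mul_inv_rev, e1, e2] at e3
    exact e3.symm
  obtain ⟨K, hKmax⟩ := (Set.toFinite {K : Subgroup P | t ∉ K}).exists_maximal
    ⟨⊥, fun h => ht (mem_bot.1 h)⟩
  have htK : t ∉ K := hKmax.1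
  have hall : ∀ x : P, x ∉ K → x * t ∈ K := by
    intro x hx
    have h1 : t ∈ K ⊔ zpowers x := by
      by_contra h2
      exact hx (hKmax.2 (y := K ⊔ zpowers x) h2 le_sup_left (mem_sup_right (mem_zpowers x)))
    haveI : K.Normal := ⟨fun n hn g => by rw [hcomm g n, mul_inv_cancel_right]; exact hn⟩
    obtain ⟨k, hk, z, hz, e⟩ := mem_sup_of_normal_left.1 h1
    obtain ⟨i, rfl⟩ := mem_zpowers_iff.1 hz
    rcases Int.emod_two_eq_zero_or_one i with hi | hi
    · refine absurd ?_ htK
      rw [← e, show i = (2 : ℤ) * (i / 2) by omega, zpow_mul, zpow_two, hP x, one_zpow, mul_one]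
      exact hk
    · have e2 : k * x = t := by
        rw [← e]
        conv_rhs => rw [show i = (2 : ℤ) * (i / 2) + 1 by omega, zpow_add_one, zpow_mul, zpow_two, hP x,
          one_zpow, one_mul]
      rw [← e2, hcomm k x, ← mul_assoc, hP x, one_mul]
      exact hk
  have hidx : K.index = 2 := by
    refine index_eq_two_iff.2 ⟨t, fun b => ?_⟩
    by_cases hb : b ∈ K
    · exact Or.inr ⟨hb, fun h => htK (by simpa using mul_mem (inv_mem hb) h)⟩
    · exact Or.inl ⟨hall b hb, hb⟩
  let g : Multiplicative (ZMod 2) := Multiplicative.ofAdd 1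
  refine ⟨{ toFun := fun a => if a ∈ K then 1 else g
            map_one' := if_pos K.one_mem
            map_mul' := fun a b => by
              have h := Subgroup.mul_mem_iff_of_index_two hidx (a := a) (b := b)
              by_cases ha : a ∈ K <;> by_cases hb : b ∈ K <;> simp [h, ha, hb, g] <;> decide }, ?_⟩
  show (if t ∈ K then (1 : Multiplicative (ZMod 2)) else g) ≠ 1
  rw [if_neg htK]
  decide

variable {G : Type v} [Group G] [Finite G]

namespace Five

variable {t : G} (d : Five t) (ht : orderOf t = 2)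

include d ht in
/-- A trivial 2-radical gives the first Janko group. -/
theorem janko [IsSimpleGroup G] (h : Hyp G) (hN : d.N = zpowers t) : Cfsg.Spor.IsoJ1 G := by
  classical
  haveI : Fact (Nat.Prime 2) := ⟨Nat.prime_two⟩
  obtain ⟨S, hS⟩ := exists_sylow_cc h ht
  obtain ⟨y, hyS, hy, hyt⟩ := exists_other_invol h ht S
  let Y : CC t := ⟨y, hS hyS⟩
  have hY1 : d.Φ Y ≠ 1 := fun h1 => by
    have h2 := d.phi_one.1 h1
    rw [hN] at h2
    rcases mem_zpowers_two ht h2 with e | e
    · exact ne_one_of_invol hy e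
    · exact hyt e
  have hY2 : d.Φ Y * d.Φ Y = 1 := by
    rw [← map_mul, show Y * Y = 1 from Subtype.ext (sq_eq_one_of_invol hy), map_one]
  -- the involutions lift to involutions
  have hlift : ∀ x : CC t, d.Φ x * d.Φ x = 1 → (x : G) * x = 1 := by
    intro x hx
    by_cases hx1 : d.Φ x = 1
    · exact sq_of_mem_zt ht (hN ▸ d.phi_one.1 hx1)
    obtain ⟨a, ha⟩ := FiveMod.conj_two _ hx hx1
    obtain ⟨b, hb⟩ := FiveMod.conj_two _ hY2 hY1
    obtain ⟨k, hk⟩ := d.surj (a * b⁻¹)
    have h1 : d.Φ ((k * Y * k⁻¹)⁻¹ * x) = 1 := by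
      rw [map_mul, map_inv, map_mul, map_mul, map_inv, hk, ← ha, ← hb]; group
    have h2 := d.phi_one.1 h1
    rw [hN] at h2
    push_cast at h2
    set τ := ((k : G) * y * (k : G)⁻¹)⁻¹ * (x : G) with hτ
    have hxe : (x : G) = (k : G) * y * (k : G)⁻¹ * τ := by rw [hτ]; group
    have hzC : (k : G) * y * (k : G)⁻¹ ∈ CC t := mul_mem (mul_mem k.2 (hS hyS)) (inv_mem k.2)
    have hcm : Commute ((k : G) * y * (k : G)⁻¹) τ := Sol.T_cent h2 hzC
    rw [hxe, ← pow_two, hcm.mul_pow, pow_two τ, sq_of_mem_zt ht h2, mul_one, conj_pow, pow_two,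
      sq_eq_one_of_invol hy, mul_one, mul_inv_cancel]
  have hSel : ∀ a : (S : Subgroup G).subgroupOf (CC t), a * a = 1 := by
    rintro ⟨a, ha⟩
    refine Subtype.ext (Subtype.ext (hlift a (FiveMod.four_check _ ?_)))
    obtain ⟨k, hk⟩ := orderOf_two_pow S.isPGroup' (mem_subgroupOf.1 ha)
    refine orderOf_dvd_iff_pow_eq_one.1 ?_
    obtain ⟨i, -, hi⟩ := (Nat.dvd_prime_pow Nat.prime_two).1
      ((orderOf_map_dvd d.Φ a).trans (by rw [← orderOf_coe, hk]))
    have h60 : 2 ^ i ∣ 60 := by
      rw [← FiveMod.card_A5, ← hi]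
      exact orderOf_dvd_natCard _
    rw [hi]
    have hi2 : i ≤ 2 := by
      by_contra hlt
      have h8 := (pow_dvd_pow 2 (show 3 ≤ i by omega)).trans h60
      norm_num at h8
    exact pow_dvd_pow 2 hi2
  let tC : CC t := ⟨t, mem_CC.2 (Commute.refl t)⟩
  have htS : tC ∈ (S : Subgroup G).subgroupOf (CC t) :=
    mem_subgroupOf.2 (d.N_le_sylow ht S hS (d.T_le (mem_zpowers t)))
  obtain ⟨φ, hφ⟩ := exists_retraction hSel (t := ⟨tC, htS⟩)
    (fun e => ne_one_of_invol ht (congrArg (fun a : (S : Subgroup G).subgroupOf (CC t) => ((a : CC t) : G)) e))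
  haveI : ((S : Subgroup G).subgroupOf (CC t)).FiniteIndex := ⟨index_ne_zero_of_finite⟩
  let τ : CC t →* Multiplicative (ZMod 2) := φ.transfer
  have hidx : ((S : Subgroup G).subgroupOf (CC t)).index = 15 := by
    have h1 := ((S : Subgroup G).subgroupOf (CC t)).card_mul_index
    rw [d.card_C, Nat.card_congr (subgroupOfEquivOfLe hS).toEquiv, d.card_sylow ht S hS] at h1
    have : 0 < Nat.card d.N := Nat.card_pos
    nlinarith
  have htc : ∀ g : CC t, g * tC = tC * g := fun g => Subtype.ext (mem_CC.1 g.2).eq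
  have hτt : τ tC ≠ 1 := by
    have key : ∀ (k : ℕ) (g₀ : CC t), g₀⁻¹ * tC ^ k * g₀ ∈ (S : Subgroup G).subgroupOf (CC t) →
        g₀⁻¹ * tC ^ k * g₀ = tC ^ k := fun k g₀ _ => by
      rw [mul_assoc, ((show Commute g₀ tC from htc g₀).pow_right k).eq.symm, inv_mul_cancel_left]
    rw [MonoidHom.transfer_eq_pow φ tC key]
    intro h1
    refine hφ ?_
    rw [← h1]
    congr 1
    refine Subtype.ext ?_
    show tC = tC ^ ((S : Subgroup G).subgroupOf (CC t)).index
    rw [hidx]
    refine Subtype.ext ?_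
    push_cast
    rw [show 15 = 2 * 7 + 1 from rfl, pow_succ, pow_mul, pow_two, show (tC : G) = t from rfl,
      sq_eq_one_of_invol ht, one_pow, one_mul]
  let Ψ : CC t →* Multiplicative (ZMod 2) × FiveMod.A5 := τ.prod d.Φ
  have hinj : Function.Injective Ψ := by
    refine (injective_iff_map_eq_one Ψ).2 fun x hx => ?_
    have h1 : τ x = 1 := congrArg Prod.fst hx
    have h2 : d.Φ x = 1 := congrArg Prod.snd hx
    have h3 := d.phi_one.1 h2
    rw [hN] at h3
    rcases mem_zpowers_two ht h3 with e | e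
    · exact Subtype.ext e
    · exact absurd (show τ tC = 1 by rwa [show tC = x from Subtype.ext e.symm]) hτt
  have hbij : Function.Bijective Ψ := by
    refine (Nat.bijective_iff_injective_and_card Ψ).2 ⟨hinj, ?_⟩
    rw [d.card_C, hN, Sol.card_T ht, Nat.card_prod, FiveMod.card_A5]
    simp [Nat.card_eq_fintype_card]
  refine JankoOne.isoJ1_of_isJ1 (JankoOne.isJ1_of_centralizer t ⟨ht, S, ?_, fun x hx => ?_⟩
    (MulEquiv.ofBijective Ψ hbij))
  · exact d.N_le_sylow ht S hS (d.T_le (mem_zpowers t))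
  · exact (mem_CC.1 (hS hx)).eq

end Five

end Cfsg.Agent.SixCent
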