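import Cfsg.Agent.Lib.SixCent.ClassTwo
import Mathlib.GroupTheory.QuotientGroup.Basic

/-!
An element of order 3 acting without fixed points on a section `Q/M`.
-/

set_option autoImplicit false
set_option linter.style.haveILetI false

open scoped commutatorElement

namespace Cfsg.Agent.SixCent

open SelfThree

variable {G : Type*} [Group G]

/-- The commutator formulation of commuting modulo a subgroup. -/
theorem map_commute_iff {H : Type*} [Group H] (f : G →* H) (a b : G) :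
    Commute (f a) (f b) ↔ ⁅a, b⁆ ∈ f.ker := by
  rw [MonoidHom.mem_ker, map_commutatorElement, commutatorElement_eq_one_iff_commute]

/-- `u` has cube one, normalizes `Q` and `M ≤ Q`, and has no fixed point on `Q/M` but the trivial one. -/
structure FpfMod (u : G) (M Q : Subgroup G) : Prop where
  cube : u ^ 3 = 1
  le : M ≤ Q
  conj : ∀ q ∈ Q, u * q * u⁻¹ ∈ Q
  conjM : ∀ q ∈ M, u * q * u⁻¹ ∈ M
  norm : Q ≤ Subgroup.normalizer (M : Set G)
  fixed : ∀ q ∈ Q, ⁅u, q⁆ ∈ M → q ∈ M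

namespace FpfMod

variable {u : G} {M Q : Subgroup G}

theorem u_mem [Finite G] (h : FpfMod u M Q) : u ∈ Subgroup.normalizer (M : Set G) := by
  have h1 : ∀ q, q ∈ M → u⁻¹ * q * u ∈ M := fun q hq => by
    have e : u⁻¹ = u * u := inv_eq_of_mul_eq_one_right (by rw [← mul_assoc, ← h.cube, pow_three, mul_assoc])
    have h2 := h.conjM _ (h.conjM q hq)
    rw [show u * (u * q * u⁻¹) * u⁻¹ = (u * u) * q * (u * u)⁻¹ by group, ← e, inv_inv] at h2
    exact h2
  refine Subgroup.mem_normalizer_iff.2 fun q => ⟨h.conjM q, fun hq => ?_⟩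
  simpa [mul_assoc] using h1 _ hq

/-- The group in which `M` is normal. -/
abbrev amb (M : Subgroup G) : Subgroup G := Subgroup.normalizer (M : Set G)

/-- The quotient map. -/
noncomputable abbrev quo (M : Subgroup G) : amb M →* amb M ⧸ M.subgroupOf (amb M) :=
  QuotientGroup.mk' (M.subgroupOf (amb M))

theorem quo_eq_one {M : Subgroup G} {r : amb M} : quo M r = 1 ↔ (r : G) ∈ M :=
  QuotientGroup.eq_one_iff r

theorem quo_commute {M : Subgroup G} {a b : amb M} :
    Commute (quo M a) (quo M b) ↔ ⁅(a : G), (b : G)⁆ ∈ M := by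
  rw [map_commute_iff, QuotientGroup.ker_mk']
  exact Iff.rfl

/-- The image in the quotient. -/
theorem quot [Finite G] (h : FpfMod u M Q) :
    Fpf (quo M ⟨u, h.u_mem⟩) ((Q.subgroupOf (amb M)).map (quo M)) := by
  refine ⟨?_, ?_, ?_⟩
  · rw [← map_pow, show (⟨u, h.u_mem⟩ : amb M) ^ 3 = 1 from Subtype.ext h.cube, map_one]
  · rintro _ ⟨r, hr, rfl⟩
    exact ⟨⟨u, h.u_mem⟩ * r * (⟨u, h.u_mem⟩ : amb M)⁻¹, h.conj _ hr, by simp only [map_mul, map_inv]⟩
  · rintro _ ⟨r, hr, rfl⟩ hcm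
    exact quo_eq_one.2 (h.fixed _ hr (quo_commute.1 hcm))

theorem mem_quot {M Q : Subgroup G} {q : G} (hq : q ∈ Q) (hn : q ∈ amb M) :
    quo M ⟨q, hn⟩ ∈ (Q.subgroupOf (amb M)).map (quo M) :=
  Subgroup.mem_map_of_mem _ (Subgroup.mem_subgroupOf.2 hq)

/-- Passing to a larger invariant normal subgroup. -/
theorem up [Finite G] (h : FpfMod u M Q) {M' : Subgroup G} (hM : M ≤ M') (hM' : M' ≤ Q)
    (hc : ∀ q ∈ M', u * q * u⁻¹ ∈ M') (hn : Q ≤ Subgroup.normalizer (M' : Set G)) :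
    FpfMod u M' Q where
  cube := h.cube
  le := hM'
  conj := h.conj
  conjM := hc
  norm := hn
  fixed q hq hqu := by
    classical
    let U : amb M := ⟨u, h.u_mem⟩
    let r : amb M := ⟨q, h.norm hq⟩
    have hf : Fpf (quo M U) ((M'.subgroupOf (amb M)).map (quo M)) := by
      refine h.quot.mono (Subgroup.map_mono fun x hx => hM' hx) ?_
      rintro _ ⟨a, ha, rfl⟩
      exact ⟨U * a * U⁻¹, hc _ ha, by simp only [map_mul, map_inv, U]⟩
    have hcM : (⁅U, r⁆ : amb M) ∈ M'.subgroupOf (amb M) := hqu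
    obtain ⟨v, hv, e⟩ := hf.exists_eq (inv_mem (Subgroup.mem_map_of_mem (quo M) hcM))
    obtain ⟨a, ha, rfl⟩ := hv
    have e' : ⁅quo M U, quo M r⁆ = (quo M U * quo M a * (quo M U)⁻¹)⁻¹ * quo M a := by
      rw [← map_commutatorElement, ← inv_inv (quo M ⁅U, r⁆), e, mul_inv_rev, inv_inv]
    have hfix : Commute (quo M U) (quo M (a * r)) := by
      rw [map_mul]
      refine mul_inv_eq_iff_eq_mul.1 ?_
      calc quo M U * (quo M a * quo M r) * (quo M U)⁻¹
          = (quo M U * quo M a * (quo M U)⁻¹) * (⁅quo M U, quo M r⁆ * quo M r) := by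
            rw [commutatorElement_def]; group
        _ = quo M a * quo M r := by rw [e']; group
    have h2 : (a : G) * q ∈ M := h.fixed _ (mul_mem (hM' ha) hq) (quo_commute.1 hfix)
    simpa using mul_mem (inv_mem ha : (a : G)⁻¹ ∈ M') (hM h2)

variable [Finite G]

theorem cast_quo {M : Subgroup G} {a : amb M} {q : G} (h : (a : G) = q) (hq : q ∈ amb M) :
    quo M a = quo M ⟨q, hq⟩ := congrArg _ (Subtype.ext h)

theorem conj_inv (h : FpfMod u M Q) {q : G} (hq : q ∈ Q) : u⁻¹ * q * u ∈ Q := by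
  have e : u⁻¹ = u * u := inv_eq_of_mul_eq_one_right (by rw [← mul_assoc, ← h.cube, pow_three, mul_assoc])
  have h2 := h.conj _ (h.conj q hq)
  rwa [show u * (u * q * u⁻¹) * u⁻¹ = (u * u) * q * (u * u)⁻¹ by group, ← e, inv_inv] at h2

/-- An element and its conjugates multiply into `M`. -/
theorem prod_mem (h : FpfMod u M Q) {q : G} (hq : q ∈ Q) :
    q * (u * q * u⁻¹) * (u⁻¹ * q * u) ∈ M := by
  have := h.quot.prod_eq (mem_quot hq (h.norm hq))
  simp only [← map_inv, ← map_mul] at this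
  exact quo_eq_one.1 this

/-- An element commutes with its conjugate modulo `M`. -/
theorem comm_conj (h : FpfMod u M Q) {q : G} (hq : q ∈ Q) : ⁅q, u * q * u⁻¹⁆ ∈ M := by
  have := h.quot.commute_conj (mem_quot hq (h.norm hq))
  simp only [← map_inv, ← map_mul] at this
  exact quo_commute.1 this

/-- The centralisers modulo `M` are invariant. -/
theorem comm_invariant (h : FpfMod u M Q) {c r : G} (hc : c ∈ Q) (hr : r ∈ Q) (hcr : ⁅c, r⁆ ∈ M) :
    ⁅c, u * r * u⁻¹⁆ ∈ M := by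
  have := h.quot.commute_invariant' (mem_quot hc (h.norm hc)) (mem_quot hr (h.norm hr))
    (quo_commute.2 hcr)
  simp only [← map_inv, ← map_mul] at this
  exact quo_commute.1 this

theorem comm_invariant' (h : FpfMod u M Q) {c r : G} (hc : c ∈ Q) (hr : r ∈ Q) (hcr : ⁅c, r⁆ ∈ M) :
    ⁅c, u⁻¹ * r * u⁆ ∈ M := by
  have := h.quot.commute_invariant (mem_quot hc (h.norm hc)) (mem_quot hr (h.norm hr))
    (quo_commute.2 hcr)
  simp only [← map_inv, ← map_mul] at this
  exact quo_commute.1 this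

theorem card_quot {R : Subgroup G} (hR : R ≤ amb M) (hMR : M ≤ R) :
    Nat.card ((R.subgroupOf (amb M)).map (quo M)) * Nat.card M = Nat.card R := by
  let g : R →* amb M ⧸ M.subgroupOf (amb M) := (quo M).comp (Subgroup.inclusion hR)
  have h1 : g.range = (R.subgroupOf (amb M)).map (quo M) := by
    ext y
    exact ⟨fun ⟨r, hr⟩ => ⟨Subgroup.inclusion hR r, r.2, hr⟩, fun ⟨a, ha, hy⟩ => ⟨⟨a, ha⟩, hy⟩⟩
  have h2 : g.ker = M.subgroupOf R := by
    ext r
    exact quo_eq_one
  rw [← h1, ← Subgroup.index_ker, h2, mul_comm,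
    ← Nat.card_congr (Subgroup.subgroupOfEquivOfLe hMR).toEquiv, Subgroup.card_mul_index]

/-- The order of `Q/M` is one modulo three. -/
theorem card_mod (h : FpfMod u M Q) : Nat.card Q % 3 = Nat.card M % 3 := by
  rw [← card_quot h.norm h.le, Nat.mul_mod, h.quot.card_mod, one_mul, Nat.mod_mod]

theorem not_dvd_quot (h : FpfMod u M Q) :
    ¬ 3 ∣ Nat.card ((Q.subgroupOf (amb M)).map (quo M)) := by
  have := h.quot.card_mod
  omega

/-- The class of `Q/M` is at most two. -/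
theorem class_two (h : FpfMod u M Q) {a b c : G} (ha : a ∈ Q) (hb : b ∈ Q) (hc : c ∈ Q) :
    ⁅⁅a, b⁆, c⁆ ∈ M := by
  have := SixCent.class_two h.quot h.not_dvd_quot (mem_quot ha (h.norm ha))
    (mem_quot hb (h.norm hb)) (mem_quot hc (h.norm hc))
  rw [← map_commutatorElement, ← map_commutatorElement] at this
  exact quo_eq_one.1 this

/-- Elements of a subgroup centralised modulo `M` by an element inverting `u` are at most a square
root of `Q/M`. -/
theorem sq_card_le (h : FpfMod u M Q) {τ : G} (hτ : τ ∈ amb M) (hu : τ * u * τ⁻¹ = u⁻¹)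
    {D : Subgroup G} (hMD : M ≤ D) (hD : D ≤ Q) (hDc : ∀ r ∈ D, ⁅τ, r⁆ ∈ M) :
    Nat.card D ^ 2 ≤ Nat.card Q * Nat.card M := by
  have hτu : quo M ⟨τ, hτ⟩ * quo M ⟨u, h.u_mem⟩ * (quo M ⟨τ, hτ⟩)⁻¹ = (quo M ⟨u, h.u_mem⟩)⁻¹ := by
    rw [← map_inv, ← map_inv, ← map_mul, ← map_mul]
    exact congrArg _ (Subtype.ext hu)
  have h1 := h.quot.sq_card_centralizer_le hτu
  have h2 : (D.subgroupOf (amb M)).map (quo M) ≤ (Q.subgroupOf (amb M)).map (quo M) ⊓
      Subgroup.centralizer ({quo M ⟨τ, hτ⟩} : Set _) := by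
    refine le_inf (Subgroup.map_mono fun x hx => hD hx) ?_
    rintro _ ⟨r, hr, rfl⟩
    exact Subgroup.mem_centralizer_singleton_iff.2 (quo_commute.2 (hDc r hr)).symm.eq
  have h3 := (Nat.pow_le_pow_left (Subgroup.card_le_of_le h2) 2).trans h1
  rw [← card_quot (hD.trans h.norm) hMD, ← card_quot h.norm h.le, mul_pow, mul_assoc, ← pow_two]
  exact Nat.mul_le_mul_right _ h3

end FpfMod

end Cfsg.Agent.SixCent
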