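import Cfsg.Agent.Lib.SixCent.Two
import Cfsg.Agent.Lib.SixCent.PSLSeven

/-!
The centraliser of an involution modulo the involution is not `PSL(2,7)`.
-/

set_option autoImplicit false
set_option linter.style.haveILetI false
set_option linter.unusedSectionVars false

open Subgroup

namespace Cfsg.Agent.SixCent

universe v

variable {G : Type v} [Group G] [Finite G]

theorem seven_false [IsSimpleGroup G] (h : Hyp G) {t : G} (ht : orderOf t = 2)
    (e : Bar t ≃* PSLSeven.Q7) : False := by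
  classical
  haveI : Fact (Nat.Prime 2) := ⟨Nat.prime_two⟩
  obtain ⟨z, g, f, hz, hg, hg4, hf, hfg, hconj, hcen⟩ := PSLSeven.facts
  let φ : CC t →* PSLSeven.Q7 := e.toMonoidHom.comp (bar t)
  have hker : ∀ {x : CC t}, φ x = 1 ↔ (x : G) ∈ zpowers t := fun {x} =>
    (EmbeddingLike.map_eq_one_iff (f := e)).trans bar_eq_one
  have hφ : Function.Surjective φ := e.surjective.comp (QuotientGroup.mk'_surjective _)
  have htC : ∀ a ∈ zpowers t, ∀ x ∈ CC t, Commute x a := fun a ha x hx => Sol.T_cent ha hx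
  have hcong : ∀ {x y : CC t}, φ x = φ y → ∃ a ∈ zpowers t, (x : G) = (y : G) * a := by
    intro x y hxy
    refine ⟨(y : G)⁻¹ * x, ?_, by group⟩
    have h1 : φ (y⁻¹ * x) = 1 := by rw [map_mul, map_inv, hxy, inv_mul_cancel]
    exact_mod_cast hker.1 h1
  have hsqT : ∀ {x y : CC t}, φ x = φ y → (x : G) * x = (y : G) * y := by
    intro x y hxy
    obtain ⟨a, ha, hxe⟩ := hcong hxy
    rw [hxe, show (y : G) * a * ((y : G) * a) = (y : G) * (a * (y : G)) * a by group,
      ← (htC a ha y y.2).eq, show (y : G) * ((y : G) * a) * a = ((y : G) * y) * (a * a) by group]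
    rcases mem_zpowers_two ht ha with ha1 | ha1 <;> rw [ha1]
    · rw [mul_one, mul_one]
    · rw [sq_eq_one_of_invol ht, mul_one]
  -- a Sylow subgroup over the centraliser of `z`
  obtain ⟨S₁, hS₁⟩ := exists_sylow_cc h ht
  obtain ⟨y, hyS, hy, hyt⟩ := exists_other_invol h ht S₁
  set yC : CC t := ⟨y, hS₁ hyS⟩
  have hy1 : φ yC ≠ 1 := fun hm => by
    rcases mem_zpowers_two ht (hker.1 hm) with e' | e'
    · exact ne_one_of_invol hy e'
    · exact hyt e'
  have hy2 : φ yC * φ yC = 1 := by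
    rw [← map_mul, show yC * yC = 1 from Subtype.ext (sq_eq_one_of_invol hy), map_one]
  -- involutions lift to involutions
  have hlift : ∀ x : CC t, φ x * φ x = 1 → (x : G) * x = 1 := by
    intro x hx
    by_cases hx1 : φ x = 1
    · rcases mem_zpowers_two ht (hker.1 hx1) with e' | e' <;> rw [e']
      · exact one_mul 1
      · exact sq_eq_one_of_invol ht
    obtain ⟨a, ha⟩ := hconj _ hx hx1
    obtain ⟨b, hb⟩ := hconj _ hy2 hy1
    obtain ⟨k, hk⟩ := hφ (a * b⁻¹)
    have e1 : φ x = φ (k * yC * k⁻¹) := by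
      rw [map_mul, map_mul, map_inv, hk, ← hb, ← ha]; group
    rw [hsqT e1]
    push_cast
    rw [show (k : G) * y * (k : G)⁻¹ * ((k : G) * y * (k : G)⁻¹) = k * (y * y) * (k : G)⁻¹ by group,
      sq_eq_one_of_invol hy, mul_one, mul_inv_cancel]
  have hpow8 : ∀ x : CC t, φ x * z = z * φ x → φ x ^ 4 = 1 := by
    intro x hx
    obtain ⟨k, b, hb, e'⟩ := hcen _ hx
    rw [e']
    interval_cases b
    · rw [pow_zero, mul_one, ← pow_mul, mul_comm, pow_mul, hg4, one_pow]
    · have h2 : g ^ k * f * (g ^ k * f) = 1 := by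
        have h3 : f * g ^ k * f⁻¹ = (g ^ k)⁻¹ := by rw [← conj_pow, hfg, inv_pow]
        calc g ^ k * f * (g ^ k * f) = g ^ k * (f * g ^ k * f⁻¹) * (f * f) := by group
          _ = 1 := by rw [h3, hf, mul_inv_cancel, mul_one]
      rw [pow_one, show 4 = 2 * 2 from rfl, pow_mul, pow_two (g ^ k * f), h2, one_pow]
  -- move the Sylow subgroup
  obtain ⟨S, hS, hSz⟩ : ∃ S : Sylow 2 G, (S : Subgroup G) ≤ CC t ∧
      ∀ x : CC t, (x : G) ∈ (S : Subgroup G) ↔ φ x * z = z * φ x := by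
    let P : Subgroup PSLSeven.Q7 := ((S₁ : Subgroup G).subgroupOf (CC t)).map φ
    have hP : IsPGroup 2 P := S₁.isPGroup'.comap_subtype.map φ
    haveI : Nontrivial P := ⟨⟨φ yC, mem_map_of_mem φ (mem_subgroupOf.2 hyS)⟩, 1,
      fun e' => hy1 (congrArg Subtype.val e')⟩
    haveI := hP.center_nontrivial
    obtain ⟨⟨w, hwc⟩, hw⟩ := exists_prime_orderOf_dvd_card' (G := center P) 2 (by
      obtain ⟨k, hk⟩ := (hP.to_subgroup (center P)).exists_card_eq
      have h1 := Finite.one_lt_card (α := center P)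
      rw [hk] at h1 ⊢
      refine dvd_pow_self 2 ?_
      rintro rfl
      simp at h1)
    have hwo : orderOf (w : PSLSeven.Q7) = 2 := by rw [orderOf_coe, ← Subgroup.orderOf_mk _ hwc, hw]
    obtain ⟨a, ha⟩ := hconj (w : PSLSeven.Q7) (by rw [← pow_two]; exact orderOf_dvd_iff_pow_eq_one.1 hwo.dvd)
      (fun e' => by rw [e', orderOf_one] at hwo; omega)
    obtain ⟨k, hk⟩ := hφ a⁻¹
    refine ⟨(k : G) • S₁, fun x hx => ?_, ?_⟩
    · have := mul_mem (mul_mem k.2 (hS₁ (mem_smul_sylow.1 hx))) (inv_mem k.2)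
      simpa [mul_assoc] using this
    have hin : ∀ x : CC t, (x : G) ∈ (↑((k : G) • S₁) : Subgroup G) → φ x * z = z * φ x := by
      intro x hx
      have h1 : φ (k⁻¹ * x * k) ∈ P := mem_map_of_mem φ (mem_subgroupOf.2 (mem_smul_sylow.1 hx))
      have h2 : (w : PSLSeven.Q7) * φ (k⁻¹ * x * k) = φ (k⁻¹ * x * k) * w :=
        (congrArg Subtype.val (mem_center_iff.1 hwc ⟨_, h1⟩)).symm
      rw [map_mul, map_mul, map_inv, hk, inv_inv, ← ha] at h2
      calc φ x * z = a⁻¹ * ((a * φ x * a⁻¹) * (a * z * a⁻¹)) * a := by group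
        _ = a⁻¹ * ((a * z * a⁻¹) * (a * φ x * a⁻¹)) * a := by rw [h2]
        _ = z * φ x := by group
    let D : Subgroup G := ((centralizer ({z} : Set PSLSeven.Q7)).comap φ).map (CC t).subtype
    have hD2 : IsPGroup 2 D := by
      rintro ⟨_, x, hx, rfl⟩
      refine ⟨3, Subtype.ext ?_⟩
      have h4 := hker.1 ((map_pow φ x 4).trans (hpow8 x (mem_centralizer_singleton_iff.1 hx)))
      push_cast at h4
      show (x : G) ^ 8 = 1
      rw [show 8 = 4 * 2 from rfl, pow_mul, pow_two ((x : G) ^ 4)]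
      exact Sol.T_sq ht h4
    have hSD : (↑((k : G) • S₁) : Subgroup G) ≤ D := fun x hx => by
      have hxC : x ∈ CC t := by
        have := mul_mem (mul_mem k.2 (hS₁ (mem_smul_sylow.1 hx))) (inv_mem k.2)
        simpa [mul_assoc] using this
      exact ⟨⟨x, hxC⟩, mem_centralizer_singleton_iff.2 (hin ⟨x, hxC⟩ hx), rfl⟩
    have hDS : D = (↑((k : G) • S₁) : Subgroup G) := ((k : G) • S₁).is_maximal' hD2 hSD
    exact fun x => ⟨hin x, fun hx =>
      hDS ▸ ⟨x, mem_centralizer_singleton_iff.2 hx, rfl⟩⟩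
  obtain ⟨G₀, hG₀⟩ := hφ g
  obtain ⟨F₀, hF₀⟩ := hφ f
  have hgz : g * z = z * g := by rw [← hg, mul_assoc]
  have hfz : f * z = z * f := by
    have h1 : f * z * f⁻¹ = z := by
      calc f * z * f⁻¹ = (f * g * f⁻¹) * (f * g * f⁻¹) := by rw [← hg]; group
        _ = (g * g)⁻¹ := by rw [hfg, mul_inv_rev]
        _ = g ^ 4 * (g * g)⁻¹ := by rw [hg4, one_mul]
        _ = z := by rw [← hg]; simp [pow_succ, mul_assoc]
    exact mul_inv_eq_iff_eq_mul.1 h1
  set c : G := (G₀ : G) * G₀ with hc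
  have hGS : (G₀ : G) ∈ (S : Subgroup G) := (hSz G₀).2 (by rw [hG₀, hgz])
  have hcS : c ∈ (S : Subgroup G) := mul_mem hGS hGS
  have hφc : φ (G₀ * G₀) = z := by rw [map_mul, hG₀, hg]
  have hcT : c ∉ zpowers t := fun hm => hz (by rw [← hφc]; exact hker.2 hm)
  have hc2 : c * c = 1 := by
    have := hlift (G₀ * G₀) (by rw [hφc, ← hg, show g * g * (g * g) = g ^ 4 by simp [pow_succ, mul_assoc], hg4])
    exact this
  have hcinv : c⁻¹ = c := inv_eq_of_mul_eq_one_right hc2
  have hGc : Commute (G₀ : G) c := (Commute.refl _).mul_right (Commute.refl _)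
  -- the shape of the elements
  have hform : ∀ x : CC t, (x : G) ∈ (S : Subgroup G) →
      ((x : G) * x = 1 ∨ (x : G) * x = c) ∧ Commute (x : G) c := by
    intro x hx
    obtain ⟨k, b, hb, e'⟩ := hcen _ ((hSz x).1 hx)
    have e1 : φ x = φ (G₀ ^ k * F₀ ^ b) := by rw [map_mul, map_pow, map_pow, hG₀, hF₀, e']
    obtain ⟨a, ha, hxa⟩ := hcong e1
    push_cast at hxa
    have hF : Commute (F₀ : G) c := by
      have e2 : φ (F₀ * G₀ * F₀⁻¹) = φ G₀⁻¹ := by rw [map_mul, map_mul, map_inv, map_inv, hF₀, hG₀, hfg]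
      have e3 := hsqT e2
      push_cast at e3
      refine mul_inv_eq_iff_eq_mul.1 ?_
      rw [hc, show (F₀ : G) * ((G₀ : G) * G₀) * (F₀ : G)⁻¹ =
        (F₀ : G) * G₀ * (F₀ : G)⁻¹ * ((F₀ : G) * G₀ * (F₀ : G)⁻¹) by group, e3, ← mul_inv_rev, ← hc,
        hcinv]
    have hac : Commute a c := (htC a ha c (hS hcS)).symm
    refine ⟨?_, by rw [hxa]; exact ((hGc.pow_left k).mul_left (hF.pow_left b)).mul_left hac⟩
    interval_cases b
    · have e2 : φ x = φ (G₀ ^ k) := by rw [e1, pow_zero, mul_one]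
      rw [hsqT e2]
      push_cast
      rw [← (Commute.refl (G₀ : G)).mul_pow, ← hc, pow_eq_pow_mod k (show c ^ 2 = 1 by rw [pow_two, hc2])]
      rcases Nat.mod_two_eq_zero_or_one k with e3 | e3 <;> rw [e3]
      · exact Or.inl (pow_zero c)
      · exact Or.inr (pow_one c)
    · refine Or.inl (hlift x ?_)
      rw [e', pow_one]
      calc g ^ k * f * (g ^ k * f) = g ^ k * (f * g ^ k * f⁻¹) * (f * f) := by group
        _ = 1 := by rw [← conj_pow, hfg, inv_pow, hf, mul_inv_cancel, mul_one]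
  have hc' : orderOf c = 2 := orderOf_eq_two hc2 fun e' => hcT (e' ▸ one_mem _)
  obtain ⟨n, hn, hnt⟩ := fusion_center S (a := t) (b := c) (fun s hs => mem_CC.1 (hS hs))
    (fun s hs => (hform ⟨s, hS hs⟩ hs).2) (h.one t c ht hc')
  have hs : n⁻¹ * G₀ * n ∈ (S : Subgroup G) := by
    have := (mem_normalizer_iff.1 (inv_mem hn) G₀).1 hGS
    rwa [inv_inv] at this
  have e1 : n⁻¹ * (G₀ : G) * n * (n⁻¹ * G₀ * n) = t := by
    calc n⁻¹ * (G₀ : G) * n * (n⁻¹ * G₀ * n) = n⁻¹ * ((G₀ : G) * G₀) * n := by group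
      _ = n⁻¹ * (n * t * n⁻¹) * n := by rw [hnt]
      _ = t := by group
  rcases (hform ⟨_, hS hs⟩ hs).1 with e2 | e2 <;> dsimp only at e2 <;> rw [e1] at e2
  · exact ne_one_of_invol ht e2
  · exact hcT (e2 ▸ mem_zpowers t)

end Cfsg.Agent.SixCent
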