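import Cfsg.Agent.Lib.SixCent.Eight
import Cfsg.Agent.Lib.SixCent.ShapeSeven
import Cfsg.Agent.Lib.SixCent.FiveZero
import Cfsg.Agent.Lib.SixCent.FiveFalse

/-!
One class of involutions and a self-centralising element of order 6: `L₂(11)`, `L₂(13)`, `L₃(3)`, `M₁₁` or `J₁`.
-/

set_option autoImplicit false
set_option linter.style.haveILetI false

open Subgroup

namespace Cfsg.Agent.SixCent

universe v

variable {G : Type v} [Group G] [Finite G] [IsSimpleGroup G]

theorem classification (hG : ¬ IsMulCommutative G)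
    (h1 : ∀ x y : G, orderOf x = 2 → orderOf y = 2 → IsConj x y) {x : G} (hx : orderOf x = 6)
    (hC : centralizer ({x} : Set G) = zpowers x) :
    (∃ (F : Type) (_ : Field F) (_ : Fintype F), (Fintype.card F = 11 ∨ Fintype.card F = 13) ∧
        Nonempty (G ≃* Matrix.ProjectiveSpecialLinearGroup (Fin 2) F)) ∨
      (∃ (F : Type) (_ : Field F) (_ : Fintype F), Fintype.card F = 3 ∧
        Nonempty (G ≃* Matrix.ProjectiveSpecialLinearGroup (Fin 3) F)) ∨
      Cfsg.Spor.IsoM11 G ∨ Cfsg.Spor.IsoJ1 G := by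
  classical
  have h : Hyp G := ⟨fun hc => hG ⟨⟨fun a b => (IsCyclic.commGroup (α := G)).mul_comm a b⟩⟩, h1,
    fun t ht => six_of_witness h1 hx hC ht⟩
  set t := x ^ 3
  have ht : orderOf t = 2 := by rw [orderOf_pow' x (by norm_num), hx]; rfl
  obtain ⟨u, hu, hut, hs⟩ := h.six t ht
  obtain ⟨hord, hself⟩ := bar_self ht hu hut hs
  rcases SelfThree.main _ (Bar t) rfl _ hord hself with
    ⟨Nb, hN, hnil, h3, hq⟩ | ⟨Nb, hN, hc, h2, ⟨e⟩⟩ | he
  · have hidx : Nb.index ∣ 6 := by
      rcases hq with hq | ⟨⟨e⟩⟩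
      · exact (show Nb.index = 3 from hq) ▸ (by norm_num)
      · rw [Subgroup.index, Nat.card_congr e.toEquiv, Nat.card_perm, Nat.card_fin]
        decide
    obtain ⟨d⟩ := sol_of_nilpotent ht hu hut hs Nb hnil
      (Nat.prime_three.coprime_iff_not_dvd.1 h3.symm) hidx
    have h8 := d.S0_le_eight ht h
    have hmod := d.inv_mod ht d.T_le le_rfl (d.normS _ d.u_mem)
    haveI : Fact (Nat.Prime 2) := ⟨Nat.prime_two⟩
    obtain ⟨k, hk⟩ := d.two.exists_card_eq
    have hk3 : k = 1 ∨ k = 3 := by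
      rw [hk] at h8 hmod
      have hk4 : k ≤ 3 := (Nat.pow_le_pow_iff_right (a := 2) (by norm_num)).1 (h8.trans_eq (by norm_num))
      interval_cases k <;> first | (norm_num at hmod; done) | norm_num
    rcases hk3 with rfl | rfl
    · exact Or.inl (d.two_case ht h (by rw [hk]; norm_num) hx hC)
    · exact Or.inr ((d.eight_case ht h (by rw [hk]; norm_num)).imp_right Or.inl)
  · obtain ⟨d⟩ := five_of_alt ht hu hut hs Nb hc h2 e
    exact Or.inr (Or.inr (Or.inr (d.janko ht h (d.radical_eq ht h))))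
  · obtain ⟨e⟩ := he
    exact (seven_false h ht e).elim

end Cfsg.Agent.SixCent
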