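import Cfsg.Agent.Lib.SixCent.Extra
import Mathlib.GroupTheory.Transfer
import Mathlib.GroupTheory.Sylow

/-!
An elementary abelian group of order 16 with transitive fusion: `S0` has order at most 8.
-/

set_option autoImplicit false
set_option linter.style.haveILetI false
set_option linter.unusedSectionVars false

open scoped commutatorElement
open Subgroup Cfsg.Agent.SelfThree

namespace Cfsg.Agent.SixCent

universe v

/-- A group transitive on fifteen points with a point stabiliser a four-group fixing one point. -/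
theorem fifteen_false {X V : Type v} [Group X] [Finite X] [Group V] [Finite V] (φ : X →* MulAut V)
    (hinj : Function.Injective φ) (hV : Nat.card V = 16) {t : V} (ht : t ≠ 1) (St : Subgroup X)
    (hSt : ∀ x, x ∈ St ↔ φ x t = t) (h4 : Nat.card St = 4) (hsq : Elem St)
    (htr : ∀ w : V, w ≠ 1 → ∃ x, φ x t = w)
    (hfix : ∀ w : V, (∀ x ∈ St, φ x w = w) → w = 1 ∨ w = t) : False := by
  classical
  haveI : Fact (Nat.Prime 2) := ⟨Nat.prime_two⟩
  haveI : Fact (Nat.Prime 5) := ⟨by norm_num⟩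
  have hne : ∀ x, φ x t ≠ 1 := fun x h => ht (by simpa using h)
  -- the order
  choose f hf using htr
  have hbij : Function.Bijective
      (fun w : {w : V // w ≠ 1} => (QuotientGroup.mk (f w.1 w.2) : X ⧸ St)) := by
    refine ⟨fun a b hab => ?_, fun q => ?_⟩
    · have h1 := (hSt _).1 (QuotientGroup.eq.1 hab)
      rw [map_mul, map_inv, MulAut.mul_apply, hf b.1 b.2, MulAut.inv_apply,
        MulEquiv.symm_apply_eq, hf a.1 a.2] at h1
      exact Subtype.ext h1.symm
    · obtain ⟨x, rfl⟩ := QuotientGroup.mk_surjective q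
      refine ⟨⟨φ x t, hne x⟩, QuotientGroup.eq.2 ((hSt _).2 ?_)⟩
      rw [map_mul, map_inv, MulAut.mul_apply, MulAut.inv_apply, MulEquiv.symm_apply_eq, hf]
  have h15 : St.index = 15 := by
    have h := Nat.card_eq_of_bijective _ hbij
    haveI := Fintype.ofFinite V
    rw [Nat.card_eq_fintype_card, Fintype.card_subtype_compl, Fintype.card_subtype_eq,
      ← Nat.card_eq_fintype_card, hV] at h
    exact h.symm
  have hX : Nat.card X = 60 := by rw [← St.card_mul_index, h4, h15]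
  -- the stabiliser is a Sylow subgroup equal to its normaliser
  obtain ⟨P, hP⟩ := (IsPGroup.of_card (n := 2) (p := 2) (by rw [h4]; norm_num) : IsPGroup 2 St).exists_le_sylow
  have hPeq : (P : Subgroup X) = St := by
    refine (eq_of_le_of_card_ge hP ?_).symm
    obtain ⟨k, hk⟩ := P.isPGroup'.exists_card_eq
    have h1 := (P : Subgroup X).card_subgroup_dvd_card
    rw [hk, hX] at h1
    rw [hk, h4]
    by_contra hh
    rcases k with _ | _ | _ | k
    · norm_num at hh
    · norm_num at hh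
    · norm_num at hh
    · have : 8 ∣ 60 := (Dvd.intro (2 ^ k) (by ring)).trans h1
      norm_num at this
  have hN : normalizer ((P : Subgroup X) : Set X) ≤ centralizer ((P : Subgroup X) : Set X) := by
    intro n hn
    rw [hPeq] at hn ⊢
    have hn' : n ∈ St := by
      refine (hSt n).2 ((hfix _ fun x hx => ?_).resolve_left (hne n))
      have h1 : n⁻¹ * x * n ∈ St := (mem_normalizer_iff''.1 hn x).1 hx
      calc φ x (φ n t) = φ n (φ (n⁻¹ * x * n) t) := by
            rw [← MulAut.mul_apply, ← map_mul, ← MulAut.mul_apply, ← map_mul]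
            congr 2
            group
        _ = φ n t := by rw [(hSt _).1 h1]
    exact hsq.self_cent hn'
  set R := (MonoidHom.transferSylow P hN).ker
  have hR : Nat.card R = 15 := by
    have h := (MonoidHom.ker_transferSylow_isComplement' P hN).card_mul_card
    have e : Nat.card (P : Subgroup X) = 4 := by rw [hPeq, h4]
    rw [e, hX] at h
    change Nat.card R * 4 = 60 at h
    omega
  obtain ⟨z, hz⟩ := exists_prime_orderOf_dvd_card' (G := R) 5 (by rw [hR]; norm_num)
  obtain ⟨P5, hP5⟩ := (IsPGroup.of_card (n := 1) (p := 5)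
    (by rw [Nat.card_zpowers, hz, pow_one]) : IsPGroup 5 (zpowers z)).exists_le_sylow
  have hP5c : Nat.card (P5 : Subgroup R) = 5 := by
    obtain ⟨k, hk⟩ := P5.isPGroup'.exists_card_eq
    have h1 := (P5 : Subgroup R).card_subgroup_dvd_card
    have h2 := card_le_of_le hP5
    rw [hk, hR] at h1
    rw [Nat.card_zpowers, hz, hk] at h2
    rw [hk]
    rcases k with _ | _ | k
    · norm_num at h2
    · norm_num
    · have : 25 ∣ 15 := (Dvd.intro (5 ^ k) (by ring)).trans h1
      norm_num at this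
  haveI : Subsingleton (Sylow 5 R) := by
    have h1 := card_sylow_modEq_one 5 R
    have h2 := P5.card_dvd_index
    have h3 := (P5 : Subgroup R).card_mul_index
    rw [hP5c, hR] at h3
    rw [show (P5 : Subgroup R).index = 3 by omega] at h2
    have h4 := (Nat.dvd_prime Nat.prime_three).1 h2
    unfold Nat.ModEq at h1
    rw [← Finite.card_le_one_iff_subsingleton]
    omega
  have hz5 : ∀ r : R, orderOf r = 5 → r ∈ zpowers z := by
    intro r hr
    obtain ⟨Q, hQ⟩ := (IsPGroup.of_card (n := 1) (p := 5)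
      (by rw [Nat.card_zpowers, hr, pow_one]) : IsPGroup 5 (zpowers r)).exists_le_sylow
    rw [Subsingleton.elim Q P5] at hQ
    rw [eq_of_le_of_card_ge hP5 (by rw [hP5c, Nat.card_zpowers, hz])]
    exact hQ (mem_zpowers r)
  have hzX : orderOf (z : X) = 5 := by rw [orderOf_coe, hz]
  -- an involution inverts or centralises `z`
  have hinv : ∀ g ∈ St, g * z * g⁻¹ = (z : X) ∨ g * z * g⁻¹ = (z : X)⁻¹ := by
    intro g hg
    have hg2 : g * g = 1 := hsq g hg
    have hm : g * z * g⁻¹ ∈ R := (MonoidHom.normal_ker _).conj_mem _ z.2 g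
    have ho : orderOf (⟨g * z * g⁻¹, hm⟩ : R) = 5 := by
      rw [Subgroup.orderOf_mk, orderOf_conj, hzX]
    obtain ⟨i, hi⟩ := mem_zpowers_iff.1 (hz5 _ ho)
    have hi' : g * z * g⁻¹ = (z : X) ^ i := by
      simpa using (congrArg Subtype.val hi).symm
    have h2 : (z : X) ^ (i * i) = (z : X) ^ (1 : ℤ) := by
      rw [zpow_mul, ← hi', conj_zpow, ← hi', zpow_one,
        show g * (g * z * g⁻¹) * g⁻¹ = (g * g) * z * (g * g)⁻¹ by group, hg2]
      group
    rw [zpow_eq_zpow_iff_modEq, hzX] at h2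
    rw [hi']
    have hmod : (i : ℤ) % 5 = 1 ∨ (i : ℤ) % 5 = 4 := by
      have h3 : (i % 5) * (i % 5) % 5 = 1 := by
        rw [← Int.mul_emod]; exact h2
      have h0 := Int.emod_nonneg i (show (5 : ℤ) ≠ 0 by norm_num)
      have h5 := Int.emod_lt_of_pos i (show (0 : ℤ) < 5 by norm_num)
      generalize i % 5 = j at h3 h0 h5
      interval_cases j <;> simp_all
    rcases hmod with e | e
    · refine Or.inl ?_
      conv_rhs => rw [← zpow_one (z : X)]
      rw [zpow_eq_zpow_iff_modEq, hzX]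
      exact e
    · refine Or.inr ?_
      rw [← zpow_neg_one, zpow_eq_zpow_iff_modEq, hzX]
      exact e
  -- one of them centralises `z`
  obtain ⟨g, hg, hg1, hgz⟩ : ∃ g ∈ St, g ≠ 1 ∧ g * z * g⁻¹ = (z : X) := by
    obtain ⟨a, ha, ha1⟩ := SetLike.not_le_iff_exists.1 fun hle : St ≤ ⊥ => by
      have := card_le_of_le hle
      rw [h4, card_bot] at this
      omega
    obtain ⟨b, hb, hb1⟩ := SetLike.not_le_iff_exists.1 fun hle : St ≤ zpowers a => by
      have := card_le_of_le hle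
      rw [h4, Nat.card_zpowers, orderOf_eq_two (hsq a ha) fun e => ha1 (mem_bot.2 e)] at this
      omega
    rcases hinv a ha with e | e
    · exact ⟨a, ha, fun e' => ha1 (mem_bot.2 e'), e⟩
    rcases hinv b hb with e' | e'
    · exact ⟨b, hb, fun e'' => hb1 (e'' ▸ one_mem _), e'⟩
    refine ⟨a * b, mul_mem ha hb, fun e'' => hb1 ?_, ?_⟩
    · rw [eq_inv_of_mul_eq_one_right e'']; exact inv_mem (mem_zpowers a)
    · calc a * b * z * (a * b)⁻¹ = a * (b * z * b⁻¹) * a⁻¹ := by group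
        _ = (a * z * a⁻¹)⁻¹ := by rw [e']; group
        _ = z := by rw [e, inv_inv]
  -- the fixed points of `g`
  let C : Subgroup V :=
    { carrier := {w | φ g w = w}
      one_mem' := map_one _
      mul_mem' := fun {a b} (ha : φ g a = a) (hb : φ g b = b) => show φ g (a * b) = a * b by
        rw [map_mul, ha, hb]
      inv_mem' := fun {a} (ha : φ g a = a) => show φ g a⁻¹ = a⁻¹ by rw [map_inv, ha] }
  have hmem : ∀ w, w ∈ C ↔ φ g w = w := fun w => Iff.rfl
  have hcomm : ∀ x ∈ zpowers (z : X), ∀ w ∈ C, φ x w ∈ C := fun x hx w hw => by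
    obtain ⟨i, rfl⟩ := mem_zpowers_iff.1 hx
    have hc : Commute g ((z : X) ^ i) :=
      (show Commute g (z : X) from mul_inv_eq_iff_eq_mul.1 hgz).zpow_right i
    rw [hmem, ← MulAut.mul_apply, ← map_mul, hc.eq, map_mul, MulAut.mul_apply, (hmem w).1 hw]
  letI : MulAction (zpowers (z : X)) C :=
    { smul := fun x w => ⟨φ x w, hcomm x x.2 w w.2⟩
      one_smul := fun w => Subtype.ext (by show φ ((1 : zpowers (z : X)) : X) w = w; simp)
      mul_smul := fun a b w => Subtype.ext (by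
        show φ ((a * b : zpowers (z : X)) : X) w = φ a (φ b w)
        rw [coe_mul, map_mul, MulAut.mul_apply]) }
  have hfp : ∀ w : C, w ∈ MulAction.fixedPoints (zpowers (z : X)) C → w = 1 := by
    intro w hw
    by_contra hne1
    have hw1 : (w : V) ≠ 1 := fun e => hne1 (Subtype.ext e)
    have e := congrArg Subtype.val (hw ⟨z, mem_zpowers _⟩)
    change φ (z : X) w = w at e
    have h1 : (f _ hw1)⁻¹ * z * f _ hw1 ∈ St := by
      rw [hSt, map_mul, map_mul, MulAut.mul_apply, MulAut.mul_apply, hf _ hw1, e, map_inv,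
        MulAut.inv_apply, MulEquiv.symm_apply_eq, hf _ hw1]
    have h2 := St.orderOf_dvd_natCard h1
    rw [h4, show (f _ hw1)⁻¹ * z * f _ hw1 = (f _ hw1)⁻¹ * z * ((f _ hw1)⁻¹)⁻¹ by rw [inv_inv],
      orderOf_conj, hzX] at h2
    norm_num at h2
  have hmod := (IsPGroup.of_card (n := 1) (p := 5)
    (by rw [Nat.card_zpowers, hzX, pow_one]) : IsPGroup 5 (zpowers (z : X))).card_modEq_card_fixedPoints C
  have h1 : Nat.card (MulAction.fixedPoints (zpowers (z : X)) C) = 1 := by
    rw [Nat.card_eq_one_iff_unique]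
    exact ⟨⟨fun a b => Subtype.ext ((hfp _ a.2).trans (hfp _ b.2).symm)⟩,
      ⟨⟨1, fun x => Subtype.ext (map_one (φ (x : X)))⟩⟩⟩
  rw [h1] at hmod
  have hCdvd := C.card_subgroup_dvd_card
  rw [hV] at hCdvd
  have hC1 : Nat.card C ≠ 1 := fun e => ht (by
    have : t ∈ C := (hSt g).1 hg
    rwa [card_eq_one.1 e, mem_bot] at this)
  have hC16 : Nat.card C ≠ 16 := fun e => hg1 (hinj (by
    rw [map_one]
    refine MulEquiv.ext fun w => ?_
    have : w ∈ C := (eq_top_of_card_eq C (e.trans hV.symm)) ▸ mem_top w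
    exact this))
  have hle := Nat.le_of_dvd (by norm_num) hCdvd
  unfold Nat.ModEq at hmod
  obtain ⟨k, hk, hk'⟩ := (Nat.dvd_prime_pow Nat.prime_two).1 (show Nat.card C ∣ 2 ^ 4 from hCdvd)
  interval_cases k <;> omega

variable {G : Type v} [Group G] [Finite G]

namespace Sol

variable {t : G} (d : Sol t) (ht : orderOf t = 2) (h : Hyp G) [IsSimpleGroup G]

include ht h in
theorem outer_false {y : G} (hy : y ∈ CC t) (hy0 : y ∉ d.S0) (hy2 : y * y = 1)
    {W : Subgroup G} (hWS : W ≤ d.S0) (hTW : zpowers t ≤ W) (hWel : Elem W)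
    (hW8 : Nat.card W = 8) (hyW : ∀ r ∈ W, Commute y r) (h32 : Nat.card d.S0 = 32) : False := by
  classical
  haveI : Fact (Nat.Prime 2) := ⟨Nat.prime_two⟩
  have hy1 : y ≠ 1 := fun e => hy0 (e ▸ one_mem _)
  have hy2' : ∃ k : ℕ, orderOf y = 2 ^ k := ⟨1, by rw [orderOf_eq_two hy2 hy1, pow_one]⟩
  have htW : t ∈ W := hTW (mem_zpowers t)
  -- the Sylow subgroup
  set P := d.S0 ⊔ zpowers y
  have hP2 : IsPGroup 2 P := by
    refine d.two.to_sup_of_normal_left' (IsPGroup.of_card (n := 1)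
      (by rw [Nat.card_zpowers, orderOf_eq_two hy2 hy1, pow_one])) ?_
    exact zpowers_le.2 (norm_of_conj (fun g hg q hq => d.normS g hg q hq) hy)
  have hP64 : Nat.card P ≤ 64 := (card_sup_zpowers_le (fun q hq => d.normS y hy q hq)
    (hy2 ▸ one_mem _)).trans (by rw [h32])
  have hP64' : 64 ≤ Nat.card P := by
    have : 2 * Nat.card d.S0 ≤ Nat.card P := sup_double hy0
    omega
  have hPC : P ≤ CC t := sup_le d.S0_le (zpowers_le.2 hy)
  obtain ⟨S, hS⟩ : ∃ S : Sylow 2 G, (S : Subgroup G) = P := by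
    obtain ⟨S, hS⟩ := hP2.exists_le_sylow
    obtain ⟨S₁, hS₁⟩ := exists_sylow_cc h ht
    refine ⟨S, (eq_of_le_of_card_ge hS ?_).symm⟩
    rw [S.card_eq_multiplicity, ← S₁.card_eq_multiplicity]
    have h1 := d.card_le_two_mul ht S₁.isPGroup' hS₁
    have h2 := card_le_of_le (inf_le_right : (S₁ : Subgroup G) ⊓ d.S0 ≤ d.S0)
    omega
  have hyP : y ∈ P := mem_sup_right (mem_zpowers y)
  have hS0P : d.S0 ≤ P := le_sup_left
  have hsplit : ∀ p ∈ P, p ∈ d.S0 ∨ y⁻¹ * p ∈ d.S0 := fun p hp => by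
    by_cases hp0 : p ∈ d.S0
    · exact Or.inl hp0
    · exact Or.inr (d.two_group_mul ht hP2 hPC hyP hp hy0 hp0)
  -- `W` is the subgroup fixed by `y`
  have hWF : W = d.fixT y := by
    refine eq_of_le_of_card_ge (fun r hr => ⟨hWS hr, by
      rw [comm_eq_one_iff.2 (hyW r hr)]; exact one_mem _⟩) ?_
    have := d.outside_bound ht hy hy2' hy0 (D := d.fixT y) (d.T_le_fixT hy) (d.fixT_le y)
      fun r hr => hr.2
    rw [h32] at this
    nlinarith
  have hfixq : ∀ p ∈ P, p ∉ d.S0 → ∀ r ∈ d.S0, ⁅p, r⁆ ∈ zpowers t → r ∈ W := by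
    intro p hp hp0 r hr hpr
    have hq := (hsplit p hp).resolve_left hp0
    have e : ⁅p, r⁆ = y * ⁅y⁻¹ * p, r⁆ * y⁻¹ * ⁅y, r⁆ := by
      simp only [commutatorElement_def]; group
    rw [e] at hpr
    rw [hWF]
    exact ⟨hr, (mul_mem_cancel_left (conj_mem_zt hy (d.comm_mem_T ht h hq hr))).1 hpr⟩
  have hCW : ∀ q ∈ d.S0, (∀ r ∈ W, Commute q r) → q ∈ W := by
    intro q hq hc
    have h1 := d.perp_bound ht h hTW hWS
    set C := d.S0 ⊓ centralizer (W : Set G)
    have h2 : Nat.card C ≤ 8 := by rw [hW8, h32] at h1; omega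
    have hqC : q ∈ C := ⟨hq, mem_centralizer_iff.2 fun r hr => (hc r hr).eq.symm⟩
    exact (eq_of_le_of_card_ge (le_inf hWS hWel.self_cent) (h2.trans hW8.ge)).ge hqC
  set E := W ⊔ zpowers y
  have hEel : Elem E := hWel.sup hy2 hyW
  have hWE : W ≤ E := le_sup_left
  have hyE : y ∈ E := mem_sup_right (mem_zpowers y)
  have htE : t ∈ E := hWE htW
  have hEP : E ≤ P := sup_le (hWS.trans hS0P) (zpowers_le.2 hyP)
  have hE16 : Nat.card E = 16 := by
    have h1 : Nat.card E ≤ 2 * Nat.card W := card_sup_zpowers_le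
      (fun r hr => by rw [(hyW r hr).eq, mul_inv_cancel_right]; exact hr) (hy2 ▸ one_mem _)
    have h2 : 2 * Nat.card W ≤ Nat.card E := sup_double fun hm => hy0 (hWS hm)
    omega
  have hCE : ∀ p ∈ P, (∀ a ∈ E, Commute p a) → p ∈ E := by
    intro p hp hc
    rcases hsplit p hp with hp0 | hp0
    · exact hWE (hCW p hp0 fun r hr => hc r (hWE hr))
    · have := hCW _ hp0 fun r hr => ((hyW r hr).inv_left).mul_left (hc r (hWE hr))
      simpa using mul_mem hyE (hWE this)
  -- uniqueness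
  have huniq : ∀ F : Subgroup G, F ≤ P → Elem F → Nat.card F = 16 → F ≤ E := by
    intro F hF hFel hF16
    have h1 := d.card_le_two_mul ht (hP2.to_le hF) (hF.trans hPC)
    set F0 := F ⊓ d.S0
    set F0' := F0 ⊔ zpowers t
    have hF0'S : F0' ≤ d.S0 := sup_le inf_le_right d.T_le
    have hF0el : Elem F0' := (show Elem F0 from fun a ha => hFel a ha.1).sup
      (sq_eq_one_of_invol ht) fun a ha => (mem_CC.1 (d.S0_le ha.2)).symm
    have h2 := d.abelian_bound ht h (H := F0') le_sup_right hF0'S hF0el.self_cent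
    have h3 : Nat.card F0' ≤ 8 := by rw [h32] at h2; nlinarith
    have h4 : F0 = F0' := eq_of_le_of_card_ge le_sup_left (by omega)
    obtain ⟨f, hf, hf0⟩ := SetLike.not_le_iff_exists.1 fun hle : F ≤ d.S0 => by
      have hFF : F ≤ F0 := le_inf le_rfl hle
      have := card_le_of_le hFF
      rw [h4] at this
      omega
    have hF0W : F0 ≤ W := fun r hr => hfixq f (hF hf) hf0 r hr.2 (by
      rw [comm_eq_one_iff.2 (hFel.comm hf hr.1)]; exact one_mem _)
    have hF0eq : F0 = W := eq_of_le_of_card_ge hF0W (by omega)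
    refine fun p hp => hCE p (hF hp) fun a ha => ?_
    have hfE : f ∈ E := by
      refine hCE f (hF hf) fun a ha => ?_
      have hle : E ≤ centralizer ({f} : Set G) := by
        refine sup_le (fun r hr => mem_centralizer_singleton_iff.2
          (hFel.comm (hF0eq.ge hr).1 hf).eq) (zpowers_le.2 (mem_centralizer_singleton_iff.2 ?_))
        have hq := (hsplit f (hF hf)).resolve_left hf0
        have hqW : y⁻¹ * f ∈ W := hCW _ hq fun r hr =>
          (hyW r hr).inv_left.mul_left (hFel.comm hf (hF0eq.ge hr).1)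
        have hc : Commute y (y * (y⁻¹ * f)) := (Commute.refl y).mul_right (hyW _ hqW)
        rw [mul_inv_cancel_left] at hc
        exact hc.eq
      exact Commute.symm (mem_centralizer_singleton_iff.1 (hle ha))
    rcases hsplit p (hF hp) with hp0 | hp0
    · exact hEel.comm (hWE (hF0W ⟨hp, hp0⟩)) ha
    have hfp : y⁻¹ * f ∈ d.S0 := (hsplit f (hF hf)).resolve_left hf0
    have : f⁻¹ * p ∈ F0 := mem_inf.2 ⟨mul_mem (inv_mem hf) hp, by
      rw [show f⁻¹ * p = (y⁻¹ * f)⁻¹ * (y⁻¹ * p) by group]; exact mul_mem (inv_mem hfp) hp0⟩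
    have hpE : p ∈ E := by simpa using mul_mem hfE (hWE (hF0W this))
    exact hEel.comm hpE ha
  have hES : E ≤ (S : Subgroup G) := hS ▸ hEP
  have hclosed : ∀ g : G, (∀ a ∈ E, g * a * g⁻¹ ∈ P) → ∀ a ∈ E, g * a * g⁻¹ ∈ E := by
    intro g hg a ha
    have hle : E.map (MulAut.conj g).toMonoidHom ≤ P := by
      rintro _ ⟨b, hb, rfl⟩; exact hg b hb
    refine huniq _ hle ?_ ((card_map_of_injective (MulAut.conj g).injective).trans hE16)
      (mem_map_of_mem _ ha)
    rintro _ ⟨b, hb, rfl⟩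
    rw [← map_mul, hEel b hb, map_one]
  have hPN : P ≤ normalizer (E : Set G) := fun p hp => mem_normalizer_of_conj
    (hclosed p fun a ha => mul_mem (mul_mem hp (hEP ha)) (inv_mem hp))
  -- a subgroup of `⟨u⟩` normalising `W` is trivial
  have hWu : ∀ b ∈ zpowers d.u, (∀ r ∈ W, b * r * b⁻¹ ∈ W) → b = 1 := by
    intro b hb hbW
    obtain ⟨w, hw, hwu, q, hq, hqw⟩ := d.outside_w ht hy hy2' hy0
    rcases d.mem_zpowers_u hb with e | e
    · exact e
    exfalso
    have huW : ∀ r ∈ W, d.u * r * d.u⁻¹ ∈ W := by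
      rcases e with rfl | rfl
      · exact hbW
      intro r hr
      have := (mem_normalizer_iff.1 (inv_mem (mem_normalizer_of_conj hbW)) r).1 hr
      simpa using this
    obtain ⟨r, hr, hrT⟩ := SetLike.not_le_iff_exists.1 fun hle : W ≤ zpowers t => by
      have := (card_le_of_le hle).trans_eq (card_T ht); omega
    have hwfix : ∀ x ∈ W, ⁅w, x⁆ ∈ zpowers t := fun x hx =>
      (d.fixT_iff ht h hq hw hqw (hWS hx)).1 (hWF ▸ hx : x ∈ d.fixT y).2
    set c := d.u⁻¹ * r * d.u with hc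
    have hcW : c ∈ W := (mem_normalizer_iff''.1 (mem_normalizer_of_conj huW) r).1 hr
    have hcf := hwfix c hcW
    refine hrT ((d.fpfS ht).fixed r (hWS hr) ?_)
    -- `w` and its product with `u` fix `W` modulo `⟨t⟩`
    have h2 : ⁅d.u * d.u, r⁆ ∈ zpowers t := by
      have e1 : d.u * ⁅w, c⁆ * d.u⁻¹ = ⁅w * (d.u⁻¹ * d.u⁻¹), r⁆ := by
        have hx : d.u * w * d.u⁻¹ = w * (d.u⁻¹ * d.u⁻¹) := by
          have h4 : w⁻¹ * d.u * w = d.u⁻¹ := by
            calc w⁻¹ * d.u * w = (w⁻¹ * d.u⁻¹ * w)⁻¹ := by group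
              _ = (w⁻¹ * (w * d.u * w⁻¹) * w)⁻¹ := by rw [hwu]
              _ = d.u⁻¹ := by group
          calc d.u * w * d.u⁻¹ = w * (w⁻¹ * d.u * w) * d.u⁻¹ := by group
            _ = _ := by rw [h4]; group
        rw [← hx, hc]
        simp only [commutatorElement_def]; group
      have e2 := conj_mem_zt d.u_mem hcf
      rw [e1] at e2
      set p := d.u⁻¹ * d.u⁻¹ with hp
      have e3 : ⁅p, r⁆ = w⁻¹ * (⁅w * p, r⁆ * ⁅w, r⁆⁻¹) * (w⁻¹)⁻¹ := by
        simp only [commutatorElement_def]; group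
      have e4 : ⁅p, r⁆ ∈ zpowers t := by
        rw [e3]; exact conj_mem_zt (inv_mem hw) (mul_mem e2 (inv_mem (hwfix r hr)))
      have hpinv : p⁻¹ = d.u * d.u := by rw [hp, mul_inv_rev, inv_inv]
      rw [← hpinv, show ⁅p⁻¹, r⁆ = p⁻¹ * ⁅p, r⁆⁻¹ * (p⁻¹)⁻¹ by
        simp only [commutatorElement_def]; group]
      exact conj_mem_zt (inv_mem (mul_mem (inv_mem d.u_mem) (inv_mem d.u_mem))) (inv_mem e4)
    have hu3 : d.u = (d.u * d.u)⁻¹ := eq_inv_of_mul_eq_one_left (by rw [← d.u_cube, pow_three])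
    rw [hu3, show ⁅(d.u * d.u)⁻¹, r⁆ = (d.u * d.u)⁻¹ * ⁅d.u * d.u, r⁆⁻¹ * ((d.u * d.u)⁻¹)⁻¹ by
      simp only [commutatorElement_def]; group]
    exact conj_mem_zt (inv_mem (mul_mem d.u_mem d.u_mem)) (inv_mem h2)
  -- the stabiliser of `t` in the normaliser
  have hstab : ∀ g : normalizer (E : Set G), (g : G) ∈ CC t → ∃ p : normalizer (E : Set G),
      (p : G) ∈ P ∧ act E g = act E p := by
    intro g hg
    obtain ⟨q, hq, o, ho, w, hw, e, hwu⟩ := d.dec g hg
    have hgW : ∀ r ∈ W, (g : G) * r * (g : G)⁻¹ ∈ W := fun r hr => by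
      have h1 : (g : G) * r * (g : G)⁻¹ ∈ E := (mem_normalizer_iff.1 g.2 r).1 (hWE hr)
      have h2 := d.normS _ hg r (hWS hr)
      exact hCW _ h2 fun x hx => hEel.comm h1 (hWE hx)
    have hqW : ∀ x ∈ d.S0, ∀ r ∈ W, x * r * x⁻¹ ∈ W := fun x hx r hr => by
      rw [show x * r * x⁻¹ = ⁅x, r⁆ * r by rw [commutatorElement_def]; group]
      exact mul_mem (hTW (d.comm_mem_T ht h hx (hWS hr))) hr
    have hoW : ∀ x ∈ d.O, ∀ r ∈ d.S0, x * r * x⁻¹ = r := fun x hx r hr => by
      rw [(d.comm r hr x hx).symm.eq, mul_inv_cancel_right]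
    have hwW : ∀ r ∈ W, w * r * w⁻¹ ∈ W := fun r hr => by
      have h1 := hgW r hr
      have h2 := d.normS w hw r (hWS hr)
      rw [e, show q * o * w * r * (q * o * w)⁻¹ = q * (o * (w * r * w⁻¹) * o⁻¹) * q⁻¹ by group,
        hoW o ho _ h2] at h1
      have := hqW q⁻¹ (inv_mem hq) _ h1
      rwa [show q⁻¹ * (q * (w * r * w⁻¹) * q⁻¹) * q⁻¹⁻¹ = w * r * w⁻¹ by group] at this
    -- finish once `g` is a product from `P` and the core
    suffices hgp : ∃ p ∈ P, ∃ o' ∈ d.O, (g : G) = o' * p by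
      obtain ⟨p, hp, o', ho', e'⟩ := hgp
      refine ⟨⟨p, hPN hp⟩, hp, ?_⟩
      have ho'N : o' ∈ normalizer (E : Set G) := by
        rw [show o' = (g : G) * p⁻¹ by rw [e']; group]
        exact mul_mem g.2 (inv_mem (hPN hp))
      rw [show g = ⟨o', ho'N⟩ * ⟨p, hPN hp⟩ from Subtype.ext e', map_mul, mul_eq_right, act_eq_one]
      have hyO : ⁅o', y⁆ = 1 := by
        have h1 : ⁅o', y⁆ ∈ E := by
          rw [commutatorElement_def]
          exact mul_mem ((mem_normalizer_iff.1 ho'N y).1 hyE) (inv_mem hyE)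
        have h2 : ⁅o', y⁆ ∈ d.O := by
          rw [show ⁅o', y⁆ = o' * (y * o'⁻¹ * y⁻¹) by rw [commutatorElement_def]; group]
          exact mul_mem ho' (d.normO y hy _ (inv_mem ho'))
        exact d.eq_one_of_mem_O h2 (orderOf_two_pow hP2 (hEP h1))
      intro a ha
      have hle : E ≤ centralizer ({o'} : Set G) :=
        sup_le (fun r hr => mem_centralizer_singleton_iff.2 (d.comm r (hWS hr) o' ho').eq)
          (zpowers_le.2 (mem_centralizer_singleton_iff.2 (comm_eq_one_iff.1 hyO).symm.eq))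
      exact Commute.symm (mem_centralizer_singleton_iff.1 (hle ha))
    rcases hwu with hwu | hwu
    · obtain ⟨a, ha, b, hb, rfl⟩ := d.u_self w hw (mul_inv_eq_iff_eq_mul.1 hwu)
      have hb1 : b = 1 := hWu b hb fun r hr => by
        have := hwW r hr
        have hbr := d.normS b (zpowers_le.2 d.u_mem hb) r (hWS hr)
        rwa [show a * b * r * (a * b)⁻¹ = a * (b * r * b⁻¹) * a⁻¹ by group,
          (T_cent ha (d.S0_le hbr)).eq.symm, mul_inv_cancel_right] at this
      refine ⟨q * a, hS0P (mul_mem hq (d.T_le ha)), o, ho, ?_⟩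
      rw [e, hb1, mul_one, (d.comm q hq o ho).eq, mul_assoc]
    · obtain ⟨q0, hq0, o0, ho0, w0, hw0, e0, hwu0⟩ := (d.two_element ht hy hy2').resolve_left hy0
      have hcom : Commute (w0⁻¹ * w) d.u := mul_inv_eq_iff_eq_mul.1 (by
        calc w0⁻¹ * w * d.u * (w0⁻¹ * w)⁻¹ = w0⁻¹ * (w * d.u * w⁻¹) * w0 := by group
          _ = w0⁻¹ * (w0 * d.u * w0⁻¹) * w0 := by rw [hwu, hwu0]
          _ = d.u := by group)
      obtain ⟨a, ha, b, hb, hab⟩ := d.u_self _ (mul_mem (inv_mem hw0) hw) hcom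
      have hw0W : ∀ r ∈ W, w0 * r * w0⁻¹ ∈ W := fun r hr => by
        have h2 := d.normS w0 hw0 r (hWS hr)
        have h1 : y * r * y⁻¹ ∈ W := by rw [(hyW r hr).eq, mul_inv_cancel_right]; exact hr
        rw [e0, show q0 * o0 * w0 * r * (q0 * o0 * w0)⁻¹ = q0 * (o0 * (w0 * r * w0⁻¹) * o0⁻¹) * q0⁻¹ by
          group, hoW o0 ho0 _ h2] at h1
        have := hqW q0⁻¹ (inv_mem hq0) _ h1
        rwa [show q0⁻¹ * (q0 * (w0 * r * w0⁻¹) * q0⁻¹) * q0⁻¹⁻¹ = w0 * r * w0⁻¹ by group] at this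
      have hb1 : b = 1 := hWu b hb fun r hr => by
        have := (mem_normalizer_iff''.1 (mem_normalizer_of_conj hw0W) _).1 (hwW r hr)
        have hbr := d.normS b (zpowers_le.2 d.u_mem hb) r (hWS hr)
        rwa [show w0⁻¹ * (w * r * w⁻¹) * w0 = w0⁻¹ * w * r * (w0⁻¹ * w)⁻¹ by group, hab,
          show a * b * r * (a * b)⁻¹ = a * (b * r * b⁻¹) * a⁻¹ by group,
          (T_cent ha (d.S0_le hbr)).eq.symm, mul_inv_cancel_right] at this
      have hw' : w = o0⁻¹ * q0⁻¹ * y * a := by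
        calc w = w0 * (w0⁻¹ * w) := by group
          _ = w0 * a := by rw [hab, hb1, mul_one]
          _ = _ := by rw [e0]; group
      have hoo : o * o0⁻¹ ∈ d.O := mul_mem ho (inv_mem ho0)
      refine ⟨q * q0⁻¹ * y * a,
        mul_mem (mul_mem (hS0P (mul_mem hq (inv_mem hq0))) hyP) (hS0P (d.T_le ha)), o * o0⁻¹, hoo, ?_⟩
      rw [e, hw', show q * o * (o0⁻¹ * q0⁻¹ * y * a) = q * (o * o0⁻¹) * q0⁻¹ * (y * a) by group,
        (d.comm q hq _ hoo).eq]
      group
  -- the induced group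
  let φ : Aut' E →* MulAut E := toAut E
  let tE : E := ⟨t, htE⟩
  let ι : P →* Aut' E := (act E).comp (Subgroup.inclusion hPN)
  have hker : ι.ker = E.subgroupOf P := by
    ext p
    rw [MonoidHom.mem_ker, mem_subgroupOf]
    exact ⟨fun hp => hCE p p.2 (act_eq_one.1 hp), fun hp => act_eq_one.2 fun a ha => hEel.comm hp ha⟩
  have h4 : Nat.card ι.range = 4 := by
    have h1 := ι.ker.card_mul_index
    rw [index_ker, hker, Nat.card_congr (subgroupOfEquivOfLe hEP).toEquiv, hE16] at h1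
    omega
  have hsqP : ∀ p ∈ P, p * p ∈ E := by
    intro p hp
    rcases hsplit p hp with hp0 | hp0
    · exact hWE (hTW (d.sq_mem_T ht h hp0))
    set q := y⁻¹ * p with hq
    have e : p * p = ⁅y, q⁆ * (q * q) := by
      have hyi : y⁻¹ = y := inv_eq_of_mul_eq_one_right hy2
      rw [commutatorElement_def, hyi, show p = y * q by rw [hq]; group]
      group
    rw [e]
    refine mul_mem (hWE (hWF.ge ⟨?_, ?_⟩)) (hWE (hTW (d.sq_mem_T ht h hp0)))
    · rw [commutatorElement_def]; exact mul_mem (d.normS y hy q hp0) (inv_mem hp0)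
    · have hyq : ⁅y, q⁆ ∈ d.S0 := by
        rw [commutatorElement_def]; exact mul_mem (d.normS y hy q hp0) (inv_mem hp0)
      have e2 : ⁅y, ⁅y, q⁆⁆ = (⁅y, q⁆ * ⁅y, q⁆)⁻¹ := by
        have hyi : y⁻¹ = y := inv_eq_of_mul_eq_one_right hy2
        calc ⁅y, ⁅y, q⁆⁆ = ⁅y * y, q⁆ * (⁅y, q⁆ * ⁅y, q⁆)⁻¹ := by
              simp only [commutatorElement_def]; group
          _ = _ := by rw [hy2, commutatorElement_one_left, one_mul]
      rw [e2]
      exact inv_mem (d.sq_mem_T ht h hyq)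
  have htr : ∀ w : E, w ≠ 1 → ∃ x, φ x tE = w := fun w hw => by
    obtain ⟨n, hn, en⟩ := fusion_weakly_closed S E hES (fun a ha b hb => hEel.comm ha hb)
      (fun g hg => hclosed g fun a ha => hS ▸ hg a ha) htE w.2
      (h.one t w ht (orderOf_eq_two (hEel w w.2) fun e => hw (Subtype.ext e)))
    exact ⟨act E ⟨n, hn⟩, Subtype.ext en⟩
  refine fifteen_false φ (toAut_injective E) hE16
    (t := tE) (fun e => ne_one_of_invol ht (congrArg Subtype.val e)) ι.range (fun x => ?_) h4 ?_ htr ?_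
  · constructor
    · rintro ⟨p, rfl⟩
      refine Subtype.ext ?_
      show (p : G) * t * (p : G)⁻¹ = t
      rw [(mem_CC.1 (hPC p.2)).eq, mul_inv_cancel_right]
    · intro hx
      obtain ⟨g, rfl⟩ := QuotientGroup.mk'_surjective _ x
      obtain ⟨p, hp, e⟩ := hstab g (mem_CC.2 (mul_inv_eq_iff_eq_mul.1 (congrArg Subtype.val hx)))
      exact ⟨⟨p, hp⟩, e.symm⟩
  · rintro _ ⟨p, rfl⟩
    rw [← map_mul]
    exact MonoidHom.mem_ker.1 (hker.ge (mem_subgroupOf.2 (hsqP p p.2)))
  · intro w hw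
    have hwP : ∀ p ∈ P, Commute p (w : G) := fun p hp =>
      mul_inv_eq_iff_eq_mul.1 (congrArg Subtype.val (hw _ ⟨⟨p, hp⟩, rfl⟩))
    by_cases hw0 : (w : G) ∈ d.S0
    · rcases mem_zpowers_two ht (d.center_le ht h hw0 fun q hq => hwP q (hS0P hq)) with e | e
      · exact Or.inl (Subtype.ext e)
      · exact Or.inr (Subtype.ext e)
    · exfalso
      have hle : d.S0 ≤ W := fun r hr => hfixq _ (hEP w.2) hw0 r hr (by
        rw [comm_eq_one_iff.2 (hwP r (hS0P hr)).symm]; exact one_mem _)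
      have := card_le_of_le hle
      omega

include ht h in
/-- The 2-radical has order at most 8. -/
theorem S0_le_eight : Nat.card d.S0 ≤ 8 := by
  by_contra h8
  have h2 : Nat.card d.S0 % 3 = 2 := d.inv_mod ht d.T_le le_rfl (d.normS _ d.u_mem)
  haveI : Fact (Nat.Prime 2) := ⟨Nat.prime_two⟩
  obtain ⟨k, hk⟩ := d.two.exists_card_eq
  have h32 : 32 ≤ Nat.card d.S0 := by
    rw [hk] at h8 h2 ⊢
    rcases k with _ | _ | _ | _ | _ | k
    all_goals first
      | (norm_num at h8; done)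
      | (norm_num at h2; done)
      | exact (show (2 : ℕ) ^ 5 ≤ _ from Nat.pow_le_pow_right (by norm_num) (by omega))
  obtain ⟨v, hvS, hv2, hvT⟩ := d.exists_invol ht h h32
  have hv := orderOf_eq_two hv2 fun e => hvT (e ▸ one_mem _)
  obtain ⟨e, hcS, -⟩ := d.exists_conj (h.one t v ht hv)
  obtain ⟨hS, -⟩ := d.around ht h hvS hv hvT e hcS h32
  obtain ⟨y, hy, hy0, hy2, W, hW, hTW, hWel, hW8, hyW⟩ := d.exists_outer ht h hvS hv hvT e hcS h32
  exact d.outer_false ht h hy hy0 hy2 hW hTW hWel hW8 hyW hS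

end Sol

end Cfsg.Agent.SixCent
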