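import Cfsg.Agent.Lib.SixCent.Derived

/-!
Two involutions, each in the derived group of the 2-radical of the centraliser of the other.
-/

set_option autoImplicit false
set_option linter.style.haveILetI false
set_option linter.unusedSectionVars false

open scoped commutatorElement
open Subgroup Cfsg.Agent.SelfThree

namespace Cfsg.Agent.SixCent

universe v

variable {G : Type v} [Group G] [Finite G]

theorem bot_norm {H : Subgroup G} : ∀ q ∈ H, ∀ b ∈ (⊥ : Subgroup G), q * b * q⁻¹ ∈ (⊥ : Subgroup G) := by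
  intro q _ b hb
  rw [mem_bot] at hb ⊢
  rw [hb]; group

theorem two_sets {t v a : G} (ht : orderOf t = 2) (hv : orderOf v = 2) (hvT : v ∉ zpowers t)
    (h1 : a ∈ zpowers t) (h2 : a ∈ zpowers v) : a = 1 := by
  rcases mem_zpowers_two hv h2 with e | e
  · exact e
  · exact absurd (e ▸ h1) hvT

namespace Sol

variable {t : G} (d : Sol t) (ht : orderOf t = 2) (h : Hyp G) [IsSimpleGroup G]

include ht in
/-- A subgroup of index at most four generates with its shift, or is invariant. -/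
theorem gen_or_inv {K : Subgroup G} (hT : zpowers t ≤ K) (hK : K ≤ d.S0)
    (h4 : Nat.card d.S0 ≤ 4 * Nat.card K) :
    d.gen K = d.S0 ∨ ∀ x ∈ K, d.u * x * d.u⁻¹ ∈ K := by
  by_cases hg : d.gen K = d.S0
  · exact Or.inl hg
  have h1 := d.quad_le ht (H := d.gen K) (hT.trans le_sup_left) (d.gen_le hK) le_rfl (d.gen_inv ht hT hK)
    (d.normS _ d.u_mem) hg
  have hKH : K = d.gen K := eq_of_le_of_card_ge le_sup_left (by
    omega)
  exact Or.inr fun x hx => hKH ▸ d.gen_inv ht hT hK x (hKH ▸ hx)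

variable {K : Subgroup G} (hK : K ≤ d.S0)
  (htri : ∀ x ∈ K, ∀ y ∈ K, ∀ z ∈ K, ⁅⁅x, y⁆, z⁆ = 1) (hgen : d.gen K = d.S0)

include ht h hK htri hgen in
theorem shift_le_Y0 {x : G} (hx : x ∈ K) (hx1 : d.u * x * d.u⁻¹ ∈ K) : x ∈ d.Y0 := by
  let X : d.S0 := ⟨x, hK hx⟩
  let E : ∀ a : G, a ∈ K → d.S0 := fun a ha => ⟨a, hK ha⟩
  have h1 : ∀ y z : G, ∀ hy : y ∈ K, ∀ hz : z ∈ K, d.tri ht X (E y hy) (E z hz) = 1 ∧
      d.tri ht (d.sh X) (E y hy) (E z hz) = 1 := fun y z hy hz =>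
    ⟨Subtype.ext (htri x hx y hy z hz), Subtype.ext (htri _ hx1 y hy z hz)⟩
  have hall : ∀ y : G, y ∈ d.S0 → (∀ z : G, z ∈ K → ⁅⁅x, y⁆, z⁆ = 1) →
      (∀ z : G, z ∈ K → ⁅⁅x, y⁆, d.u * z * d.u⁻¹⁆ = 1) → ⁅x, y⁆ ∈ zpowers t := fun y hy a b => by
    refine d.center_le ht h (d.comm_mem_S0 (hK hx) hy) fun q hq => ?_
    have hR : d.gen K ≤ d.commTo ⊥ bot_norm ⁅x, y⁆ := by
      refine sup_le (fun z hz => ⟨hK hz, mem_bot.2 (a z hz)⟩) ?_
      rintro _ ⟨z, hz, rfl⟩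
      exact ⟨d.normS _ d.u_mem z (hK hz), mem_bot.2 (b z hz)⟩
    rw [hgen] at hR
    exact (comm_eq_one_iff.1 (mem_bot.1 (hR hq).2)).symm
  have hR : d.gen K ≤ d.commTo _ d.T_norm x := by
    refine sup_le (fun y hy => ⟨hK hy, hall y (hK hy) (fun z hz => htri x hx y hy z hz)
      fun z hz => ?_⟩) ?_
    · exact congrArg Subtype.val ((d.tri_shift13 ht h X (E y hy) (E z hz)).trans (h1 y z hy hz).2)
    rintro _ ⟨y, hy, rfl⟩
    have hy1 := d.normS _ d.u_mem y (hK hy)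
    refine ⟨hy1, hall _ hy1 (fun z hz => ?_) fun z hz => ?_⟩
    · exact congrArg Subtype.val
        ((d.tri_shift12 ht h X (E y hy) (E z hz)).symm.trans (h1 y z hy hz).2)
    · have e : d.tri ht X (d.sh (E y hy)) (d.sh (E z hz)) = 1 := by
        rw [d.tri_shift13 ht h, ← d.tri_shift12 ht h, d.tri_shift_sq ht h,
          (h1 y z hy hz).1, (h1 y z hy hz).2, mul_one]
      exact congrArg Subtype.val e
  rw [hgen] at hR
  exact ⟨hK hx, fun z hz => (hR hz).2⟩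

include ht h hK htri hgen in
theorem gen_count : Nat.card K * Nat.card K ≤ Nat.card d.S0 * Nat.card ↥(K ⊓ d.Y0) := by
  let φ := (MulAut.conj d.u).toMonoidHom
  have hK1 : K.map φ ≤ d.S0 := by
    rintro _ ⟨x, hx, rfl⟩
    exact d.normS _ d.u_mem x (hK hx)
  have h1 := card_mul_card_le hK hK1
  rw [card_map_of_injective (MulAut.conj d.u).injective] at h1
  refine h1.trans (Nat.mul_le_mul_left _ ?_)
  have h2 : K ⊓ K.map φ ≤ (K ⊓ d.Y0).map φ := by
    rintro _ ⟨hx, y, hy, rfl⟩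
    exact mem_map_of_mem _ ⟨hy, d.shift_le_Y0 ht h hK htri hgen hy hx⟩
  exact (card_le_of_le h2).trans_eq (card_map_of_injective (MulAut.conj d.u).injective)

omit hgen

include ht h hK htri in
theorem half_false (hA : ¬ d.A ≤ zpowers t) (hT : zpowers t ≤ K)
    (h2 : Nat.card d.S0 ≤ 2 * Nat.card K) : False := by
  have h16 := d.index_sixteen ht hA
  have hgen : d.gen K = d.S0 := by
    refine (d.gen_or_inv ht hT hK (by omega)).resolve_right fun hi => ?_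
    by_cases e : K = d.S0
    · have hgK : d.gen K = d.S0 := le_antisymm (d.gen_le hK) (e ▸ le_sup_left)
      have h1 := d.gen_count ht h hK htri hgK
      have h2 := Nat.mul_le_mul_left (Nat.card d.S0)
        (card_le_of_le (inf_le_right : K ⊓ d.Y0 ≤ d.Y0))
      have h3 := Nat.le_of_mul_le_mul_left ((e ▸ h1).trans (e ▸ h2)) Nat.card_pos
      have := Nat.card_pos (α := d.Y0)
      omega
    · have := d.quad_le ht hT hK le_rfl hi (d.normS _ d.u_mem) e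
      have := Nat.card_pos (α := K)
      omega
  have h1 := d.gen_count ht h hK htri hgen
  have h3 := card_le_of_le (inf_le_right : K ⊓ d.Y0 ≤ d.Y0)
  have := Nat.card_pos (α := d.Y0)
  nlinarith [Nat.mul_le_mul h2 h2, Nat.mul_le_mul_left (Nat.card d.S0) h3,
    Nat.card_pos (α := d.S0)]

omit htri hK

include ht h in
/-- There is no abelian invariant normal subgroup of index four. -/
theorem abelian_four_false (hA : ¬ d.A ≤ zpowers t) {X : Subgroup G} (hX : X ≤ d.S0)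
    (hT : zpowers t ≤ X) (hu : ∀ x ∈ X, d.u * x * d.u⁻¹ ∈ X)
    (hn : ∀ q ∈ d.S0, ∀ x ∈ X, q * x * q⁻¹ ∈ X)
    (hab : ∀ x ∈ X, ∀ y ∈ X, Commute x y) (h4 : Nat.card d.S0 = 4 * Nat.card X) : False := by
  obtain ⟨g, hg, hg0⟩ := SetLike.not_le_iff_exists.1 (fun hle : d.S0 ≤ X => by
    have := card_le_of_le hle
    have := Nat.card_pos (α := X)
    omega)
  set g1 := d.u * g * d.u⁻¹ with hg1
  have hg1S : g1 ∈ d.S0 := d.normS _ d.u_mem g hg
  have hgg1 : ⁅g, g1⁆ ∈ zpowers t := (d.fpfS ht).comm_conj hg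
  have hspan : ∀ R : Subgroup G, X ≤ R → g ∈ R → g1 ∈ R → d.S0 ≤ R := fun R =>
    d.span_four ht hT hX hu h4.le hg hg0 (R := R)
  -- commutators with `X` stay in `X`
  have hXl : ∀ x ∈ X, ∀ q ∈ d.S0, ⁅x, q⁆ ∈ X := fun x hx q hq => by
    rw [show ⁅x, q⁆ = x * (q * x⁻¹ * q⁻¹) by simp only [commutatorElement_def]; group]
    exact mul_mem hx (hn q hq _ (inv_mem hx))
  have hAX : d.A ≤ X := by
    refine d.A_le_of hT fun x hx y hy => ?_
    have hgR : ∀ a ∈ d.S0, a ∈ X ∨ a = g ∨ a = g1 → ∀ q ∈ d.S0, ⁅a, q⁆ ∈ X := by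
      intro a ha hcase q hq
      rcases hcase with ha' | ha'
      · exact hXl a ha' q hq
      refine (hspan (d.commTo X hn a) (fun r hr => ⟨hX hr, comm_flip (hXl r hr a ha)⟩) ?_ ?_ hq).2
      · refine ⟨hg, ?_⟩
        rcases ha' with rfl | rfl
        · rw [commutatorElement_self]; exact one_mem _
        · exact comm_flip (hT hgg1)
      · refine ⟨hg1S, ?_⟩
        rcases ha' with rfl | rfl
        · exact hT hgg1
        · rw [commutatorElement_self]; exact one_mem _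
    refine (hspan (d.commTo X hn x) (fun r hr => ⟨hX hr, comm_flip (hXl r hr x hx)⟩)
      ⟨hg, comm_flip (hgR g hg (Or.inr (Or.inl rfl)) x hx)⟩
      ⟨hg1S, comm_flip (hgR g1 hg1S (Or.inr (Or.inr rfl)) x hx)⟩ hy).2
  set R := X ⊓ d.Y0
  -- the pairing of `R` with `g` and its shift
  have hR8 : Nat.card R ≤ 8 := by
    have hm : ∀ z ∈ d.S0, ∀ a b : R,
        ⁅(a : G) * b, z⁆ = ⁅(a : G), z⁆ * ⁅(b : G), z⁆ := fun z hz a b => by
      rw [show ⁅(a : G) * b, z⁆ = ((a : G) * ⁅(b : G), z⁆ * (a : G)⁻¹) * ⁅(a : G), z⁆ by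
        simp only [commutatorElement_def]; group]
      rw [(T_cent (b.2.2.2 z hz) (d.S0_le a.2.2.1)).eq, mul_inv_cancel_right]
      exact (T_cent (b.2.2.2 z hz) (d.S0_le (d.T_le (a.2.2.2 z hz)))).eq.symm
    let φ : R →* zpowers t × zpowers t :=
      MonoidHom.mk' (fun r => (⟨⁅(r : G), g⁆, r.2.2.2 g hg⟩, ⟨⁅(r : G), g1⁆, r.2.2.2 g1 hg1S⟩))
        fun a b => Prod.ext (Subtype.ext (hm g hg a b)) (Subtype.ext (hm g1 hg1S a b))
    have hk : φ.ker ≤ (zpowers t).subgroupOf R := fun r hr => by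
      rw [MonoidHom.mem_ker] at hr
      have e1 : ⁅(r : G), g⁆ = 1 := congrArg (fun p => ((p.1 : zpowers t) : G)) hr
      have e2 : ⁅(r : G), g1⁆ = 1 := congrArg (fun p => ((p.2 : zpowers t) : G)) hr
      refine mem_subgroupOf.2 (d.center_le ht h r.2.2.1 fun q hq => ?_)
      have := hspan (d.commTo ⊥ bot_norm (r : G))
        (fun x hx => ⟨hX hx, mem_bot.2 (comm_eq_one_iff.2 (hab _ r.2.1 x hx))⟩)
        ⟨hg, mem_bot.2 e1⟩ ⟨hg1S, mem_bot.2 e2⟩ hq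
      exact (comm_eq_one_iff.1 (mem_bot.1 this.2)).symm
    have h1 := card_le_of_le hk
    rw [Nat.card_congr (subgroupOfEquivOfLe (le_inf hT d.T_le_Y0 : zpowers t ≤ R)).toEquiv,
      card_T ht] at h1
    have h2 : Nat.card φ.range ≤ 4 := (card_le_of_le (le_top : φ.range ≤ ⊤)).trans_eq (by
      rw [Nat.card_congr topEquiv.toEquiv, Nat.card_prod, card_T ht])
    have h3 := φ.ker.card_mul_index
    rw [index_ker] at h3
    exact h3 ▸ Nat.mul_le_mul h1 h2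
  have hAR : d.A ≤ R := le_inf hAX (d.A_le_Y0 ht)
  have hA8 : Nat.card d.A = 8 := le_antisymm ((card_le_of_le hAR).trans hR8) (d.card_A ht hA)
  -- the commutator map of `g` on `X`
  have hX64 : Nat.card X ≤ 64 := by
    let ψ : X →* X := MonoidHom.mk' (fun k => ⟨⁅g, (k : G)⁆, comm_flip (hXl k k.2 g hg)⟩)
      fun a b => Subtype.ext (by
        show ⁅g, (a : G) * b⁆ = ⁅g, (a : G)⁆ * ⁅g, (b : G)⁆
        rw [show ⁅g, (a : G) * b⁆ = ⁅g, (a : G)⁆ * ((a : G) * ⁅g, (b : G)⁆ * (a : G)⁻¹) by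
          simp only [commutatorElement_def]; group,
          (hab a a.2 _ (comm_flip (hXl b b.2 g hg))).eq, mul_inv_cancel_right])
    have hk : ψ.ker ≤ R.subgroupOf X := fun k hk => by
      have e1 : ⁅g, (k : G)⁆ = 1 := congrArg Subtype.val (MonoidHom.mem_ker.1 hk)
      have e2 : ⁅(k : G), g⁆ ∈ zpowers t := comm_flip (e1 ▸ one_mem _)
      refine mem_subgroupOf.2 ⟨k.2, hX k.2, fun z hz => (hspan (d.commTo _ d.T_norm (k : G))
        (fun x hx => ⟨hX hx, ?_⟩) ⟨hg, e2⟩ ⟨hg1S, (d.fpfS ht).comm_invariant (hX k.2) hg e2⟩ hz).2⟩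
      rw [comm_eq_one_iff.2 (hab _ k.2 x hx)]
      exact one_mem _
    have hr : ψ.range ≤ d.A.subgroupOf X := by
      rintro _ ⟨k, rfl⟩
      exact mem_subgroupOf.2 (d.comm_mem_A hg (hX k.2))
    have h1 := card_le_of_le hk
    have h2 := card_le_of_le hr
    rw [Nat.card_congr (subgroupOfEquivOfLe (inf_le_left : R ≤ X)).toEquiv] at h1
    rw [Nat.card_congr (subgroupOfEquivOfLe hAX).toEquiv, hA8] at h2
    have h3 := ψ.ker.card_mul_index
    rw [index_ker] at h3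
    exact h3 ▸ Nat.mul_le_mul (h1.trans hR8) h2
  have h32 := d.Y0_big ht h hA hA8
  have h16 := d.index_sixteen ht hA
  omega

end Sol

/-- Two involutions in the position studied below. -/
structure Pair {t v : G} (d : Sol t) (e : Sol v) : Prop where
  t2 : orderOf t = 2
  v2 : orderOf v = 2
  vA : v ∈ d.A
  vT : v ∉ zpowers t
  tS : t ∈ e.S0
  cardS : Nat.card e.S0 = Nat.card d.S0
  cardA : Nat.card e.A = Nat.card d.A
  quarter : Nat.card d.S0 = 4 * Nat.card ↥(d.S0 ⊓ e.S0)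
  out : ∃ s ∈ e.S0, s ∈ CC t ∧ s ∉ d.S0

namespace Pair

variable {t v : G} {d : Sol t} {e : Sol v} (p : Pair d e) (h : Hyp G) [IsSimpleGroup G]

include p

theorem hA : ¬ d.A ≤ zpowers t := fun hle => p.vT (hle p.vA)

theorem tv : t ∉ zpowers v := fun hm => by
  rcases mem_zpowers_two p.v2 hm with e' | e'
  · exact ne_one_of_invol p.t2 e'
  · exact p.vT (e' ▸ mem_zpowers t)

theorem T_le_K : zpowers t ≤ d.S0 ⊓ e.S0 := le_inf d.T_le (zpowers_le.2 p.tS)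

theorem vS : v ∈ d.S0 := d.A_le p.t2 p.vA

theorem v_mem_K : v ∈ d.S0 ⊓ e.S0 := ⟨p.vS, e.t_mem⟩

theorem tri_K : ∀ x ∈ d.S0 ⊓ e.S0, ∀ y ∈ d.S0 ⊓ e.S0, ∀ z ∈ d.S0 ⊓ e.S0, ⁅⁅x, y⁆, z⁆ = 1 :=
  fun _ hx _ hy _ hz => two_sets p.t2 p.v2 p.vT ((d.fpfS p.t2).class_two hx.1 hy.1 hz.1)
    ((e.fpfS p.v2).class_two hx.2 hy.2 hz.2)

/-- The commutators of a subgroup generating with its shift. -/
theorem span_A {a : G} {g k : G} (ha : a = d.u * k * d.u⁻¹) (hg : g ∈ d.S0) (hk : k ∈ d.S0)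
    (hgen : ∀ R : Subgroup G, d.Y0 ≤ R → g ∈ R → k ∈ R → d.u * g * d.u⁻¹ ∈ R → a ∈ R → d.S0 ≤ R)
    (h' : Hyp G) : Nat.card d.A ≤ 8 := by
  subst ha
  have ht := p.t2
  set g1 := d.u * g * d.u⁻¹ with hg1
  set k1 := d.u * k * d.u⁻¹ with hk1
  have hg1S : g1 ∈ d.S0 := d.normS _ d.u_mem g hg
  have hk1S : k1 ∈ d.S0 := d.normS _ d.u_mem k hk
  set B0 := zpowers t ⊔ zpowers ⁅g, k⁆
  set B := B0 ⊔ zpowers ⁅g, k1⁆
  have hTB : zpowers t ≤ B := le_sup_left.trans le_sup_left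
  have hBA : B ≤ d.A := sup_le (sup_le d.T_le_A (zpowers_le.2 (d.comm_mem_A hg hk)))
    (zpowers_le.2 (d.comm_mem_A hg hk1S))
  have hB : ∀ q ∈ d.S0, ∀ b ∈ B, q * b * q⁻¹ ∈ B := fun q hq b hb => by
    rw [show q * b * q⁻¹ = ⁅q, b⁆ * b by rw [commutatorElement_def]; group]
    exact mul_mem (hTB (Sol.comm_flip ((d.A_le_Y0 ht (hBA hb)).2 q hq))) hb
  have hone : ∀ z : G, ⁅z, z⁆ ∈ B := fun z => by rw [commutatorElement_self]; exact one_mem _
  have hYB : ∀ z ∈ d.S0, d.Y0 ≤ d.commTo B hB z := fun z hz y hy =>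
    ⟨hy.1, hTB (Sol.comm_flip (hy.2 z hz))⟩
  have m1 : ⁅g, k⁆ ∈ B := mem_sup_left (mem_sup_right (mem_zpowers _))
  have m2 : ⁅g, k1⁆ ∈ B := mem_sup_right (mem_zpowers _)
  have Rg := hgen (d.commTo B hB g) (hYB g hg) ⟨hg, hone g⟩ ⟨hk, m1⟩
    ⟨hg1S, hTB ((d.fpfS ht).comm_conj hg)⟩ ⟨hk1S, m2⟩
  have m3 : ⁅k, g1⁆ ∈ B := by
    exact (mul_mem_cancel_left (Sol.comm_flip m2)).1 (hTB (d.comm_shift ht h' hk hg))
  have Rk := hgen (d.commTo B hB k) (hYB k hk) ⟨hg, Sol.comm_flip m1⟩ ⟨hk, hone k⟩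
    ⟨hg1S, m3⟩ ⟨hk1S, hTB ((d.fpfS ht).comm_conj hk)⟩
  have m4 : ⁅g1, k1⁆ ∈ B := by
    have hk2 : d.u * k1 * d.u⁻¹ ∈ d.S0 := d.normS _ d.u_mem k1 hk1S
    exact (mul_mem_cancel_right (Rg hk2).2).1 (hTB (d.comm_shift ht h' hg hk1S))
  have Rg1 := hgen (d.commTo B hB g1) (hYB g1 hg1S) ⟨hg, Sol.comm_flip (Rg hg1S).2⟩
    ⟨hk, Sol.comm_flip (Rk hg1S).2⟩ ⟨hg1S, hone g1⟩ ⟨hk1S, m4⟩
  have Rk1 := hgen (d.commTo B hB k1) (hYB k1 hk1S) ⟨hg, Sol.comm_flip (Rg hk1S).2⟩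
    ⟨hk, Sol.comm_flip (Rk hk1S).2⟩ ⟨hg1S, Sol.comm_flip (Rg1 hk1S).2⟩ ⟨hk1S, hone k1⟩
  have hAB : d.A ≤ B := d.A_le_of hTB fun x hx y hy =>
    (hgen (d.commTo B hB x) (hYB x hx) ⟨hg, Sol.comm_flip (Rg hx).2⟩ ⟨hk, Sol.comm_flip (Rk hx).2⟩
      ⟨hg1S, Sol.comm_flip (Rg1 hx).2⟩ ⟨hk1S, Sol.comm_flip (Rk1 hx).2⟩ hy).2
  have hcA : ∀ a ∈ d.A, ∀ b ∈ d.A, a * b * a⁻¹ = b := fun a ha b hb => by
    rw [(d.A_comm ht ha hb).eq, mul_inv_cancel_right]
  have hB0A : B0 ≤ d.A := le_sup_left.trans hBA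
  have c1 : Nat.card B0 ≤ 2 * Nat.card (zpowers t) := card_sup_zpowers_le
    (fun y hy => by rw [hcA _ (d.comm_mem_A hg hk) y (d.T_le_A hy)]; exact hy)
    (by rw [d.A_sq ht h' (d.comm_mem_A hg hk)]; exact one_mem _)
  have c2 : Nat.card B ≤ 2 * Nat.card B0 := card_sup_zpowers_le
    (fun y hy => by rw [hcA _ (d.comm_mem_A hg hk1S) y (hB0A hy)]; exact hy)
    (by rw [d.A_sq ht h' (d.comm_mem_A hg hk1S)]; exact one_mem _)
  rw [Sol.card_T ht] at c1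
  have := card_le_of_le hAB
  omega

include h in
theorem caseA_false (hgen : d.gen (d.S0 ⊓ e.S0) = d.S0) : False := by
  have ht := p.t2
  have hv := p.v2
  have hA := p.hA
  set K := d.S0 ⊓ e.S0 with hKdef
  have hKS : K ≤ d.S0 := inf_le_left
  have hKe : K ≤ e.S0 := inf_le_right
  have hq : Nat.card d.S0 = 4 * Nat.card K := p.quarter
  -- `Y0` lies in `K`
  have h1 := d.gen_count ht h hKS p.tri_K hgen
  have h16 := d.index_sixteen ht hA
  have h3 := card_le_of_le (inf_le_right : K ⊓ d.Y0 ≤ d.Y0)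
  have hKpos := Nat.card_pos (α := K)
  have hK4 : Nat.card K ≤ 4 * Nat.card ↥(K ⊓ d.Y0) := by
    rw [hq, mul_comm 4 (Nat.card K), mul_assoc] at h1
    exact Nat.le_of_mul_le_mul_left h1 hKpos
  have hYK : d.Y0 ≤ K := by
    have : K ⊓ d.Y0 = d.Y0 := eq_of_le_of_card_ge inf_le_right (by omega)
    exact this ▸ inf_le_left
  have hKY : Nat.card K = 4 * Nat.card d.Y0 := by omega
  have hYpos := Nat.card_pos (α := d.Y0)
  -- generators
  obtain ⟨g, hgK, hgY⟩ := SetLike.not_le_iff_exists.1 (fun hle : K ≤ d.Y0 => by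
    have := card_le_of_le hle; omega)
  have hY1 := card_sup_zpowers_le (g := g) (fun y hy => d.Y0_normal (d.S0_le (hKS hgK)) hy)
    (d.sq_mem_Y0 ht h (hKS hgK))
  set Y1 := d.Y0 ⊔ zpowers g
  have hY1K : Y1 ≤ K := sup_le hYK (zpowers_le.2 hgK)
  obtain ⟨k, hkK, hkY⟩ := SetLike.not_le_iff_exists.1 (fun hle : K ≤ Y1 => by
    have := card_le_of_le hle; omega)
  have hY2 : Y1 ⊔ zpowers k = K := by
    refine eq_of_le_of_card_ge (sup_le hY1K (zpowers_le.2 hkK)) ?_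
    have a := two_mul_card_le (H := d.Y0) (K := Y1) le_sup_left
      (fun e' => hgY (e' ▸ mem_sup_right (mem_zpowers g)))
    have b := two_mul_card_le (H := Y1) (K := Y1 ⊔ zpowers k) le_sup_left
      (fun e' => hkY (e' ▸ mem_sup_right (mem_zpowers k)))
    omega
  have hA8 : Nat.card d.A = 8 := by
    refine le_antisymm (p.span_A rfl (hKS hgK) (hKS hkK) (fun R hY hg hk hg1 hk1 => ?_) h)
      (d.card_A ht hA)
    have hKR : K ≤ R := hY2 ▸ sup_le (sup_le hY (zpowers_le.2 hg)) (zpowers_le.2 hk)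
    have hKR' : K ≤ R.comap (MulAut.conj d.u).toMonoidHom := hY2 ▸ sup_le
      (sup_le (fun y hy => hY (d.Y0_inv y hy)) (zpowers_le.2 hg1)) (zpowers_le.2 hk1)
    rw [← hgen]
    exact sup_le hKR (map_le_iff_le_comap.2 hKR')
  have hY32 := d.Y0_big ht h hA hA8
  -- `t` lies in the derived group for `v`
  have htA : t ∈ e.A := by
    by_contra htA
    have hcomm : ∀ q ∈ K, ∀ y ∈ d.Y0, Commute q y := fun q hq y hy => comm_eq_one_iff.1 (by
      rcases mem_zpowers_two ht (Sol.comm_flip (hy.2 q (hKS hq))) with e' | e'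
      · exact e'
      · exact absurd (e' ▸ e.comm_mem_A (hKe hq) (hKe (hYK hy))) htA)
    refine hA fun y hy => ?_
    have hyY := d.A_le_Y0 ht hy
    refine d.center_le ht h hyY.1 fun q hq => ?_
    have hle : d.gen K ≤ centralizer ({y} : Set G) := by
      refine sup_le (fun r hr => mem_centralizer_singleton_iff.2 (hcomm r hr y hyY).eq) ?_
      rintro _ ⟨r, hr, rfl⟩
      have hy' : d.u⁻¹ * y * d.u ∈ d.Y0 := by
        have := d.Y0_normal (inv_mem d.u_mem) hyY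
        rwa [inv_inv] at this
      have := (hcomm r hr _ hy').map (MulAut.conj d.u).toMonoidHom
      refine mem_centralizer_singleton_iff.2 ?_
      simpa [mul_assoc] using this.eq
    rw [hgen] at hle
    exact (mem_centralizer_singleton_iff.1 (hle hq) :)
  obtain ⟨s, hse, hst, hs0⟩ := p.out
  have hs2 := orderOf_two_pow e.two hse
  -- the fixed points of `s`
  let C : Subgroup G :=
    { carrier := {r | r ∈ d.Y0 ∧ ⁅s, r⁆ ∈ zpowers t}
      one_mem' := ⟨one_mem _, by rw [commutatorElement_one_right]; exact one_mem _⟩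
      mul_mem' := fun {a b} ha hb => ⟨mul_mem ha.1 hb.1, by
        rw [show ⁅s, a * b⁆ = ⁅s, a⁆ * (a * ⁅s, b⁆ * a⁻¹) by simp only [commutatorElement_def]; group]
        exact mul_mem ha.2 (Sol.conj_mem_zt (d.S0_le ha.1.1) hb.2)⟩
      inv_mem' := fun {a} ha => ⟨inv_mem ha.1, by
        rw [show ⁅s, a⁻¹⁆ = a⁻¹ * ⁅s, a⁆⁻¹ * (a⁻¹)⁻¹ by simp only [commutatorElement_def]; group]
        exact Sol.conj_mem_zt (inv_mem (d.S0_le ha.1.1)) (inv_mem ha.2)⟩ }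
  have hCY : C ≤ d.Y0 := fun r hr => hr.1
  have hTC : zpowers t ≤ C := fun r hr => ⟨d.T_le_Y0 hr, by
    rw [comm_eq_one_iff.2 (Sol.T_cent hr hst)]; exact one_mem _⟩
  have hCb := d.fix_bound ht hst hs2 hs0 hTC hCY (fun r hr => hr.2)
  have hsY : ∀ r ∈ d.Y0, ⁅s, r⁆ ∈ d.Y0 := fun r hr => by
    rw [commutatorElement_def]; exact mul_mem (d.Y0_normal hst hr) (inv_mem hr)
  have hnT : CC t ≤ FpfMod.amb (zpowers t) :=
    fun g hg => mem_normalizer_of_conj fun _ hx => Sol.conj_mem_zt hg hx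
  have hYn : d.Y0 ≤ FpfMod.amb (zpowers t) := fun r hr => hnT (d.S0_le hr.1)
  have heA : e.A ≤ FpfMod.amb (zpowers t) := fun r hr => hnT (mem_CC.2 (e.A_comm hv hr htA))
  let π := FpfMod.quo (zpowers t)
  have hπc : ∀ a b : G, ∀ ha : a ∈ d.Y0, ∀ hb : b ∈ d.Y0,
      Commute (π ⟨a, hYn ha⟩) (π ⟨b, hYn hb⟩) := fun a b ha hb =>
    FpfMod.quo_commute.2 (ha.2 b hb.1)
  let ψ : d.Y0 →* FpfMod.amb (zpowers t) ⧸ (zpowers t).subgroupOf (FpfMod.amb (zpowers t)) :=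
    MonoidHom.mk' (fun r => π ⟨⁅s, (r : G)⁆, hYn (hsY r r.2)⟩) fun a b => by
      have he : (⟨⁅s, ((a * b : d.Y0) : G)⁆, hYn (hsY _ (a * b).2)⟩ : FpfMod.amb (zpowers t)) =
          ⟨_, hYn (hsY a a.2)⟩ * (⟨(a : G), hYn a.2⟩ * ⟨_, hYn (hsY b b.2)⟩ * ⟨(a : G), hYn a.2⟩⁻¹) :=
        Subtype.ext (by simp only [coe_mul, InvMemClass.coe_inv, commutatorElement_def]; group)
      simp only [he, map_mul, map_inv]
      rw [(hπc a _ a.2 (hsY b b.2)).eq, mul_inv_cancel_right]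
  set IA := (e.A.subgroupOf (FpfMod.amb (zpowers t))).map π
  have hTeA : zpowers t ≤ e.A := zpowers_le.2 htA
  have hIA : Nat.card IA = 4 := by
    have := FpfMod.card_quot heA hTeA
    rw [Sol.card_T ht, p.cardA, hA8] at this
    exact Nat.eq_of_mul_eq_mul_right (by norm_num : 0 < 2) this
  have hrA : ψ.range ≤ IA := by
    rintro _ ⟨r, rfl⟩
    exact FpfMod.mem_quot (e.comm_mem_A hse (hKe (hYK r.2))) _
  have hss : s * s ∈ d.S0 := by
    have := d.two_group_mul ht (e.two.to_le (zpowers_le.2 hse)) (zpowers_le.2 hst)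
      (inv_mem (mem_zpowers s)) (mem_zpowers s) (fun h' => hs0 (by simpa using inv_mem h')) hs0
    simpa using this
  have hrC : ψ.range ≤ (C.subgroupOf (FpfMod.amb (zpowers t))).map π := by
    rintro _ ⟨r, rfl⟩
    have hr := r.2
    refine FpfMod.mem_quot (Q := C) ⟨hsY r hr, ?_⟩ _
    have hc := hsY _ hr
    have hc2 := d.Y0_sq ht h hc
    have e1 : s * ⁅s, (r : G)⁆ * s⁻¹ = ⁅s * s, (r : G)⁆ * ⁅s, (r : G)⁆⁻¹ := by
      simp only [commutatorElement_def]; group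
    rw [commutatorElement_def s ⁅s, (r : G)⁆, e1, mul_assoc, ← mul_inv_rev]
    exact mul_mem (Sol.comm_flip (hr.2 _ hss)) (inv_mem hc2)
  have hker : ψ.ker = C.subgroupOf d.Y0 := by
    ext r
    rw [MonoidHom.mem_ker, mem_subgroupOf]
    exact ⟨fun hm => ⟨r.2, FpfMod.quo_eq_one.1 hm⟩, fun hm => FpfMod.quo_eq_one.2 hm.2⟩
  have hci := ψ.ker.card_mul_index
  rw [index_ker, hker, Nat.card_congr (subgroupOfEquivOfLe hCY).toEquiv] at hci
  have hr4 := hIA ▸ card_le_of_le hrA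
  have hC8 : Nat.card C = 8 ∧ Nat.card ψ.range = 4 := by
    have hC : Nat.card C ≤ 8 := by nlinarith
    constructor <;> nlinarith
  have hIAC : e.A ≤ C := fun a ha => by
    have hm : π ⟨a, heA ha⟩ ∈ IA := FpfMod.mem_quot ha (heA ha)
    rw [← eq_of_le_of_card_ge hrA (by omega)] at hm
    obtain ⟨⟨c, hc1⟩, hc2, hce⟩ := hrC hm
    have h' := QuotientGroup.eq.1 hce
    have hca : c⁻¹ * a ∈ zpowers t := h'
    have hcC : c ∈ C := hc2
    simpa using mul_mem hcC (hTC hca)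
  have hCA : e.A = C := eq_of_le_of_card_ge hIAC (by rw [hC8.1, p.cardA, hA8])
  -- an element of `K` moving the derived group
  obtain ⟨g', hg'K, hg'A⟩ := SetLike.not_le_iff_exists.1 (fun hle : K ≤ d.KA => by
    have e' : K = d.KA := eq_of_le_of_card_ge hle (by
      have := d.KA_card ht h hA hA8; omega)
    have hS : d.gen K ≤ K := sup_le le_rfl (by
      rintro _ ⟨x, hx, rfl⟩
      exact e' ▸ d.KA_inv x (e' ▸ hx))
    have := card_le_of_le (hgen ▸ hS)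
    omega)
  have hd : ⁅s, g'⁆ ∈ C := hCA ▸ e.comm_mem_A hse (hKe hg'K)
  have hgg : g' * g' ∈ C := by
    refine ⟨d.sq_mem_Y0 ht h (hKS hg'K), ?_⟩
    have hd2 : ⁅s, g'⁆ * ⁅s, g'⁆ = 1 := e.A_sq hv h (hCA ▸ hd)
    rw [show ⁅s, g' * g'⁆ = ⁅s, g'⁆ * (⁅g', ⁅s, g'⁆⁆ * ⁅s, g'⁆) by
      simp only [commutatorElement_def]; group]
    have hz : ⁅g', ⁅s, g'⁆⁆ ∈ zpowers t := Sol.comm_flip ((hCY hd).2 g' (hKS hg'K))
    rw [← mul_assoc, (Sol.T_cent hz (d.S0_le (hCY hd).1)).eq, mul_assoc, hd2, mul_one]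
    exact hz
  have heA' : ¬ e.A ≤ zpowers v := fun hle => p.tv (hle htA)
  have hgv := e.sq_KA hv h (e.sq_A_mem hv h heA' (p.cardA.trans hA8) (hKe hg'K) (hCA ▸ hgg))
  exact hg'A (d.sq_A_mem ht h hA hA8 (hKS hg'K) ((zpowers_le.2 p.vA) hgv))

include h in
theorem inv_K : ∀ x ∈ d.S0 ⊓ e.S0, d.u * x * d.u⁻¹ ∈ d.S0 ⊓ e.S0 :=
  (d.gen_or_inv p.t2 p.T_le_K inf_le_left p.quarter.le).resolve_left (p.caseA_false h)

include h in
theorem normal_K : ∀ q ∈ d.S0, ∀ x ∈ d.S0 ⊓ e.S0, q * x * q⁻¹ ∈ d.S0 ⊓ e.S0 := by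
  have ht := p.t2
  set K := d.S0 ⊓ e.S0
  set Q := d.S0 ⊓ CC v with hQ
  have hu : d.u ∈ normalizer (K : Set G) := mem_normalizer_of_conj (p.inv_K h)
  have hQn : Q ≤ normalizer (K : Set G) := fun q hq => mem_normalizer_of_conj fun x hx =>
    ⟨d.normS q (d.S0_le hq.1) x hx.1, e.normS q hq.2 x hx.2⟩
  have hv : ∀ x ∈ d.S0, ⁅x, v⁆ = 1 ∨ ⁅x, v⁆ = t := fun x hx =>
    mem_zpowers_two ht (Sol.comm_flip ((d.A_le_Y0 ht p.vA).2 x hx))
  have h2 := card_le_two_cc (H := d.S0) hv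
  have hTQ : zpowers t ≤ Q := fun a ha =>
    ⟨d.T_le ha, mem_CC.2 (Sol.T_cent ha (d.S0_le p.vS)).symm⟩
  rw [← hQ] at h2
  have hne : Q ≠ d.S0 := fun e' => p.vT (d.center_le ht h p.vS fun q hq =>
    mem_CC.1 (e' ▸ hq : q ∈ Q).2)
  have hgen : d.gen Q = d.S0 := (d.gen_or_inv ht hTQ inf_le_left (by omega)).resolve_right fun hi => by
    have := d.quad_le ht hTQ inf_le_left le_rfl hi (d.normS _ d.u_mem) hne
    have := Nat.card_pos (α := Q)
    omega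
  have hle : d.gen Q ≤ normalizer (K : Set G) := by
    refine sup_le hQn ?_
    rintro _ ⟨q, hq, rfl⟩
    exact mul_mem (mul_mem hu (hQn hq)) (inv_mem hu)
  rw [hgen] at hle
  exact fun q hq x hx => (mem_normalizer_iff.1 (hle hq) x).1 hx

include h in
theorem comm_K : ∀ x ∈ d.S0 ⊓ e.S0, ∀ y ∈ d.S0 ⊓ e.S0, ⁅x, y⁆ ∈ zpowers t := by
  have ht := p.t2
  have hv := p.v2
  set K := d.S0 ⊓ e.S0
  have hinv := p.inv_K h
  have hnK := p.normal_K h
  obtain ⟨s, hse, hst, hs0⟩ := p.out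
  have hsK : ∀ r ∈ K, s * r * s⁻¹ ∈ K := fun r hr =>
    ⟨d.normS s hst r hr.1, e.normS s (e.S0_le hse) r hr.2⟩
  have hsc : ∀ k ∈ K, ⁅s, k⁆ ∈ K := fun k hk => by
    rw [commutatorElement_def]; exact mul_mem (hsK k hk) (inv_mem hk)
  -- `[s, K]` centralises `K`
  have hexact : ∀ k ∈ K, ∀ y ∈ K, ⁅⁅s, k⁆, y⁆ = 1 := by
    intro k hk y hy
    have hx := hsc k hk
    have hval : ∀ z ∈ K, ⁅⁅s, k⁆, z⁆ ∈ zpowers v := fun z hz =>
      (e.A_le_Y0 hv (e.comm_mem_A hse hk.2)).2 z hz.2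
    rcases mem_zpowers_two hv (hval y hy) with e' | e'
    · exact e'
    exfalso
    set R := zpowers t ⊔ zpowers v
    have hy1 := hinv y hy
    have h1 := d.comm_shift ht h hx.1 hy1.1
    rw [show ⁅d.u * ⁅s, k⁆ * d.u⁻¹, d.u * y * d.u⁻¹⁆ = d.u * ⁅⁅s, k⁆, y⁆ * d.u⁻¹ by
      simp only [commutatorElement_def]; group, e'] at h1
    have h2 : d.u * v * d.u⁻¹ ∈ R := by
      exact (mul_mem_cancel_right (mem_sup_right (hval _ (hinv _ hy1)) : _ ∈ R)).1 (mem_sup_left h1)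
    have hR : R ≤ R.comap (MulAut.conj d.u).toMonoidHom :=
      sup_le (fun a ha => mem_sup_left (Sol.conj_mem_zt d.u_mem ha)) (zpowers_le.2 h2)
    have c1 : Nat.card R ≤ 2 * Nat.card (zpowers t) := card_sup_zpowers_le
      (fun a ha => Sol.conj_mem_zt (d.S0_le p.vS) ha)
      (by rw [sq_eq_one_of_invol hv]; exact one_mem _)
    have c2 := d.quad_le ht (K := R) le_rfl le_sup_left (sup_le d.T_le (zpowers_le.2 p.vS))
      (fun a => Sol.conj_mem_zt d.u_mem) (fun a ha => hR ha)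
      (fun e'' => p.vT (e''.ge (mem_sup_right (mem_zpowers v))))
    rw [Sol.card_T ht] at c1 c2
    omega
  -- the subgroup of elements with commutators in `⟨t⟩`
  let X : Subgroup G :=
    { carrier := {x | x ∈ K ∧ ∀ y ∈ K, ⁅x, y⁆ ∈ zpowers t}
      one_mem' := ⟨one_mem _, fun y _ => by rw [commutatorElement_one_left]; exact one_mem _⟩
      mul_mem' := fun {a b} ha hb => ⟨mul_mem ha.1 hb.1, fun y hy => by
        rw [show ⁅a * b, y⁆ = (a * ⁅b, y⁆ * a⁻¹) * ⁅a, y⁆ by simp only [commutatorElement_def]; group]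
        exact mul_mem (Sol.conj_mem_zt (d.S0_le ha.1.1) (hb.2 y hy)) (ha.2 y hy)⟩
      inv_mem' := fun {a} ha => ⟨inv_mem ha.1, fun y hy => by
        rw [show ⁅a⁻¹, y⁆ = a⁻¹ * ⁅a, y⁆⁻¹ * (a⁻¹)⁻¹ by simp only [commutatorElement_def]; group]
        exact Sol.conj_mem_zt (inv_mem (d.S0_le ha.1.1)) (inv_mem (ha.2 y hy))⟩ }
  have hXK : X ≤ K := fun x hx => hx.1
  have hTX : zpowers t ≤ X := fun a ha => ⟨p.T_le_K ha, fun y hy => by
    rw [comm_eq_one_iff.2 (Sol.T_cent ha (d.S0_le hy.1)).symm]; exact one_mem _⟩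
  have hconj : ∀ g : G, g ∈ CC t → (∀ r ∈ K, g * r * g⁻¹ ∈ K) →
      ∀ x ∈ X, g * x * g⁻¹ ∈ X := fun g hgt hgK x hx => ⟨hgK x hx.1, fun y hy => by
    have hy' : g⁻¹ * y * g ∈ K := (mem_normalizer_iff''.1 (mem_normalizer_of_conj hgK) _).1 hy
    rw [show ⁅g * x * g⁻¹, y⁆ = g * ⁅x, g⁻¹ * y * g⁆ * g⁻¹ by simp only [commutatorElement_def]; group]
    exact Sol.conj_mem_zt hgt (hx.2 _ hy')⟩
  obtain ⟨w, hw, hwu, q, hq, hqw⟩ := d.outside_w ht hst (orderOf_two_pow e.two hse) hs0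
  have hwK : ∀ r ∈ K, w * r * w⁻¹ ∈ K := fun r hr => by
    have := hnK q⁻¹ (inv_mem hq) _ (hsK r hr)
    rw [hqw r hr.1] at this
    rwa [show q⁻¹ * (q * (w * r * w⁻¹) * q⁻¹) * q⁻¹⁻¹ = w * r * w⁻¹ by group] at this
  have hf := ((d.fpfS ht).restrict p.T_le_K inf_le_left hinv).up hTX hXK
    (hconj d.u d.u_mem hinv)
    (fun g hg => mem_normalizer_of_conj (hconj g (d.S0_le hg.1) (hnK g hg.1)))
  have hb := hf.sq_card_le (mem_normalizer_of_conj (hconj w hw hwK)) hwu hXK le_rfl fun r hr => by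
    have hx := hwK r hr
    rw [show ⁅w, r⁆ = ⁅q, w * r * w⁻¹⁆⁻¹ * ((q * (w * r * w⁻¹) * q⁻¹) * r⁻¹) by
      simp only [commutatorElement_def]; group, ← hqw r hr.1,
      show s * r * s⁻¹ * r⁻¹ = ⁅s, r⁆ from rfl]
    refine mul_mem (inv_mem ⟨?_, fun y hy => (d.A_le_Y0 ht (d.comm_mem_A hq hx.1)).2 y hy.1⟩)
      ⟨hsc r hr, fun y hy => by rw [hexact r hr y hy]; exact one_mem _⟩
    rw [commutatorElement_def]
    exact mul_mem (hnK q hq _ hx) (inv_mem hx)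
  have hXeq : X = K := eq_of_le_of_card_ge hXK (by
    rw [pow_two] at hb
    exact Nat.le_of_mul_le_mul_left hb Nat.card_pos)
  exact fun x hx => (hXeq ▸ hx : x ∈ X).2

/-- The reversed pair. -/
theorem symm (htA : t ∈ e.A) : Pair e d where
  t2 := p.v2
  v2 := p.t2
  vA := htA
  vT := p.tv
  tS := p.vS
  cardS := p.cardS.symm
  cardA := p.cardA.symm
  quarter := by rw [p.cardS, inf_comm]; exact p.quarter
  out := by
    by_contra hh
    push Not at hh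
    have ht := p.t2
    have h1 : Nat.card d.S0 ≤ 2 * Nat.card ↥(d.S0 ⊓ CC v) := card_le_two_cc fun x hx =>
      mem_zpowers_two ht (Sol.comm_flip ((d.A_le_Y0 ht p.vA).2 x hx))
    have h2 : d.S0 ⊓ CC v ≤ d.S0 ⊓ e.S0 := fun q hq => ⟨hq.1, hh q hq.1 hq.2⟩
    have := card_le_of_le h2
    have := p.quarter
    have := Nat.card_pos (α := ↥(d.S0 ⊓ e.S0))
    omega

include h in
/-- The position is impossible. -/
theorem contra : False := by
  refine d.abelian_four_false p.t2 h p.hA inf_le_left p.T_le_K (p.inv_K h) (p.normal_K h)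
    (fun x hx y hy => ?_) p.quarter
  rw [← comm_eq_one_iff]
  have h1 := p.comm_K h x hx y hy
  rcases mem_zpowers_two p.t2 h1 with e' | e'
  · exact e'
  refine two_sets p.t2 p.v2 p.vT h1 ?_
  exact (p.symm (e' ▸ e.comm_mem_A hx.2 hy.2)).comm_K h x ⟨hx.2, hx.1⟩ y ⟨hy.2, hy.1⟩

end Pair

end Cfsg.Agent.SixCent
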