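import Cfsg.Agent.Lib.SixCent.Fpf
import Cfsg.Agent.Lib.SelfThree.Main
import Cfsg.Agent.Lib.CN.Basic
import Cfsg.Agent.Lib.SmallCent.Shape
import Cfsg.Agent.Lib.SmallCent.Transfer
import Mathlib.GroupTheory.SchurZassenhaus

/-!
One class of involutions and a self-centralising element of order 6: the setting, and the three
shapes of the centraliser of an involution.
-/

set_option autoImplicit false
set_option linter.style.haveILetI false
set_option linter.unusedSectionVars false

open scoped commutatorElement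
open Subgroup

namespace Cfsg.Agent.SixCent

universe v

/-- The hypotheses. -/
structure Hyp (G : Type v) [Group G] : Prop where
  ncyc : ¬ IsCyclic G
  one : ∀ x y : G, orderOf x = 2 → orderOf y = 2 → IsConj x y
  six : ∀ t : G, orderOf t = 2 → ∃ u, orderOf u = 3 ∧ Commute u t ∧
    ∀ g, Commute g t → Commute g u → ∃ a ∈ zpowers t, ∃ b ∈ zpowers u, g = a * b

/-- The centraliser. -/
abbrev CC {G : Type v} [Group G] (t : G) : Subgroup G := centralizer ({t} : Set G)

variable {G : Type v} [Group G]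

theorem mem_CC {t g : G} : g ∈ CC t ↔ Commute g t := by
  rw [mem_centralizer_singleton_iff]
  exact Iff.rfl

theorem mem_zpowers_two {t a : G} (ht : orderOf t = 2) (ha : a ∈ zpowers t) : a = 1 ∨ a = t := by
  obtain ⟨k, rfl⟩ := mem_zpowers_iff.1 ha
  rw [← zpow_mod_orderOf, ht]
  rcases (show k % ((2 : ℕ) : ℤ) = 0 ∨ k % ((2 : ℕ) : ℤ) = 1 by omega) with e | e <;> rw [e]
  · exact Or.inl (zpow_zero _)
  · exact Or.inr (zpow_one _)

theorem sq_eq_one_of_invol {t : G} (ht : orderOf t = 2) : t * t = 1 := by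
  rw [← pow_two, ← ht, pow_orderOf_eq_one]

theorem inv_eq_self_of_invol {t : G} (ht : orderOf t = 2) : t⁻¹ = t :=
  inv_eq_of_mul_eq_one_right (sq_eq_one_of_invol ht)

theorem ne_one_of_invol {t : G} (ht : orderOf t = 2) : t ≠ 1 := fun h => by
  rw [h, orderOf_one] at ht
  omega

theorem orderOf_eq_two {a : G} (h1 : a * a = 1) (h2 : a ≠ 1) : orderOf a = 2 := by
  haveI : Fact (Nat.Prime 2) := ⟨Nat.prime_two⟩
  exact orderOf_eq_prime (by rw [pow_two, h1]) h2

theorem orderOf_conj (g a : G) : orderOf (g * a * g⁻¹) = orderOf a :=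
  (MulAut.conj g).orderOf_eq a

theorem six_of_witness [Finite G] (hone : ∀ x y : G, orderOf x = 2 → orderOf y = 2 → IsConj x y)
    {x : G} (hx : orderOf x = 6) (hC : centralizer ({x} : Set G) = zpowers x) {t : G}
    (ht : orderOf t = 2) : ∃ u, orderOf u = 3 ∧ Commute u t ∧
    ∀ g, Commute g t → Commute g u → ∃ a ∈ zpowers t, ∃ b ∈ zpowers u, g = a * b := by
  have h3 : orderOf (x ^ 3) = 2 := by rw [orderOf_pow' x (by norm_num), hx]; rfl
  have h2 : orderOf (x ^ 2) = 3 := by rw [orderOf_pow' x (by norm_num), hx]; rfl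
  obtain ⟨c, hc⟩ := isConj_iff.1 (hone _ _ h3 ht)
  refine ⟨c * x ^ 2 * c⁻¹, by rw [orderOf_conj, h2], ?_, fun g hgt hgu => ?_⟩
  · rw [← hc]
    exact ((Commute.refl x).pow_pow 2 3).map (MulAut.conj c).toMonoidHom
  · have k1 : Commute (c⁻¹ * g * c) (x ^ 3) := by
      have := hgt.map (MulAut.conj c⁻¹).toMonoidHom
      simpa [← hc, mul_assoc] using this
    have k2 : Commute (c⁻¹ * g * c) (x ^ 2) := by
      have := hgu.map (MulAut.conj c⁻¹).toMonoidHom
      simpa [mul_assoc] using this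
    have k3 : Commute (c⁻¹ * g * c) x := by
      have : x = x ^ 3 * (x ^ 2)⁻¹ := by group
      rw [this]
      exact k1.mul_right k2.inv_right
    obtain ⟨k, hk⟩ := mem_zpowers_iff.1
      (hC ▸ mem_centralizer_singleton_iff.2 k3.eq : c⁻¹ * g * c ∈ zpowers x)
    refine ⟨t ^ k, zpow_mem (mem_zpowers t) k, (c * x ^ 2 * c⁻¹) ^ (-k), zpow_mem (mem_zpowers _) _, ?_⟩
    rw [← hc, conj_zpow, conj_zpow]
    have : (x ^ 3) ^ k * (x ^ 2) ^ (-k) = x ^ k := by
      rw [← zpow_natCast, ← zpow_natCast, ← zpow_mul, ← zpow_mul, ← zpow_add]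
      congr 1
      push_cast
      ring
    calc g = c * x ^ k * c⁻¹ := by rw [hk]; group
      _ = _ := by rw [← this]; group

/-- The data of a solvable centraliser of the involution `t`. -/
structure Sol (t : G) where
  /-- An element of order 3. -/
  u : G
  /-- The maximal normal 2-subgroup. -/
  S0 : Subgroup G
  /-- The core. -/
  O : Subgroup G
  u_ord : orderOf u = 3
  u_mem : u ∈ CC t
  u_self : ∀ g ∈ CC t, Commute g u → ∃ a ∈ zpowers t, ∃ b ∈ zpowers u, g = a * b
  two : IsPGroup 2 S0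
  odd : ¬ 2 ∣ Nat.card O
  O3 : ¬ 3 ∣ Nat.card O
  S3 : ¬ 3 ∣ Nat.card S0
  t_mem : t ∈ S0
  S0_le : S0 ≤ CC t
  O_le : O ≤ CC t
  comm : ∀ q ∈ S0, ∀ o ∈ O, Commute q o
  normS : ∀ g ∈ CC t, ∀ q ∈ S0, g * q * g⁻¹ ∈ S0
  normO : ∀ g ∈ CC t, ∀ q ∈ O, g * q * g⁻¹ ∈ O
  dec : ∀ g ∈ CC t, ∃ q ∈ S0, ∃ o ∈ O, ∃ w ∈ CC t, g = q * o * w ∧
    (w * u * w⁻¹ = u ∨ w * u * w⁻¹ = u⁻¹)

/-- The quotient of the centraliser by the involution. -/
abbrev Bar (t : G) := CC t ⧸ (zpowers t).subgroupOf (CC t)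

theorem zt_normal (t : G) : ((zpowers t).subgroupOf (CC t)).Normal := by
  refine ⟨fun n hn g => ?_⟩
  have h1 : Commute (g : G) (n : G) := by
    obtain ⟨k, hk⟩ := mem_zpowers_iff.1 (mem_subgroupOf.1 hn)
    rw [← hk]
    exact (mem_CC.1 g.2).zpow_right k
  rw [mem_subgroupOf]
  push_cast
  rwa [h1.eq, mul_inv_cancel_right]

instance (t : G) : ((zpowers t).subgroupOf (CC t)).Normal := zt_normal t

/-- The projection. -/
noncomputable abbrev bar (t : G) : CC t →* Bar t := QuotientGroup.mk' _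

theorem bar_eq_one {t : G} {g : CC t} : bar t g = 1 ↔ (g : G) ∈ zpowers t :=
  QuotientGroup.eq_one_iff g

variable [Finite G]

theorem card_zt {t : G} (ht : orderOf t = 2) : Nat.card ((zpowers t).subgroupOf (CC t)) = 2 := by
  rw [Nat.card_congr (subgroupOfEquivOfLe (zpowers_le.2 (mem_CC.2 (Commute.refl t)))).toEquiv,
    Nat.card_zpowers, ht]

theorem card_bar {t : G} (ht : orderOf t = 2) : Nat.card (Bar t) * 2 = Nat.card (CC t) := by
  rw [← card_zt ht]
  exact (card_eq_card_quotient_mul_card_subgroup _).symm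

/-- The image of the element of order 3 is self-centralising. -/
theorem bar_self {t u : G} (ht : orderOf t = 2) (hu : orderOf u = 3) (hut : Commute u t)
    (hs : ∀ g, Commute g t → Commute g u → ∃ a ∈ zpowers t, ∃ b ∈ zpowers u, g = a * b) :
    orderOf (bar t ⟨u, mem_CC.2 hut⟩) = 3 ∧
    centralizer ({bar t ⟨u, mem_CC.2 hut⟩} : Set (Bar t)) = zpowers (bar t ⟨u, mem_CC.2 hut⟩) := by
  haveI : Fact (Nat.Prime 3) := ⟨Nat.prime_three⟩
  have hord : orderOf (bar t ⟨u, mem_CC.2 hut⟩) = 3 := by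
    refine orderOf_eq_prime ?_ fun h => ?_
    · rw [← map_pow, show (⟨u, mem_CC.2 hut⟩ : CC t) ^ 3 = 1 from
        Subtype.ext (by rw [← hu]; exact pow_orderOf_eq_one u), map_one]
    · rcases mem_zpowers_two ht (bar_eq_one.1 h) with e | e
      · change u = 1 at e
        rw [e, orderOf_one] at hu
        omega
      · change u = t at e
        rw [e, ht] at hu
        omega
  refine ⟨hord, le_antisymm (fun q hq => ?_) (zpowers_le.2 (mem_centralizer_singleton_iff.2 rfl))⟩
  obtain ⟨g, rfl⟩ := QuotientGroup.mk'_surjective _ q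
  rw [mem_centralizer_singleton_iff] at hq
  have h1 : ⁅(g : G), u⁆ ∈ zpowers t := by
    have := (map_commute_iff (bar t) g ⟨u, mem_CC.2 hut⟩).1 hq
    rw [QuotientGroup.ker_mk'] at this
    exact this
  have h2 : Commute (g : G) u := by
    rcases mem_zpowers_two ht h1 with e | e
    · exact commutatorElement_eq_one_iff_commute.1 e
    · exfalso
      have e' : (g : G) * u * (g : G)⁻¹ = t * u := by
        calc (g : G) * u * (g : G)⁻¹ = ⁅(g : G), u⁆ * u := by rw [commutatorElement_def]; group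
          _ = t * u := by rw [e]
      have e3 : (t * u) ^ 3 = 1 := by
        rw [← e', conj_pow, show u ^ 3 = 1 by rw [← hu]; exact pow_orderOf_eq_one u]
        group
      rw [hut.symm.mul_pow, show u ^ 3 = 1 by rw [← hu]; exact pow_orderOf_eq_one u, mul_one,
        pow_three, sq_eq_one_of_invol ht, mul_one] at e3
      exact ne_one_of_invol ht e3
  obtain ⟨a, ha, b, hb, e⟩ := hs g (mem_CC.1 g.2) h2
  obtain ⟨k, rfl⟩ := mem_zpowers_iff.1 hb
  refine mem_zpowers_iff.2 ⟨k, ?_⟩
  rw [← map_zpow]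
  refine QuotientGroup.eq.2 ?_
  rw [mem_subgroupOf]
  push_cast
  rw [e]
  have hau : Commute a u := by
    obtain ⟨j, rfl⟩ := mem_zpowers_iff.1 ha
    exact hut.symm.zpow_left j
  rw [(hau.zpow_right k).eq, inv_mul_cancel_left]
  exact ha

/-- A central extension of a nilpotent group. -/
theorem nilpotent_preimage {t : G} (Nb : Subgroup (Bar t)) (hN : Group.IsNilpotent Nb) :
    Group.IsNilpotent (Nb.comap (bar t)) := by
  let f : Nb.comap (bar t) →* Nb :=
    { toFun := fun g => ⟨bar t g, g.2⟩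
      map_one' := Subtype.ext (map_one _)
      map_mul' := fun a b => Subtype.ext (map_mul _ _ _) }
  refine _root_.isNilpotent_of_ker_le_center f (fun g hg => mem_center_iff.2 fun h => ?_)
  have h1 : ((g : CC t) : G) ∈ zpowers t := bar_eq_one.1 (congrArg Subtype.val (MonoidHom.mem_ker.1 hg))
  obtain ⟨k, hk⟩ := mem_zpowers_iff.1 h1
  refine Subtype.ext (Subtype.ext ?_)
  show ((h : CC t) : G) * ((g : CC t) : G) = ((g : CC t) : G) * ((h : CC t) : G)
  rw [← hk]
  exact ((mem_CC.1 (h : CC t).2).zpow_right k).eq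

/-- The first shape of `S3331` gives the solvable data. -/
theorem sol_of_nilpotent {t u : G} (ht : orderOf t = 2) (hu : orderOf u = 3) (hut : Commute u t)
    (hs : ∀ g, Commute g t → Commute g u → ∃ a ∈ zpowers t, ∃ b ∈ zpowers u, g = a * b)
    (Nb : Subgroup (Bar t)) [Nb.Normal] (hN : Group.IsNilpotent Nb) (h3 : ¬ 3 ∣ Nat.card Nb)
    (hq : Nb.index ∣ 6) : Nonempty (Sol t) := by
  classical
  haveI : Fact (Nat.Prime 2) := ⟨Nat.prime_two⟩
  haveI : Fact (Nat.Prime 3) := ⟨Nat.prime_three⟩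
  set U : CC t := ⟨u, mem_CC.2 hut⟩ with hU
  set N : Subgroup (CC t) := Nb.comap (bar t) with hNdef
  haveI hNn : N.Normal := inferInstance
  haveI hNnil : Group.IsNilpotent N := nilpotent_preimage Nb hN
  have hcardN : Nat.card N = 2 * Nat.card Nb := by
    have h1 : N.index = Nb.index := index_comap_of_surjective Nb (QuotientGroup.mk'_surjective _)
    have h2 := N.card_mul_index
    have h3' := Nb.card_mul_index
    have h4 := card_bar ht
    have hpos : 0 < Nb.index := Nat.pos_of_ne_zero index_ne_zero_of_finite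
    rw [h1] at h2
    refine Nat.eq_of_mul_eq_mul_right hpos ?_
    rw [h2, ← h4, ← h3']
    ring
  have h3N : ¬ 3 ∣ Nat.card N := by
    rw [hcardN]
    intro h
    exact h3 ((Nat.Coprime.dvd_mul_left (by norm_num)).1 h)
  obtain ⟨P⟩ : Nonempty (Sylow 2 N) := inferInstance
  have hPn : (P : Subgroup N).Normal := inferInstance
  obtain ⟨K, hK⟩ := exists_right_complement'_of_coprime (N := (P : Subgroup N)) P.card_coprime_index
  have hKodd : ¬ 2 ∣ Nat.card K := by
    rw [show Nat.card K = (P : Subgroup N).index from hK.symm.index_eq_card.symm]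
    exact P.not_dvd_index
  set S0 : Subgroup G := ((P : Subgroup N).map N.subtype).map (CC t).subtype with hS0
  set O : Subgroup G := (K.map N.subtype).map (CC t).subtype with hO
  have hcomm : ∀ a ∈ (P : Subgroup N), ∀ b ∈ K, Commute a b := by
    intro a ha b hb
    refine CN.commute_of_coprime (K := (⊤ : Subgroup N)) (Group.isNilpotent_top.2 hNnil) trivial trivial ?_
    obtain ⟨k, hk⟩ := IsPGroup.iff_orderOf.1 P.isPGroup' ⟨a, ha⟩
    rw [Subgroup.orderOf_mk] at hk
    rw [hk]
    exact ((Nat.Prime.coprime_iff_not_dvd Nat.prime_two).2 fun h =>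
      hKodd (h.trans (orderOf_dvd_natCard K hb))).pow_left k
  have hKmem : ∀ a : N, a ∈ K ↔ ¬ 2 ∣ orderOf a := by
    intro a
    refine ⟨fun h h2 => hKodd (h2.trans (orderOf_dvd_natCard K h)), fun h2 => ?_⟩
    obtain ⟨⟨p, k⟩, hpk⟩ := hK.existsUnique a |>.exists
    have e : a = (p : N) * (k : N) := hpk.symm
    have hc := hcomm _ p.2 _ k.2
    obtain ⟨i, hi⟩ := IsPGroup.iff_orderOf.1 P.isPGroup' p
    have hp1 : (p : N) = 1 := by
      have hco : Nat.Coprime (orderOf (p : N)) (orderOf (k : N)) := by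
        rw [Subgroup.orderOf_coe, hi]
        exact ((Nat.Prime.coprime_iff_not_dvd Nat.prime_two).2 fun h =>
          hKodd (h.trans (orderOf_dvd_natCard K k.2))).pow_left i
      have hm := hc.orderOf_mul_eq_mul_orderOf_of_coprime hco
      rcases Nat.eq_zero_or_pos i with rfl | hi0
      · rw [pow_zero, orderOf_eq_one_iff] at hi
        rw [hi]; rfl
      · exfalso
        refine h2 ?_
        rw [e, hm, Subgroup.orderOf_coe, hi]
        exact (dvd_pow_self 2 hi0.ne').mul_right _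
    rw [e, hp1, one_mul]
    exact k.2
  have hmemN : ∀ g : CC t, g ∈ N → ∃ q ∈ S0, ∃ o ∈ O, (g : G) = q * o := by
    intro g hg
    obtain ⟨⟨p, k⟩, hpk⟩ := hK.existsUnique ⟨g, hg⟩ |>.exists
    refine ⟨_, mem_map_of_mem _ (mem_map_of_mem _ p.2), _, mem_map_of_mem _ (mem_map_of_mem _ k.2), ?_⟩
    exact (congrArg (fun x : N => ((x : CC t) : G)) hpk).symm
  have h3S : ¬ 3 ∣ Nat.card S0 := by
    rw [hS0, card_map_of_injective (CC t).subtype_injective,
      card_map_of_injective N.subtype_injective]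
    exact fun h => h3N (h.trans (card_subgroup_dvd_card _))
  have h3O : ¬ 3 ∣ Nat.card O := by
    rw [hO, card_map_of_injective (CC t).subtype_injective,
      card_map_of_injective N.subtype_injective]
    exact fun h => h3N (h.trans (card_subgroup_dvd_card _))
  have hPmem : ∀ a : N, (∃ k : ℕ, orderOf a = 2 ^ k) → a ∈ (P : Subgroup N) := by
    rintro a ⟨k, hk⟩
    obtain ⟨Q, hQ⟩ := (IsPGroup.of_card (p := 2) (n := k) (by rw [Nat.card_zpowers, hk]) :
      IsPGroup 2 (zpowers a)).exists_le_sylow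
    haveI := Sylow.unique_of_normal P hPn
    exact Subsingleton.elim Q P ▸ hQ (mem_zpowers a)
  have htN : (⟨t, mem_CC.2 (Commute.refl t)⟩ : CC t) ∈ N := by
    rw [hNdef, mem_comap, bar_eq_one.2 (mem_zpowers t)]
    exact one_mem _
  refine ⟨{
    u := u
    S0 := S0
    O := O
    u_ord := hu
    u_mem := mem_CC.2 hut
    u_self := fun g hg hgu => hs g (mem_CC.1 hg) hgu
    two := (P.isPGroup'.map _).map _
    odd := by
      rw [hO, card_map_of_injective (CC t).subtype_injective,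
        card_map_of_injective N.subtype_injective]
      exact hKodd
    O3 := h3O
    S3 := h3S
    t_mem := ⟨⟨t, mem_CC.2 (Commute.refl t)⟩, ⟨⟨_, htN⟩, hPmem _ ⟨1, by
      rw [Subgroup.orderOf_mk, Subgroup.orderOf_mk, ht, pow_one]⟩, rfl⟩, rfl⟩
    S0_le := map_subtype_le _
    O_le := map_subtype_le _
    comm := ?_
    normS := ?_
    normO := ?_
    dec := ?_ }⟩
  · rintro _ ⟨_, ⟨a, ha, rfl⟩, rfl⟩ _ ⟨_, ⟨b, hb, rfl⟩, rfl⟩
    exact ((hcomm a ha b hb).map N.subtype).map (CC t).subtype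
  · rintro g hg _ ⟨_, ⟨a, ha, rfl⟩, rfl⟩
    let c : CC t := ⟨g, hg⟩
    refine ⟨c * a * c⁻¹, ⟨⟨_, hNn.conj_mem _ a.2 c⟩, hPmem _ ?_, rfl⟩, rfl⟩
    obtain ⟨k, hk⟩ := IsPGroup.iff_orderOf.1 P.isPGroup' ⟨a, ha⟩
    refine ⟨k, ?_⟩
    rw [Subgroup.orderOf_mk] at hk
    rw [Subgroup.orderOf_mk, orderOf_conj, orderOf_coe, hk]
  · rintro g hg _ ⟨_, ⟨a, ha, rfl⟩, rfl⟩
    let c : CC t := ⟨g, hg⟩
    refine ⟨c * a * c⁻¹, ⟨⟨_, hNn.conj_mem _ a.2 c⟩, (hKmem _).2 ?_, rfl⟩, rfl⟩
    rw [Subgroup.orderOf_mk, orderOf_conj, orderOf_coe]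
    exact (hKmem a).1 ha
  · intro g hg
    let c : CC t := ⟨g, hg⟩
    -- conjugates of `⟨u⟩` under the preimage of a Sylow 3-subgroup
    have h3C : ¬ 9 ∣ Nat.card (CC t) := by
      intro h9
      have h1 : Nat.card (CC t) ∣ Nat.card N * 6 := by
        rw [← N.card_mul_index, hNdef, index_comap_of_surjective Nb (QuotientGroup.mk'_surjective _)]
        exact Nat.mul_dvd_mul_left _ hq
      have h2 : 3 ^ 2 ∣ Nat.card N * 6 := h9.trans h1
      have h4 : 3 ^ 2 ∣ 6 := (((Nat.Prime.coprime_iff_not_dvd Nat.prime_three).2 h3N).pow_left 2).dvd_of_dvd_mul_left h2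
      norm_num at h4
    obtain ⟨Q, hQ⟩ := (IsPGroup.of_card (p := 3) (n := 1) (by
      rw [Nat.card_zpowers, ← orderOf_coe, pow_one]; exact hu) : IsPGroup 3 (zpowers U)).exists_le_sylow
    have hQU : (Q : Subgroup (CC t)) = zpowers U := by
      refine (eq_of_le_of_card_ge hQ ?_).symm
      obtain ⟨k, hk⟩ := Q.isPGroup'.exists_card_eq
      rw [Nat.card_zpowers, ← orderOf_coe, hk]
      have hk1 : k ≤ 1 := by
        by_contra hlt
        exact h3C (((pow_dvd_pow 3 (show 2 ≤ k by omega)).trans (hk ▸ dvd_rfl)).trans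
          (card_subgroup_dvd_card (Q : Subgroup (CC t))))
      exact le_trans (Nat.pow_le_pow_right (by norm_num) hk1) (by rw [show ((U : CC t) : G) = u from rfl, hu])
    set M : Subgroup (CC t) := N ⊔ zpowers U with hM
    have hUN : U ∉ N := fun h => h3N (by
      have := orderOf_dvd_natCard N h
      rwa [← orderOf_coe, show ((U : CC t) : G) = u from rfl, hu] at this)
    have hrel : N.relIndex M = 3 := by
      rw [hM, sup_comm, relIndex_sup_right, ← inf_relIndex_right]
      have hbot : N ⊓ zpowers U = ⊥ := by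
        refine eq_bot_of_card_eq _ (Nat.dvd_one.1 ?_)
        have hco : Nat.Coprime (Nat.card N) (Nat.card (zpowers U)) := by
          rw [Nat.card_zpowers, ← orderOf_coe, show ((U : CC t) : G) = u from rfl, hu]
          exact ((Nat.Prime.coprime_iff_not_dvd Nat.prime_three).2 h3N).symm
        exact hco ▸ Nat.dvd_gcd (card_dvd_of_le inf_le_left) (card_dvd_of_le inf_le_right)
      rw [hbot, relIndex_bot_left, Nat.card_zpowers, ← orderOf_coe]
      exact hu
    haveI hMn : M.Normal := by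
      have h1 : 3 * M.index ∣ 6 := by
        rw [← hrel, relIndex_mul_index le_sup_left, hNdef,
          index_comap_of_surjective Nb (QuotientGroup.mk'_surjective _)]
        exact hq
      have h2 : M.index ∣ 2 := Nat.dvd_of_mul_dvd_mul_left (by norm_num : 0 < 3) (by simpa using h1)
      rcases (Nat.dvd_prime Nat.prime_two).1 h2 with e | e
      · rw [index_eq_one.1 e]; infer_instance
      · exact normal_of_index_eq_two e
    have hQM : (Q : Subgroup (CC t)) ≤ M := hQU ▸ le_sup_right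
    have htop := Sylow.normalizer_sup_eq_top' Q hQM
    have hc : c ∈ normalizer ((Q : Subgroup (CC t)) : Set (CC t)) ⊔ M := htop ▸ mem_top c
    obtain ⟨a, ha, m, hm, hcm⟩ := mem_sup_of_normal_right.1 hc
    have hm' : a * m * a⁻¹ ∈ N ⊔ zpowers U := hMn.conj_mem m hm a
    obtain ⟨n, hn, z, hz, hnz⟩ := mem_sup_of_normal_left.1 hm'
    obtain ⟨q, hq', o, ho, hno⟩ := hmemN n hn
    refine ⟨q, hq', o, ho, ((z * a : CC t) : G), (z * a).2, ?_, ?_⟩
    · rw [← hno, ← Subgroup.coe_mul]
      refine congrArg Subtype.val (show c = n * (z * a) from ?_)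
      rw [← mul_assoc, hnz, inv_mul_cancel_right, hcm]
    · have hza : z * a ∈ normalizer ((Q : Subgroup (CC t)) : Set (CC t)) :=
        mul_mem (le_normalizer (hQU ▸ hz : z ∈ (Q : Subgroup (CC t)))) ha
      have h4 := (mem_normalizer_iff.1 hza U).1 (hQU ▸ mem_zpowers U)
      rw [hQU] at h4
      obtain ⟨k, hk⟩ := mem_zpowers_iff.1 h4
      have hk' : ((z * a : CC t) : G) * u * ((z * a : CC t) : G)⁻¹ = u ^ k :=
        (congrArg Subtype.val hk).symm
      rw [hk']
      rw [← zpow_mod_orderOf, hu] at hk' ⊢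
      rcases (show k % ((3 : ℕ) : ℤ) = 0 ∨ k % ((3 : ℕ) : ℤ) = 1 ∨ k % ((3 : ℕ) : ℤ) = 2 by omega)
        with e | e | e <;> rw [e] at hk' ⊢
      · rw [zpow_zero, conj_eq_one_iff] at hk'
        rw [hk', orderOf_one] at hu
        omega
      · exact Or.inl (zpow_one u)
      · refine Or.inr (eq_inv_of_mul_eq_one_left ?_)
        rw [← zpow_add_one, show (2 : ℤ) + 1 = ((3 : ℕ) : ℤ) from rfl, zpow_natCast, ← hu, pow_orderOf_eq_one]

end Cfsg.Agent.SixCent
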