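import Cfsg.Agent.Lib.SixCent.Basic
import Cfsg.Agent.Lib.Transfer.Fusion

/-!
Sylow 2-subgroups inside the centraliser of an involution, and fusion lemmas.
-/

set_option autoImplicit false
set_option linter.style.haveILetI false
set_option linter.unusedSectionVars false

open scoped commutatorElement
open Subgroup

namespace Cfsg.Agent.SixCent

universe v

variable {G : Type v} [Group G] [Finite G]

theorem mem_smul_sylow {S : Sylow 2 G} {g a : G} :
    a ∈ (↑(g • S : Sylow 2 G) : Subgroup G) ↔ g⁻¹ * a * g ∈ (S : Subgroup G) := by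
  rw [Sylow.coe_subgroup_smul, Subgroup.mem_pointwise_smul_iff_inv_smul_mem, ← map_inv,
    MulAut.smul_def, MulAut.conj_apply, inv_inv]

/-- Every involution is central in some Sylow 2-subgroup. -/
theorem exists_sylow_cc (h : Hyp G) {t : G} (ht : orderOf t = 2) :
    ∃ S : Sylow 2 G, (S : Subgroup G) ≤ CC t := by
  haveI : Fact (Nat.Prime 2) := ⟨Nat.prime_two⟩
  obtain ⟨P⟩ : Nonempty (Sylow 2 G) := inferInstance
  have hne : Nontrivial (P : Subgroup G) := by
    rw [Subgroup.nontrivial_iff_ne_bot]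
    exact P.ne_bot_of_dvd_card (ht ▸ orderOf_dvd_natCard t)
  haveI := P.isPGroup'.center_nontrivial
  obtain ⟨⟨z, hz⟩, hz'⟩ := exists_prime_orderOf_dvd_card' (G := center (P : Subgroup G)) 2 (by
    obtain ⟨k, hk⟩ := (P.isPGroup'.to_subgroup (center (P : Subgroup G))).exists_card_eq
    have h1 := Finite.one_lt_card (α := center (P : Subgroup G))
    rw [hk] at h1 ⊢
    refine dvd_pow_self 2 ?_
    rintro rfl
    simp at h1)
  rw [Subgroup.orderOf_mk] at hz'
  obtain ⟨c, hc⟩ := isConj_iff.1 (h.one (z : G) t (by rw [orderOf_coe, hz']) ht)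
  refine ⟨c • P, fun a ha => mem_CC.2 ?_⟩
  have h2 : Commute (c⁻¹ * a * c) (z : G) :=
    congrArg Subtype.val (mem_center_iff.1 hz ⟨_, mem_smul_sylow.1 ha⟩)
  have h3 := h2.map (MulAut.conj c).toMonoidHom
  rw [← hc]
  simpa [mul_assoc] using h3

/-- Burnside: conjugate elements of the centre of a Sylow subgroup are conjugate in its normaliser. -/
theorem fusion_center (S : Sylow 2 G) {a b : G} (ha : ∀ s ∈ (S : Subgroup G), Commute s a)
    (hb : ∀ s ∈ (S : Subgroup G), Commute s b) (hab : IsConj a b) :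
    ∃ n ∈ normalizer ((S : Subgroup G) : Set G), n * a * n⁻¹ = b := by
  haveI : Fact (Nat.Prime 2) := ⟨Nat.prime_two⟩
  obtain ⟨g, hg⟩ := isConj_iff.1 hab
  obtain ⟨n, hn, e⟩ := Fusion.conj_normalizer_of_conj S {a} {b}
    (fun x hx => by rw [Set.image_singleton, (ha x hx).eq, mul_inv_cancel_right])
    (fun x hx => by rw [Set.image_singleton, (hb x hx).eq, mul_inv_cancel_right]) g
    (by rw [Set.image_singleton, hg])
  rw [Set.image_singleton, Set.singleton_eq_singleton_iff] at e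
  exact ⟨n, hn, e⟩

/-- An abelian subgroup of a Sylow subgroup that is the only conjugate of itself there controls
the fusion of its elements. -/
theorem fusion_weakly_closed (S : Sylow 2 G) (E : Subgroup G) (hES : E ≤ (S : Subgroup G))
    (hab : ∀ x ∈ E, ∀ y ∈ E, Commute x y)
    (huniq : ∀ g : G, (∀ x ∈ E, g * x * g⁻¹ ∈ (S : Subgroup G)) → ∀ x ∈ E, g * x * g⁻¹ ∈ E)
    {a b : G} (ha : a ∈ E) (hb : b ∈ E) (hconj : IsConj a b) :
    ∃ n ∈ normalizer (E : Set G), n * a * n⁻¹ = b := by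
  haveI : Fact (Nat.Prime 2) := ⟨Nat.prime_two⟩
  obtain ⟨g, hg⟩ := isConj_iff.1 hconj
  set C := CC b with hC
  have hEC : E ≤ C := fun x hx => mem_CC.2 (hab x hx b hb)
  let φ := (MulAut.conj g).toMonoidHom
  have hgEC : E.map φ ≤ C := by
    rintro _ ⟨x, hx, rfl⟩
    refine mem_CC.2 ?_
    have h1 := (hab x hx a ha).map φ
    rwa [show φ a = b from hg] at h1
  have hE2 : IsPGroup 2 E := S.isPGroup'.to_le hES
  have p1 : IsPGroup 2 (E.subgroupOf C) := hE2.comap_subtype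
  have p2 : IsPGroup 2 ((E.map φ).subgroupOf C) := (hE2.map φ).comap_subtype
  obtain ⟨R1, hR1⟩ := p1.exists_le_sylow
  obtain ⟨R2, hR2⟩ := p2.exists_le_sylow
  obtain ⟨c, hc⟩ := MulAction.exists_smul_eq C R2 R1
  obtain ⟨S', hS'⟩ := (R1.isPGroup'.map C.subtype).exists_le_sylow
  obtain ⟨k, hk⟩ := MulAction.exists_smul_eq G S' S
  have q1 : ∀ x ∈ E, k * x * k⁻¹ ∈ (S : Subgroup G) := fun x hx => by
    rw [← hk, mem_smul_sylow]
    have : x ∈ (S' : Subgroup G) := hS' ⟨⟨x, hEC hx⟩, hR1 hx, rfl⟩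
    simpa [mul_assoc] using this
  have q2 : ∀ x ∈ E, (k * c * g) * x * (k * c * g)⁻¹ ∈ (S : Subgroup G) := fun x hx => by
    rw [← hk, mem_smul_sylow]
    have hx' : g * x * g⁻¹ ∈ C := hgEC ⟨x, hx, rfl⟩
    have h1 : (⟨g * x * g⁻¹, hx'⟩ : C) ∈ (R2 : Subgroup C) := hR2 (mem_subgroupOf.2 ⟨x, hx, rfl⟩)
    have h2 : c * ⟨g * x * g⁻¹, hx'⟩ * c⁻¹ ∈ (R1 : Subgroup C) := by
      rw [← hc, Sylow.coe_subgroup_smul, Subgroup.mem_pointwise_smul_iff_inv_smul_mem, ← map_inv,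
        MulAut.smul_def, MulAut.conj_apply, inv_inv]
      simpa [mul_assoc] using h1
    have h3 : ((c * ⟨g * x * g⁻¹, hx'⟩ * c⁻¹ : C) : G) ∈ (S' : Subgroup G) := hS' ⟨_, h2, rfl⟩
    simpa [mul_assoc] using h3
  have hnorm : ∀ m : G, (∀ x ∈ E, m * x * m⁻¹ ∈ E) → m ∈ normalizer (E : Set G) := by
    intro m hm
    have heq : E.map (MulAut.conj m).toMonoidHom = E := by
      refine eq_of_le_of_card_ge ?_ (card_map_of_injective (MulAut.conj m).injective).ge
      rintro _ ⟨x, hx, rfl⟩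
      exact hm x hx
    refine mem_normalizer_iff.2 fun x => ⟨hm x, fun hx => ?_⟩
    obtain ⟨y, hy, e⟩ := heq.symm ▸ hx
    rwa [← (MulAut.conj m).injective e]
  refine ⟨k⁻¹ * (k * c * g), mul_mem (inv_mem (hnorm _ (huniq _ q1))) (hnorm _ (huniq _ q2)), ?_⟩
  rw [show k⁻¹ * (k * (c : G) * g) = (c : G) * g by group,
    show (c : G) * g * a * ((c : G) * g)⁻¹ = (c : G) * (g * a * g⁻¹) * (c : G)⁻¹ by group, hg]
  exact mul_inv_eq_iff_eq_mul.2 (mem_CC.1 c.2).eq

namespace Sol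

variable {t : G} (d : Sol t) (ht : orderOf t = 2)

theorem S0_le_sylow (S : Sylow 2 G) (hS : (S : Subgroup G) ≤ CC t) : d.S0 ≤ (S : Subgroup G) := by
  have h1 : IsPGroup 2 (d.S0 ⊔ (S : Subgroup G) : Subgroup G) :=
    d.two.to_sup_of_normal_left' S.isPGroup'
      (hS.trans (norm_of_conj fun g hg q hq => d.normS g hg q hq))
  exact (S.is_maximal' h1 le_sup_right) ▸ le_sup_left

include ht in
/-- An element of a 2-subgroup outside `S0` yields an element inverting `u`. -/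
theorem exists_inverter {y : G} (hy : y ∈ CC t) (h2 : ∃ k : ℕ, orderOf y = 2 ^ k) (hy0 : y ∉ d.S0) :
    ∃ s ∈ CC t, s * s ∈ zpowers t ∧ s * d.u * s⁻¹ = d.u⁻¹ := by
  obtain ⟨q, hq, o, ho, w, hw, -, hwu⟩ := (d.two_element ht hy h2).resolve_left hy0
  have h1 : Commute (w * w) d.u := by
    refine mul_inv_eq_iff_eq_mul.1 ?_
    calc w * w * d.u * (w * w)⁻¹ = w * (w * d.u * w⁻¹) * w⁻¹ := by group
      _ = w * d.u⁻¹ * w⁻¹ := by rw [hwu]
      _ = (w * d.u * w⁻¹)⁻¹ := by group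
      _ = d.u := by rw [hwu, inv_inv]
  obtain ⟨a, ha, b, hb, e⟩ := d.u_self (w * w) (mul_mem hw hw) h1
  refine ⟨w * w * w, mul_mem (mul_mem hw hw) hw, ?_, ?_⟩
  · have hab : Commute a b := by
      obtain ⟨i, rfl⟩ := mem_zpowers_iff.1 ha
      obtain ⟨j, rfl⟩ := mem_zpowers_iff.1 hb
      exact ((mem_CC.1 d.u_mem).symm.zpow_zpow i j)
    have hb3 : b ^ 3 = 1 := by
      obtain ⟨j, rfl⟩ := mem_zpowers_iff.1 hb
      rw [← zpow_natCast, ← zpow_mul, mul_comm, zpow_mul, zpow_natCast, d.u_cube, one_zpow]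
    rw [show w * w * w * (w * w * w) = (w * w) ^ 3 by simp only [pow_three, mul_assoc], e, hab.mul_pow, hb3, mul_one]
    exact pow_mem ha 3
  · calc w * w * w * d.u * (w * w * w)⁻¹
        = w * w * (w * d.u * w⁻¹) * (w * w)⁻¹ := by group
      _ = d.u⁻¹ := by rw [hwu, h1.inv_right.eq, mul_inv_cancel_right]

end Sol

end Cfsg.Agent.SixCent
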