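import Cfsg.Agent.Lib.SixCent.Outer
import Cfsg.Agent.Lib.SmallCent.Main
import Cfsg.Agent.Lib.GW.Main

/-!
A 2-radical of order 2 gives `L₂(11)` or `L₂(13)`.
-/

set_option autoImplicit false
set_option linter.style.haveILetI false
set_option linter.unusedSectionVars false

open Subgroup

namespace Cfsg.Agent.SixCent

universe v

variable {G : Type v} [Group G] [Finite G]

/-- A Sylow subgroup in the centraliser of an involution contains another one. -/
theorem exists_other_invol (h : Hyp G) [IsSimpleGroup G] {t : G} (ht : orderOf t = 2) (S : Sylow 2 G) :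
    ∃ y ∈ (S : Subgroup G), orderOf y = 2 ∧ y ≠ t := by
  by_contra hh
  push Not at hh
  haveI : Fact (Nat.Prime 2) := ⟨Nat.prime_two⟩
  refine SmallCent.not_rankOne h.ncyc (ht ▸ orderOf_dvd_natCard t) fun a b ha hb hab => ?_
  have hA : Elem (zpowers a ⊔ zpowers b) :=
    (elem_zpowers (sq_eq_one_of_invol ha)).sup (sq_eq_one_of_invol hb) fun z hz => by
      obtain ⟨i, rfl⟩ := mem_zpowers_iff.1 hz
      exact (hab.zpow_left i).symm
  obtain ⟨P, hP⟩ := (show IsPGroup 2 (zpowers a ⊔ zpowers b : Subgroup G) from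
    fun x => ⟨1, Subtype.ext (by
      rw [pow_one, SubmonoidClass.coe_pow, pow_two]; exact hA x x.2)⟩).exists_le_sylow
  obtain ⟨k, hk⟩ := MulAction.exists_smul_eq G S P
  have key : ∀ x : G, orderOf x = 2 → x ∈ (P : Subgroup G) → k⁻¹ * x * k = t := by
    intro x hx hxP
    rw [← hk, mem_smul_sylow] at hxP
    refine hh _ hxP ?_
    have := orderOf_conj k⁻¹ x
    rwa [inv_inv, hx] at this
  have e1 := key a ha (hP (mem_sup_left (mem_zpowers a)))
  have e2 := key b hb (hP (mem_sup_right (mem_zpowers b)))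
  exact mul_left_cancel (mul_right_cancel (e1.trans e2.symm))

theorem alt5_no_six : ∀ x : alternatingGroup (Fin 5), x ^ 6 = 1 → x ^ 3 = 1 ∨ x ^ 2 = 1 := by
  decide +kernel

namespace Sol

variable {t : G} (d : Sol t) (ht : orderOf t = 2) (h : Hyp G) [IsSimpleGroup G]
  (h2 : Nat.card d.S0 = 2)

include d ht h h2 in
/-- The case of a 2-radical of order 2. -/
theorem two_case {x : G} (hx : orderOf x = 6) (hC : centralizer ({x} : Set G) = zpowers x) :
    ∃ (F : Type) (_ : Field F) (_ : Fintype F), (Fintype.card F = 11 ∨ Fintype.card F = 13) ∧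
      Nonempty (G ≃* Matrix.ProjectiveSpecialLinearGroup (Fin 2) F) := by
  classical
  haveI : Fact (Nat.Prime 2) := ⟨Nat.prime_two⟩
  obtain ⟨S, hS⟩ := exists_sylow_cc h ht
  have hT : zpowers t = d.S0 := eq_of_le_of_card_ge d.T_le (by rw [h2, card_T ht])
  have hS4 : Nat.card (S : Subgroup G) ≤ 4 := by
    have h1 := d.card_le_two_mul ht (P := (S : Subgroup G)) S.isPGroup' hS
    have h3 := card_le_of_le (inf_le_right : (S : Subgroup G) ⊓ d.S0 ≤ d.S0)
    omega
  obtain ⟨y, hyS, hy, hyt⟩ := exists_other_invol h ht S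
  set K := zpowers t ⊔ zpowers y with hK
  have hKS : K ≤ (S : Subgroup G) :=
    sup_le (hT ▸ d.S0_le_sylow S hS) (zpowers_le.2 hyS)
  have hKel : Elem K := (elem_zpowers (sq_eq_one_of_invol ht)).sup (sq_eq_one_of_invol hy) fun z hz =>
    T_cent hz (hS hyS)
  have hyT : y ∉ zpowers t := fun hm => by
    rcases mem_zpowers_two ht hm with e | e
    · exact ne_one_of_invol hy e
    · exact hyt e
  have hK4 : 4 ≤ Nat.card K := by
    have := sup_double hyT
    rw [card_T ht] at this
    exact this
  have hKeq : K = (S : Subgroup G) := eq_of_le_of_card_ge hKS (by omega)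
  have hS4' : Nat.card (S : Subgroup G) = 4 := le_antisymm hS4 (hKeq ▸ hK4)
  haveI : IsKleinFour (S : Subgroup G) := by
    refine ⟨hS4', (Nat.dvd_prime Nat.prime_two).1 (Monoid.exponent_dvd_of_forall_pow_eq_one
      fun a => Subtype.ext (by rw [pow_two]; exact hKel _ (hKeq.ge a.2))) |>.resolve_left fun he => ?_⟩
    haveI := Monoid.exp_eq_one_iff.1 he
    rw [Nat.card_eq_one_iff_unique.2 ⟨inferInstance, inferInstance⟩] at hS4'
    omega
  have h8 : ¬ 8 ∣ Nat.card G := fun h8 => by
    have := S.pow_dvd_card_of_pow_dvd_card (n := 3) h8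
    rw [hS4'] at this
    norm_num at this
  rcases GW.simpleDihedral G S 2 le_rfl IsKleinFour.nonempty_mulEquiv with
    ⟨F, _, _, hodd, h3, ⟨e⟩⟩ | ⟨⟨e⟩⟩
  swap
  · exfalso
    refine h8 ?_
    rw [Nat.card_congr e.toEquiv, nat_card_alternatingGroup, Nat.card_fin]
    decide +kernel
  have hchar : (2 : F) ≠ 0 := by
    refine Ring.two_ne_zero fun hchar => ?_
    have := FiniteField.even_card_of_char_two hchar
    rw [Nat.odd_iff] at hodd
    omega
  have hx1 : e x ≠ 1 := fun he => by
    rw [MulEquiv.map_eq_one_iff] at he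
    rw [he, orderOf_one] at hx
    omega
  have hle := SmallCent.psl_centralizer_large hchar (e x) hx1
  have hcen : Nat.card (centralizer ({e x} : Set (Matrix.ProjectiveSpecialLinearGroup (Fin 2) F))) ≤ 6 := by
    refine le_trans (Nat.card_le_card_of_injective
      (fun c => (⟨e.symm c, mem_centralizer_singleton_iff.2 (e.injective
        (by simp [mem_centralizer_singleton_iff.1 c.2]))⟩ : centralizer ({x} : Set G)))
      fun a b hab => Subtype.ext (e.symm.injective (congrArg Subtype.val hab))) ?_
    rw [hC, Nat.card_zpowers, hx]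
  have hq : Fintype.card F = 5 ∨ Fintype.card F = 7 ∨ Fintype.card F = 9 ∨
      Fintype.card F = 11 ∨ Fintype.card F = 13 := by
    rw [Nat.odd_iff] at hodd
    omega
  have hcard := SmallCent.card_psl F
  rw [← Nat.card_congr e.toEquiv] at hcard
  rcases hq with hq | hq | hq | hq | hq
  · exfalso
    rw [hq] at hcard
    norm_num at hcard
    obtain ⟨a⟩ := S0494.result (G := G) (show Nat.card G = 60 by omega)
    rcases alt5_no_six (a x) (by rw [← map_pow, ← hx, pow_orderOf_eq_one, map_one]) with h' | h' <;>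
      rw [← map_pow, MulEquiv.map_eq_one_iff] at h' <;>
      · have := orderOf_dvd_of_pow_eq_one h'
        rw [hx] at this
        norm_num at this
  · exfalso
    rw [hq] at hcard
    norm_num at hcard
    exact h8 (by rw [show Nat.card G = 168 by omega]; norm_num)
  · exfalso
    rw [hq] at hcard
    norm_num at hcard
    exact h8 (by rw [show Nat.card G = 360 by omega]; norm_num)
  · exact ⟨F, inferInstance, inferInstance, Or.inl hq, ⟨e⟩⟩
  · exact ⟨F, inferInstance, inferInstance, Or.inr hq, ⟨e⟩⟩

end Sol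

end Cfsg.Agent.SixCent
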